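import Cfsg.Agent.Lib.GWKlein.Defs
import Cfsg.Agent.Lib.ZStar.KleinBlock
import Cfsg.Agent.Lib.Cores.Basic
import Cfsg.Agent.Lib.Involution.Basic
import Cfsg.Agent.S0205

/-!
# Gorenstein-Walter, Klein case: basic facts about `fourV`, `coreU` and `coreW`
-/

set_option autoImplicit false

namespace Cfsg.Agent.GWKlein

open Subgroup

variable {G : Type*} [Group G] {t r s : G}

theorem left_mem_fourV (t r : G) : t ∈ fourV t r := subset_closure (Set.mem_insert _ _)

theorem right_mem_fourV (t r : G) : r ∈ fourV t r := subset_closure (Set.mem_insert_of_mem _ rfl)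

theorem fourV_le_iff {H : Subgroup G} : fourV t r ≤ H ↔ t ∈ H ∧ r ∈ H := by
  rw [fourV, closure_le, Set.insert_subset_iff, Set.singleton_subset_iff]; rfl

theorem fourV_le_centralizer_iff {S : Set G} :
    fourV t r ≤ centralizer S ↔ t ∈ centralizer S ∧ r ∈ centralizer S := fourV_le_iff

theorem mem_centralizer_fourV {x : G} :
    x ∈ centralizer (fourV t r : Set G) ↔ Commute x t ∧ Commute x r := by
  rw [fourV, centralizer_closure, mem_centralizer_iff]
  simp only [Set.mem_insert_iff, Set.mem_singleton_iff, forall_eq_or_imp, forall_eq]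
  exact ⟨fun h => ⟨h.1.symm, h.2.symm⟩, fun h => ⟨h.1.symm, h.2.symm⟩⟩

namespace Hyp

theorem mul_self_t (h : Hyp t r s) : t * t = 1 := Involution.mul_self h.order_t

theorem mul_self_r (h : Hyp t r s) : r * r = 1 := Involution.mul_self h.order_r

theorem ne_one_t (h : Hyp t r s) : t ≠ 1 := Involution.ne_one h.order_t

theorem ne_one_r (h : Hyp t r s) : r ≠ 1 := Involution.ne_one h.order_r

theorem t_mul_ne_one (h : Hyp t r s) : t * r ≠ 1 := fun e => h.ne <| by
  rw [eq_inv_of_mul_eq_one_left e, Involution.inv_eq h.order_r]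

theorem order_mul (h : Hyp t r s) : orderOf (t * r) = 2 :=
  Involution.orderOf_of_sq (by rw [h.comm.symm.mul_mul_mul_comm, h.mul_self_t, h.mul_self_r, one_mul]) h.t_mul_ne_one

theorem conj_mul (h : Hyp t r s) : s * (t * r) * s⁻¹ = t := by
  rw [← _root_.conj_mul, h.conj_t, h.conj_r, h.comm.eq, ← mul_assoc, h.mul_self_r, one_mul]

theorem fourV_rot (h : Hyp t r s) : fourV r (t * r) = fourV t r := by
  refine le_antisymm (fourV_le_iff.2 ⟨right_mem_fourV t r, mul_mem (left_mem_fourV t r) (right_mem_fourV t r)⟩)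
    (fourV_le_iff.2 ⟨?_, left_mem_fourV r _⟩)
  have e := mul_mem (right_mem_fourV r (t * r)) (left_mem_fourV r (t * r))
  rwa [mul_assoc, h.mul_self_r, mul_one] at e

/-- The setting is invariant under `t ↦ r ↦ t * r`. -/
theorem rot (h : Hyp t r s) : Hyp r (t * r) s where
  order_t := h.order_r
  order_r := h.order_mul
  ne := fun e => h.ne_one_t (mul_eq_right.1 e.symm)
  comm := h.comm.symm.mul_right (Commute.refl r)
  sylow := by rw [h.fourV_rot]; exact h.sylow
  conj_t := h.conj_r
  conj_r := by rw [h.conj_mul, h.comm.eq, ← mul_assoc, h.mul_self_r, one_mul]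

theorem mem_iff (h : Hyp t r s) {x : G} :
    x ∈ fourV t r ↔ x = 1 ∨ x = t ∨ x = r ∨ x = t * r := by
  constructor
  · intro hx
    let K : Subgroup G :=
      { carrier := {x | x = 1 ∨ x = t ∨ x = r ∨ x = t * r}
        one_mem' := Or.inl rfl
        mul_mem' := by
          have e1 : r * t = t * r := h.comm.symm.eq
          have e2 : t * (t * r) = r := by rw [← mul_assoc, h.mul_self_t, one_mul]
          have e3 : r * (t * r) = t := by rw [← mul_assoc, e1, mul_assoc, h.mul_self_r, mul_one]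
          have e4 : t * r * t = r := by rw [mul_assoc, e1, e2]
          have e5 : t * r * r = t := by rw [mul_assoc, h.mul_self_r, mul_one]
          have e6 : t * r * (t * r) = 1 := Involution.mul_self h.order_mul
          rintro a b (rfl | rfl | rfl | rfl) (rfl | rfl | rfl | rfl) <;>
            simp [h.mul_self_t, h.mul_self_r, e1, e2, e3, e4, e5, e6]
        inv_mem' := by
          rintro a (rfl | rfl | rfl | rfl)
          · exact Or.inl inv_one
          · exact Or.inr (Or.inl (Involution.inv_eq h.order_t))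
          · exact Or.inr (Or.inr (Or.inl (Involution.inv_eq h.order_r)))
          · exact Or.inr (Or.inr (Or.inr (Involution.inv_eq h.order_mul))) }
    exact (closure_le K).2 (Set.insert_subset (Or.inr (Or.inl rfl))
      (Set.singleton_subset_iff.2 (Or.inr (Or.inr (Or.inl rfl))))) hx
  · rintro (rfl | rfl | rfl | rfl)
    · exact one_mem _
    · exact left_mem_fourV _ _
    · exact right_mem_fourV _ _
    · exact mul_mem (left_mem_fourV t r) (right_mem_fourV t r)

theorem card_fourV (h : Hyp t r s) : Nat.card (fourV t r) = 4 := by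
  have e : ((fourV t r : Subgroup G) : Set G) = {1, t, r, t * r} := by
    ext x; rw [SetLike.mem_coe, h.mem_iff]; simp
  rw [← SetLike.coe_sort_coe, e, Nat.card_coe_set_eq]
  have h1 : t * r ≠ t := fun e => h.ne_one_r (mul_eq_left.1 e)
  have h2 : t * r ≠ r := fun e => h.ne_one_t (mul_eq_right.1 e)
  rw [Set.ncard_insert_of_notMem, Set.ncard_insert_of_notMem, Set.ncard_pair (Ne.symm h2)]
  · simp [h.ne, h1.symm]
  · simp [h.ne_one_t.symm, h.ne_one_r.symm, h.t_mul_ne_one.symm]

theorem isKleinFour (h : Hyp t r s) : IsKleinFour (fourV t r) := by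
  refine ⟨h.card_fourV, ?_⟩
  have hd : Monoid.exponent (fourV t r) ∣ 2 := Monoid.exponent_dvd_of_forall_pow_eq_one fun a => Subtype.ext <| by
    rcases h.mem_iff.1 a.2 with e | e | e | e <;> simp [e, pow_two, h.mul_self_t, h.mul_self_r,
      Involution.mul_self h.order_mul]
  rcases (Nat.dvd_prime Nat.prime_two).1 hd with he | he
  · haveI := Monoid.exp_eq_one_iff.1 he
    have := h.card_fourV
    rw [Nat.card_unique] at this
    omega
  · exact he

theorem conj_s_mem_fourV (h : Hyp t r s) : s ∈ normalizer (fourV t r : Set G) := by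
  have e : (fourV t r).map (MulAut.conj s).toMonoidHom = fourV t r := by
    rw [fourV, MonoidHom.map_closure, Set.image_pair]
    show closure ({s * t * s⁻¹, s * r * s⁻¹} : Set G) = _
    rw [h.conj_t, h.conj_r]
    exact h.fourV_rot
  refine mem_normalizer_iff.2 fun x => ?_
  constructor
  · intro hx; rw [← e]; exact ⟨x, hx, rfl⟩
  · intro hx
    obtain ⟨y, hy, hy'⟩ : s * x * s⁻¹ ∈ (fourV t r).map (MulAut.conj s).toMonoidHom := by rw [e]; exact hx
    rwa [← (MulAut.conj s).injective (a₁ := y) (a₂ := x) hy']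

variable [Finite G]

theorem fourV_le_centralizer_t (h : Hyp t r s) : fourV t r ≤ centralizer ({t} : Set G) :=
  fourV_le_iff.2 ⟨mem_centralizer_singleton_iff.2 rfl, mem_centralizer_singleton_iff.2 h.comm.symm.eq⟩

/-- The facts about the odd core of the centraliser of `t`. -/
theorem coreU_facts (h : Hyp t r s) :
    ¬ 2 ∣ Nat.card (coreU t) ∧ (∀ v, Commute v t → Odd (orderOf v) → v ∈ coreU t) ∧
      Nat.card (centralizer ({t} : Set G)) = 4 * Nat.card (coreU t) := by
  obtain ⟨P, hP⟩ := h.sylow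
  haveI : IsKleinFour (P : Subgroup G) := by rw [hP]; exact h.isKleinFour
  obtain ⟨K, hK2, hKz, hKn, hKall, hcard⟩ :=
    KleinBlock.exists_complement P h.order_t (z := t) (show t ∈ (P : Subgroup G) by rw [hP]; exact left_mem_fourV t r)
  set C := centralizer ({t} : Set G)
  have hodd : ¬ 2 ∣ Nat.card (coreU t) := by
    rw [coreU, Cores.card_map_subtype]; exact Cores.not_dvd_card_pPrimeCore
  have hKC : K ≤ C := fun o ho => mem_centralizer_singleton_iff.2 (hKz o ho).eq
  have hle : K ≤ coreU t := by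
    haveI : (K.subgroupOf C).Normal := ⟨fun o ho c => mem_subgroupOf.2
      (hKn c (mem_centralizer_singleton_iff.1 c.2) o (mem_subgroupOf.1 ho))⟩
    have h2 : K.subgroupOf C ≤ Cfsg.pPrimeCore 2 C := Cores.le_pPrimeCore inferInstance
      (((Nat.prime_two.coprime_iff_not_dvd).2 (by rwa [Cores.card_subgroupOf hKC])).symm)
    exact fun o ho => ⟨⟨o, hKC ho⟩, h2 (mem_subgroupOf.2 ho), rfl⟩
  have heq : K = coreU t := le_antisymm hle fun v hv => hKall v
    (mem_centralizer_singleton_iff.1 (map_subtype_le _ hv))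
    (Nat.not_even_iff_odd.1 fun he => hodd ((even_iff_two_dvd.1 he).trans (orderOf_dvd_natCard _ hv)))
  exact ⟨hodd, fun v hv ho => heq ▸ hKall v hv ho, heq ▸ hcard⟩

theorem not_two_dvd_coreU (h : Hyp t r s) : ¬ 2 ∣ Nat.card (coreU t) := h.coreU_facts.1

theorem odd_coreU (h : Hyp t r s) : Odd (Nat.card (coreU t)) :=
  Nat.not_even_iff_odd.1 fun e => h.not_two_dvd_coreU (even_iff_two_dvd.1 e)

theorem odd_orderOf (h : Hyp t r s) {v : G} (hv : v ∈ coreU t) : Odd (orderOf v) :=
  h.odd_coreU.of_dvd_nat (orderOf_dvd_natCard _ hv)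

theorem isSolvable_coreU (h : Hyp t r s) : Group.IsSolvable (coreU t) := S0205.result h.odd_coreU

end Hyp

theorem coreU_le_centralizer (t : G) : coreU t ≤ centralizer ({t} : Set G) := map_subtype_le _

theorem commute_of_mem_coreU {v : G} (hv : v ∈ coreU t) : Commute v t :=
  mem_centralizer_singleton_iff.1 (coreU_le_centralizer t hv)

theorem centralizer_le_normalizer_coreU (t : G) :
    centralizer ({t} : Set G) ≤ normalizer (coreU t : Set G) := by
  haveI := Cores.pPrimeCore_normal 2 (centralizer ({t} : Set G))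
  exact le_normalizer_map _ |>.trans' (by rw [normalizer_eq_top (Cfsg.pPrimeCore 2 (centralizer ({t} : Set G))),
    ← MonoidHom.range_eq_map, range_subtype])

theorem coreW_le_coreU (t r : G) : coreW t r ≤ coreU t := inf_le_left

namespace Hyp

variable [Finite G]

theorem mem_coreU (h : Hyp t r s) {v : G} : v ∈ coreU t ↔ Commute v t ∧ Odd (orderOf v) :=
  ⟨fun hv => ⟨commute_of_mem_coreU hv, h.odd_orderOf hv⟩, fun hv => h.coreU_facts.2.1 v hv.1 hv.2⟩

theorem card_centralizer (h : Hyp t r s) :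
    Nat.card (centralizer ({t} : Set G)) = 4 * Nat.card (coreU t) := h.coreU_facts.2.2

/-- `W` is the odd part of the centraliser of the four-group. -/
theorem mem_coreW (h : Hyp t r s) {v : G} :
    v ∈ coreW t r ↔ Commute v t ∧ Commute v r ∧ Odd (orderOf v) := by
  rw [coreW, mem_inf, h.mem_coreU, Involution.mem_centralizer_iff_commute]
  tauto

theorem coreW_rot (h : Hyp t r s) : coreW r (t * r) = coreW t r := by
  ext v
  rw [h.rot.mem_coreW, h.mem_coreW]
  constructor
  · rintro ⟨h1, h2, h3⟩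
    refine ⟨?_, h1, h3⟩
    have e := h2.mul_right h1
    rwa [mul_assoc, h.mul_self_r, mul_one] at e
  · rintro ⟨h1, h2, h3⟩; exact ⟨h2, h1.mul_right h2, h3⟩

theorem map_coreU (h : Hyp t r s) : (coreU t).map (MulAut.conj s).toMonoidHom = coreU r := by
  ext v
  rw [mem_map_equiv, h.mem_coreU, h.rot.mem_coreU, MulAut.conj_symm_apply]
  have h1 : orderOf (s⁻¹ * v * s) = orderOf v := by
    simpa using Involution.orderOf_conj s⁻¹ v
  rw [h1, ← h.conj_t]
  refine and_congr_left fun _ => ⟨fun hc => ?_, fun hc => ?_⟩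
  · have := hc.map (MulAut.conj s).toMonoidHom
    simpa [mul_assoc] using this
  · have := hc.map (MulAut.conj s⁻¹).toMonoidHom
    simpa [mul_assoc] using this

theorem s_mem_normalizer_coreW (h : Hyp t r s) : s ∈ normalizer (coreW t r : Set G) := by
  refine mem_normalizer_iff.2 fun v => ?_
  conv_rhs => rw [← h.coreW_rot, h.rot.mem_coreW, Involution.orderOf_conj]
  rw [h.mem_coreW]
  have hm : ∀ x : G, Commute v x ↔ Commute (s * v * s⁻¹) (s * x * s⁻¹) := fun x =>
    (commute_map_iff (f := (MulAut.conj s).toMonoidHom) (MulAut.conj s).injective).symm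
  rw [hm t, hm r, h.conj_t, h.conj_r]

theorem abelian_sylow_two (h : Hyp t r s) (T : Sylow 2 G) : IsMulCommutative T := by
  obtain ⟨P, hP⟩ := h.sylow
  haveI : Fact (Nat.Prime 2) := ⟨Nat.prime_two⟩
  haveI : IsKleinFour (P : Subgroup G) := by rw [hP]; exact h.isKleinFour
  let e := Sylow.equiv T P
  refine ⟨⟨fun a b => e.injective ?_⟩⟩
  rw [map_mul, map_mul]
  exact mul_comm_of_exponent_two IsKleinFour.exponent_two _ _

end Hyp

end Cfsg.Agent.GWKlein

namespace Cfsg.Agent.GWKlein

open Subgroup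

variable {G : Type*} [Group G] [Finite G] {t r s : G}

theorem Hyp.sup_fourV (h : Hyp t r s) :
    coreU t ⊔ fourV t r = centralizer ({t} : Set G) := by
  have hle : coreU t ⊔ fourV t r ≤ centralizer ({t} : Set G) :=
    sup_le (coreU_le_centralizer t) h.fourV_le_centralizer_t
  refine eq_of_le_of_card_ge hle (Nat.le_of_dvd Nat.card_pos ?_)
  rw [h.card_centralizer]
  refine Nat.Coprime.mul_dvd_of_dvd_of_dvd ?_ (h.card_fourV ▸ card_dvd_of_le le_sup_right) (card_dvd_of_le le_sup_left)
  rw [show (4 : ℕ) = 2 ^ 2 from rfl]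
  exact Nat.Coprime.pow_left 2 (Nat.coprime_two_left.2 h.odd_coreU)

theorem Hyp.fourV_le_normalizer_coreU (h : Hyp t r s) : fourV t r ≤ normalizer (coreU t : Set G) :=
  h.fourV_le_centralizer_t.trans (centralizer_le_normalizer_coreU t)

theorem Hyp.coreW_le_centralizer (h : Hyp t r s) : coreW t r ≤ centralizer (fourV t r : Set G) := fun _ hv =>
  mem_centralizer_fourV.2 ⟨(h.mem_coreW.1 hv).1, (h.mem_coreW.1 hv).2.1⟩

theorem Hyp.mem_coreW_of_odd (h : Hyp t r s) {v : G} (hv : v ∈ centralizer (fourV t r : Set G))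
    (ho : Odd (orderOf v)) : v ∈ coreW t r :=
  h.mem_coreW.2 ⟨(mem_centralizer_fourV.1 hv).1, (mem_centralizer_fourV.1 hv).2, ho⟩

/-- There is one class of involutions. -/
theorem Hyp.isConj_t (h : Hyp t r s) {x : G} (hx : orderOf x = 2) : IsConj t x := by
  obtain ⟨P, hP⟩ := h.sylow
  haveI : Fact (Nat.Prime 2) := ⟨Nat.prime_two⟩
  obtain ⟨Q, hQ⟩ := (IsPGroup.of_card (n := 1) (by rw [Nat.card_zpowers, hx, pow_one]) :
    IsPGroup 2 (zpowers x)).exists_le_sylow
  obtain ⟨g, hg⟩ := MulAction.exists_smul_eq G Q P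
  have hm : g * x * g⁻¹ ∈ fourV t r := by
    rw [← hP, ← hg]
    exact ⟨x, hQ (mem_zpowers x), rfl⟩
  have hne : g * x * g⁻¹ ≠ 1 := fun e => Involution.ne_one hx (by simpa using e)
  refine IsConj.trans ?_ (isConj_iff.2 ⟨g, rfl⟩ : IsConj x (g * x * g⁻¹)).symm
  rcases h.mem_iff.1 hm with e | e | e | e
  · exact absurd e hne
  · rw [e]
  · rw [e]; exact isConj_iff.2 ⟨s, h.conj_t⟩
  · rw [e]; exact (isConj_iff.2 ⟨s, h.conj_mul⟩ : IsConj (t * r) t).symm

end Cfsg.Agent.GWKlein
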