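import Cfsg.Agent.Lib.GWKlein.Defs
import Cfsg.Agent.Lib.Signalizer.Core
import Cfsg.Agent.Lib.Signalizer.GraphTrivial
import Cfsg.Agent.Lib.ConstrainedTrans.Transitivity
import Cfsg.Agent.Lib.Signalizer.SSFT.Main
import Cfsg.Agent.Lib.PLocal.ActionStable
import Cfsg.Agent.Lib.PLocal.ZJ
import Cfsg.Agent.Lib.PLocal.Constrained
import Cfsg.Agent.Lib.PLocal.Grows
import Cfsg.Agent.Lib.PGroup.Basic
import Cfsg.Agent.Lib.PNormal.RankTwo
import Cfsg.Agent.Lib.HallHigman.PSolvable
import Cfsg.Agent.S0100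

/-!
# Gorenstein-Walter, Klein four case: the maximal local subgroup over a rank three subgroup

All `p`-locals `p`-constrained with solvable `p'`-core (`PGood`), `p`-stable sections (e.g. abelian Sylow
2-subgroups: `pStableSections_of_abelian`), `p` odd
(section 2 of `GW_KLEIN.md` and of `GENERAL.md`).

* `kSub p F`: `⟨O_{p'}(C(a)) : a ∈ F#⟩`, a solvable `p'`-group for elementary `F` of rank 3
* `exists_const_kSub`: it does not depend on `F` inside a `p`-group
* `le_of_locals`: a `p`-constrained group is in `M` if the locals of its larger `p`-subgroups are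
* `locals_le`: growth
* `exists_overgroup_aux`: the general form, `M = K ⊔ N(ZJ S)`
* `exists_overgroup` (solvable locals), `exists_overgroup_simple` (simple group, `PGood`)
-/

set_option autoImplicit false

namespace Cfsg.Agent.GWKlein

open Subgroup
open scoped Pointwise

universe u

variable {G : Type u} [Group G] {p : ℕ}

/-- The subgroup generated by the cores `O_{p'}(C(a))`, `a ∈ F#`. -/
noncomputable abbrev kSub (p : ℕ) (F : Subgroup G) : Subgroup G :=
  Signalizer.wSub (fun a => Cfsg.centralizerPPrimeCore p a) F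

/-- All `p`-locals are `p`-constrained with solvable `p'`-core. -/
def PGood (G : Type*) [Group G] (p : ℕ) : Prop :=
  ∀ Q : Subgroup G, IsPGroup p Q → Q ≠ ⊥ →
    Group.IsSolvable (Cfsg.pPrimeCore p ↥(normalizer (Q : Set G))) ∧
      Cfsg.IsPConstrained p ↥(normalizer (Q : Set G))

/-- Sections of `G` are `p`-stable on their normal `p`-subgroups. -/
def PStableSections (G : Type u) [Group G] (p : ℕ) : Prop :=
  ∀ (H : Subgroup G) (O : Subgroup H) [O.Normal] (P : Subgroup (H ⧸ O)) [P.Normal],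
    IsPGroup p P → Cfsg.IsPStableOn p P

theorem map_kSub_le (F : Subgroup G) (g : G) :
    (kSub p F).map (MulAut.conj g).toMonoidHom ≤ kSub p (F.map (MulAut.conj g).toMonoidHom) := by
  rw [kSub, Signalizer.wSub, Subgroup.map_iSup]
  refine iSup_le fun c => ?_
  rw [Signalizer.map_conj_centralizerPPrimeCore]
  refine Signalizer.le_wSub (θ := fun a => Cfsg.centralizerPPrimeCore p a) ⟨c, c.2.1, by simp⟩ fun h => c.2.2 ?_
  calc (c : G) = g⁻¹ * (g * c * g⁻¹) * g := by group
    _ = 1 := by rw [h]; group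

theorem elemAb_map_conj {F : Subgroup G} (hF : Cfsg.IsElementaryAbelian p F) (g : G) :
    Cfsg.IsElementaryAbelian p (F.map (MulAut.conj g).toMonoidHom) := by
  refine ⟨⟨⟨?_⟩⟩, ?_⟩
  · rintro ⟨_, a, ha, rfl⟩ ⟨_, b, hb, rfl⟩
    refine Subtype.ext ?_
    show (MulAut.conj g).toMonoidHom a * (MulAut.conj g).toMonoidHom b =
      (MulAut.conj g).toMonoidHom b * (MulAut.conj g).toMonoidHom a
    rw [← map_mul, ← map_mul, Signalizer.commute_of_isMulCommutative hF.1 ha hb]
  · rintro _ ⟨a, ha, rfl⟩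
    rw [← map_pow, hF.2 a ha, map_one]

theorem centerThompsonAOf_le (T : Subgroup G) : Cfsg.centerThompsonAOf T ≤ T :=
  inf_le_left.trans (PLocal.thompsonSubgroupAOf_le _)

theorem normalizer_le_normalizer_zj (T : Subgroup G) :
    normalizer (T : Set G) ≤ normalizer (Cfsg.centerThompsonAOf T : Set G) := fun x hx => by
  rw [PLocal.mem_normalizer_iff_map_eq, PLocal.map_centerThompsonAOf _ (MulAut.conj x).injective.injOn,
    PLocal.mem_normalizer_iff_map_eq.1 hx]

variable [Finite G] [Fact p.Prime]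

theorem centerThompsonAOf_ne_bot {T : Subgroup G} (hT : IsPGroup p T) (hne : T ≠ ⊥) :
    Cfsg.centerThompsonAOf T ≠ ⊥ := by
  obtain ⟨z, hz, hz1, -⟩ := PLocal.exists_central_of_order_p hT hne
  intro h
  exact hz1 (mem_bot.1 (h ▸ PLocal.central_le_centerThompsonAOf hz))

theorem pStableSections_of_abelian (hp : p ≠ 2) (h2 : ∀ T : Sylow 2 G, IsMulCommutative T) :
    PStableSections G p := fun H O _ P _ hP => PLocal.pStableOn_of_abelian_sylow_two hp
  (PLocal.sylow_two_surjective (PLocal.sylow_two_subgroup h2 H) _ (QuotientGroup.mk'_surjective O)) P hP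

theorem SolvableLocals.pGood (h : SolvableLocals G p) : PGood G p := fun Q hQ hne => by
  haveI := h Q hQ hne
  exact ⟨Group.isSolvable_of_isSolvable_injective
    (Subgroup.subtype_injective (Cfsg.pPrimeCore p ↥(normalizer (Q : Set G)))),
    HallHigman.isPConstrained_of_isSolvable⟩

theorem constrained_normalizer_zj (hloc : PGood G p) {T : Subgroup G} (hT : IsPGroup p T)
    (hne : T ≠ ⊥) :
    Cfsg.IsPConstrained p ↥(normalizer (Cfsg.centerThompsonAOf T : Set G)) :=
  (hloc _ (hT.to_le (centerThompsonAOf_le T)) (centerThompsonAOf_ne_bot hT hne)).2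

theorem constrained_centralizer (hloc : PGood G p) {a : G} (ha : a ^ p = 1) (ha1 : a ≠ 1) :
    Cfsg.IsPConstrained p ↥(centralizer ({a} : Set G)) :=
  ConstrainedTrans.isPConstrained_centralizer_of_local (fun T hT hne => (hloc T hT hne).2)
    (Signalizer.isPGroup_zpowers_of_pow_eq_one ha) (mem_zpowers a) ha1

theorem solvable_core (hloc : PGood G p) {a : G} (ha : a ^ p = 1) (ha1 : a ≠ 1) :
    Group.IsSolvable (Cfsg.centralizerPPrimeCore p a) := by
  set N := normalizer (zpowers a : Set G)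
  haveI := (hloc (zpowers a) (Signalizer.isPGroup_zpowers_of_pow_eq_one ha)
    (fun h => ha1 (zpowers_eq_bot.1 h))).1
  set C := centralizer ({a} : Set G)
  have hle : C ≤ N := by
    refine Signalizer.le_normalizer_of_conj_mem ?_
    rintro c hc _ ⟨i, rfl⟩
    refine ⟨i, ?_⟩
    show a ^ i = c * a ^ i * c⁻¹
    rw [((show Commute c a from mem_centralizer_singleton_iff.1 hc).zpow_right i).eq,
      mul_inv_cancel_right]
  have hnorm : N ≤ normalizer (C : Set G) := by
    refine Signalizer.le_normalizer_of_conj_mem fun n hn c hc => mem_centralizer_singleton_iff.2 ?_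
    obtain ⟨i, hi⟩ := Signalizer.conj_mem (le_rfl : N ≤ N) (inv_mem hn) (mem_zpowers a)
    change a ^ i = n⁻¹ * a * n⁻¹⁻¹ at hi
    rw [inv_inv] at hi
    have h1 : c * a ^ i = a ^ i * c :=
      ((show Commute c a from mem_centralizer_singleton_iff.1 hc).zpow_right i).eq
    rw [hi] at h1
    calc n * c * n⁻¹ * a = n * (c * (n⁻¹ * a * n)) * n⁻¹ := by group
      _ = n * (n⁻¹ * a * n * c) * n⁻¹ := by rw [h1]
      _ = a * (n * c * n⁻¹) := by group
  have hOle : (Cfsg.centralizerPPrimeCore p a).subgroupOf N ≤ Cfsg.pPrimeCore p N := by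
    refine Cores.le_pPrimeCore ?_ ?_
    · refine ⟨fun x hx n => mem_subgroupOf.2 ?_⟩
      have h1 : (n : G) * x * (n : G)⁻¹ ∈
          (Cfsg.centralizerPPrimeCore p a).map (MulAut.conj (n : G)).toMonoidHom :=
        ⟨x, hx, rfl⟩
      have hC : C.map (MulAut.conj (n : G)).toMonoidHom = C :=
        PLocal.mem_normalizer_iff_map_eq.1 (hnorm n.2)
      let e : ↥C ≃* ↥C := ((MulAut.conj (n : G)).subgroupMap C).trans (MulEquiv.subgroupCongr hC)
      have heq : (Cfsg.centralizerPPrimeCore p a).map (MulAut.conj (n : G)).toMonoidHom =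
          Cfsg.centralizerPPrimeCore p a := by
        rw [Cfsg.centralizerPPrimeCore]
        conv_rhs => rw [← Cores.pPrimeCore_map_mulEquiv e p]
        rw [Subgroup.map_map, Subgroup.map_map]
        rfl
      rwa [heq] at h1
    · rw [Cores.card_subgroupOf ((Signalizer.core_le_centralizer a).trans hle)]
      exact ((Fact.out : p.Prime).coprime_iff_not_dvd.2 (Signalizer.not_dvd_card_core a)).symm
  have hle' : Cfsg.centralizerPPrimeCore p a ≤ (Cfsg.pPrimeCore p N).map N.subtype := fun x hx =>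
    ⟨⟨x, hle (Signalizer.core_le_centralizer a hx)⟩, hOle (mem_subgroupOf.2 hx), rfl⟩
  haveI : Group.IsSolvable ↥((Cfsg.pPrimeCore p N).map N.subtype) :=
    Group.isSolvable_of_surjective (f := ((Cfsg.pPrimeCore p N).equivMapOfInjective N.subtype
      N.subtype_injective).toMonoidHom) (MulEquiv.surjective _)
  exact Group.isSolvable_of_isSolvable_injective (Subgroup.inclusion_injective hle')

theorem kSub_complete (hloc : PGood G p) {F : Subgroup G}
    (hF : Cfsg.IsElementaryAbelian p F) (hF3 : p ^ 3 ≤ Nat.card F) :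
    Group.IsSolvable (kSub p F) ∧ ¬ p ∣ Nat.card (kSub p F) ∧
      ∀ a ∈ F, a ≠ 1 → kSub p F ⊓ centralizer {a} = Cfsg.centralizerPPrimeCore p a :=
  Signalizer.solvable_signalizer_functor hF hF3
    ⟨⟨fun a _ _ => Signalizer.core_le_centralizer a, fun a _ _ => Signalizer.not_dvd_card_core a,
      fun a ha _ b hb _ hx => Signalizer.conj_mem (Signalizer.invariant_core hF.1 ha) hb hx,
      fun a ha _ b hb hb1 => Signalizer.core_inf_centralizer_le_core (hF.2 a ha)
        (Signalizer.commute_of_isMulCommutative hF.1 ha hb)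
        (constrained_centralizer hloc (hF.2 b hb) hb1)⟩,
      fun a ha ha1 => solvable_core hloc (hF.2 a ha) ha1⟩

/-- The trace is determined by any subgroup of rank two. -/
theorem kSub_eq_of_le (hloc : PGood G p) {F B : Subgroup G}
    (hF : Cfsg.IsElementaryAbelian p F) (hF3 : p ^ 3 ≤ Nat.card F) (hBF : B ≤ F)
    (hB2 : p ^ 2 ≤ Nat.card B) : kSub p F = kSub p B := by
  have hc := kSub_complete hloc hF hF3
  refine le_antisymm (Signalizer.le_of_elements (Signalizer.elemAb_of_le hF hBF) hB2 _ _ hc.2.1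
    (hBF.trans (Signalizer.le_normalizer_iSup fun c => Signalizer.invariant_core hF.1 c.2.1))
    fun b hb hb1 => ?_)
    (iSup_le fun c => Signalizer.le_wSub (θ := fun a => Cfsg.centralizerPPrimeCore p a) (hBF c.2.1) c.2.2)
  rw [hc.2.2 b (hBF hb) hb1]
  exact Signalizer.le_wSub (θ := fun a => Cfsg.centralizerPPrimeCore p a) hb hb1

/-- A `p`-group of rank at least three has a normal elementary subgroup of rank three, and its trace
is the trace of all elementary subgroups of rank three. -/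
theorem exists_const_kSub (hloc : PGood G p) (hp : p ≠ 2) {S A : Subgroup G}
    (hS : IsPGroup p S) (hA : Cfsg.IsElementaryAbelian p A) (hA3 : p ^ 3 ≤ Nat.card A) (hAS : A ≤ S) :
    ∃ D ≤ S, Cfsg.IsElementaryAbelian p D ∧ p ^ 3 ≤ Nat.card D ∧ S ≤ normalizer (D : Set G) ∧
      ∀ F ≤ S, Cfsg.IsElementaryAbelian p F → p ^ 3 ≤ Nat.card F → kSub p F = kSub p D := by
  have hp1 := (Fact.out : p.Prime)
  obtain ⟨D₀, hD₀n, hD₀c, hD₀e, hD₀⟩ : ∃ D₀ : Subgroup S, D₀.Normal ∧ IsMulCommutative D₀ ∧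
      (∀ a ∈ D₀, a ^ p = 1) ∧ Nat.card D₀ = p ^ 3 := by
    by_contra hno
    push Not at hno
    have h1 := S0100.result hp hS hno (A.subgroupOf S)
      ⟨⟨fun x y => Subtype.ext (Subtype.ext
        (Signalizer.commute_of_isMulCommutative hA.1 (mem_subgroupOf.1 x.2) (mem_subgroupOf.1 y.2)))⟩⟩
      (fun x hx => Subtype.ext (by simpa using hA.2 _ (mem_subgroupOf.1 hx)))
    rw [Cores.card_subgroupOf hAS] at h1
    exact absurd (hA3.trans h1) (not_le.2 (Nat.pow_lt_pow_right hp1.one_lt (by norm_num)))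
  obtain ⟨B₀, hB₀n, hB₀D, hB₀⟩ := PGroup.exists_normal_le_card hS hD₀ 2 (by norm_num)
  have hB₀e : Cfsg.IsElementaryAbelian p B₀ :=
    Signalizer.elemAb_of_le (A := D₀) ⟨hD₀c, hD₀e⟩ hB₀D
  have hDe : Cfsg.IsElementaryAbelian p (D₀.map S.subtype) := by
    refine ⟨⟨⟨?_⟩⟩, ?_⟩
    · rintro ⟨_, a, ha, rfl⟩ ⟨_, b, hb, rfl⟩
      exact Subtype.ext (congrArg Subtype.val (Signalizer.commute_of_isMulCommutative hD₀c ha hb) :)
    · rintro _ ⟨a, ha, rfl⟩
      rw [← map_pow, hD₀e a ha, map_one]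
  have hD3 : p ^ 3 ≤ Nat.card (D₀.map S.subtype) := by
    rw [Cores.card_map_subtype, hD₀]
  have hBe := Signalizer.elemAb_of_le hDe (map_mono hB₀D : B₀.map S.subtype ≤ D₀.map S.subtype)
  have hB2 : p ^ 2 ≤ Nat.card (B₀.map S.subtype) := by
    rw [Cores.card_map_subtype, hB₀]
  refine ⟨D₀.map S.subtype, map_subtype_le _, hDe, hD3, ?_, fun F hFS hF hF3 => ?_⟩
  · refine Signalizer.le_normalizer_of_conj_mem ?_
    rintro s hs _ ⟨a, ha, rfl⟩
    exact ⟨⟨s, hs⟩ * a * ⟨s, hs⟩⁻¹, hD₀n.conj_mem a ha _, rfl⟩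
  · rw [kSub_eq_of_le hloc hDe hD3 (map_mono hB₀D) hB2]
    have hC := PNormal.card_le_mul_centralizer hS (U := B₀) hB₀e hB₀ (F.subgroupOf S)
    rw [Cores.card_subgroupOf hFS] at hC
    set C := (F.subgroupOf S ⊓ centralizer (B₀ : Set S)).map S.subtype
    have hCF : C ≤ F := by
      rintro _ ⟨x, hx, rfl⟩
      exact mem_subgroupOf.1 hx.1
    have hC2 : p ^ 2 ≤ Nat.card C := by
      rw [Cores.card_map_subtype]
      refine Nat.le_of_mul_le_mul_left (le_trans (le_of_eq ?_) (hF3.trans hC)) hp1.pos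
      rw [pow_succ' p 2]
    have hBC : Cfsg.IsElementaryAbelian p (B₀.map S.subtype ⊔ C) := by
      refine Signalizer.elemAb_sup hBe (Signalizer.elemAb_of_le hF hCF) ?_
      rintro _ ⟨b, hb, rfl⟩ _ ⟨c, hc, rfl⟩
      exact congrArg Subtype.val (mem_centralizer_iff.1 hc.2 b hb)
    rw [kSub_eq_of_le hloc hF hF3 hCF hC2]
    by_cases hcard : p ^ 3 ≤ Nat.card ↥(B₀.map S.subtype ⊔ C)
    · rw [← kSub_eq_of_le hloc hBC hcard le_sup_right hC2,
        kSub_eq_of_le hloc hBC hcard le_sup_left hB2]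
    obtain ⟨k, hk⟩ := IsPGroup.iff_card.1 (Signalizer.isPGroup_of_elemAb hBC)
    have hk2 : Nat.card ↥(B₀.map S.subtype ⊔ C) ≤ p ^ 2 := by
      rw [hk] at hcard ⊢
      refine Nat.pow_le_pow_right hp1.pos ?_
      by_contra h3
      exact hcard (Nat.pow_le_pow_right hp1.pos (by omega))
    exact congrArg (kSub p)
      ((eq_of_le_of_card_ge (le_sup_right (a := B₀.map S.subtype) (b := C)) (hk2.trans hC2)).trans
        (eq_of_le_of_card_ge (le_sup_left (a := B₀.map S.subtype) (b := C)) (hk2.trans hB2)).symm)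

/-- The `p'`-core of `N(ZJ T)` lies in the trace of every rank three subgroup of `T`. -/
theorem core_normalizer_zj_le (hloc : PGood G p) {T F : Subgroup G} (hT : IsPGroup p T)
    (hF : Cfsg.IsElementaryAbelian p F) (hF3 : p ^ 3 ≤ Nat.card F) (hFT : F ≤ T) :
    (Cfsg.pPrimeCore p ↥(normalizer (Cfsg.centerThompsonAOf T : Set G))).map
      (normalizer (Cfsg.centerThompsonAOf T : Set G)).subtype ≤ kSub p F := by
  set Z := Cfsg.centerThompsonAOf T
  set N := normalizer (Z : Set G)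
  set O := (Cfsg.pPrimeCore p N).map N.subtype
  have hne : T ≠ ⊥ := fun h => Signalizer.ne_bot_of_pow_le (A := F) three_ne_zero hF3 (le_bot_iff.1 (h ▸ hFT))
  obtain ⟨z, hz, hz1, hzp⟩ := PLocal.exists_central_of_order_p hT hne
  have hzZ : z ∈ Z := PLocal.central_le_centerThompsonAOf hz
  have hZp : IsPGroup p Z := hT.to_le (centerThompsonAOf_le T)
  have hON : N ≤ normalizer (O : Set G) := by
    refine Signalizer.le_normalizer_of_conj_mem ?_
    rintro c hc _ ⟨y, hy, rfl⟩
    exact ⟨⟨c, hc⟩ * y * ⟨c, hc⟩⁻¹, (Cores.pPrimeCore_normal p N).conj_mem y hy _, rfl⟩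
  have hOc : (Nat.card O).Coprime p := by
    rw [Cores.card_map_subtype]; exact Cores.coprime_card_pPrimeCore p
  have hcom : ∀ o ∈ O, ∀ x ∈ Z, o * x = x * o := by
    intro o ho x hx
    have h1 : o * x * o⁻¹ * x⁻¹ ∈ Z :=
      Z.mul_mem (Signalizer.conj_mem (le_rfl : N ≤ N) (map_subtype_le _ ho) hx) (Z.inv_mem hx)
    have h2 : o * x * o⁻¹ * x⁻¹ ∈ O := by
      have := O.mul_mem ho (Signalizer.conj_mem hON (le_normalizer hx) (O.inv_mem ho))
      simpa [mul_assoc] using this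
    have h3 := Coprime.eq_one_of_mem_of_mem (Coprime.coprime_of_isPGroup hOc hZp) h2 h1
    calc o * x = (o * x * o⁻¹ * x⁻¹) * (x * o) := by group
      _ = x * o := by rw [h3, one_mul]
  set C := centralizer ({z} : Set G)
  have hOC : O ≤ C := fun o ho => mem_centralizer_singleton_iff.2 (hcom o ho z hzZ)
  have hTC : T ≤ C := fun t ht => mem_centralizer_singleton_iff.2 (mem_centralizer_iff.1 hz.2 t ht)
  have key := Signalizer.le_pPrimeCore_of_centralizer_le_normalizer
    (constrained_centralizer hloc hzp hz1)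
    (P := Z.subgroupOf C) (Y := O.subgroupOf C) (hZp.comap_subtype (K := C))
    (by rw [Cores.card_subgroupOf hOC]; exact hOc)
    (fun x hx => mem_centralizer_iff.2 fun y hy => Subtype.ext (hcom _ (mem_subgroupOf.1 hy) _ (mem_subgroupOf.1 hx)))
    (Signalizer.le_normalizer_of_conj_mem fun c hc y hy => by
      refine mem_subgroupOf.2 (Signalizer.conj_mem hON (Signalizer.mem_normalizer_of_conj_mem ?_)
        (mem_subgroupOf.1 hy))
      intro x hx
      have h := congrArg Subtype.val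
        (mem_centralizer_iff.1 hc ⟨x, hTC (centerThompsonAOf_le T hx)⟩ (mem_subgroupOf.2 hx))
      simp only [Subgroup.coe_mul] at h
      rw [← h, mul_inv_cancel_right]
      exact hx)
  have hOz : O ≤ Cfsg.centralizerPPrimeCore p z := fun o ho =>
    ⟨⟨o, hOC ho⟩, key (mem_subgroupOf.2 ho), rfl⟩
  have hze : Cfsg.IsElementaryAbelian p (zpowers z ⊔ F) := by
    refine Signalizer.elemAb_sup ⟨inferInstance, ?_⟩ hF ?_
    · rintro _ ⟨i, rfl⟩
      rw [← zpow_natCast, ← zpow_mul, mul_comm, zpow_mul, zpow_natCast, hzp, one_zpow]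
    · rintro _ ⟨i, rfl⟩ y hy
      exact ((show Commute y z from mem_centralizer_iff.1 hz.2 y (hFT hy)).zpow_right i).symm.eq
  refine hOz.trans ?_
  rw [← kSub_eq_of_le hloc hze (hF3.trans (Subgroup.card_le_of_le le_sup_right))
    (B := F) le_sup_right (le_trans (Nat.pow_le_pow_right (Fact.out : p.Prime).pos (by norm_num)) hF3)]
  exact Signalizer.le_wSub (θ := fun a => Cfsg.centralizerPPrimeCore p a)
    (mem_sup_left (mem_zpowers z)) hz1

/-- `N(ZJ S)` normalises the trace. -/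
theorem normalizer_zj_le_normalizer_kSub (hloc : PGood G p) (hp : p ≠ 2)
    (hps : PStableSections G p) (S : Sylow p G) {D : Subgroup G} (hDS : D ≤ S)
    (hD : Cfsg.IsElementaryAbelian p D) (hD3 : p ^ 3 ≤ Nat.card D)
    (hSD : (S : Subgroup G) ≤ normalizer (D : Set G))
    (hconst : ∀ F ≤ (S : Subgroup G), Cfsg.IsElementaryAbelian p F → p ^ 3 ≤ Nat.card F →
      kSub p F = kSub p D) :
    normalizer (Cfsg.centerThompsonAOf (S : Subgroup G) : Set G) ≤ normalizer (kSub p D : Set G) := by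
  set N := normalizer (Cfsg.centerThompsonAOf (S : Subgroup G) : Set G)
  have hne : (S : Subgroup G) ≠ ⊥ := fun h =>
    Signalizer.ne_bot_of_pow_le (A := D) three_ne_zero hD3 (le_bot_iff.1 (h ▸ hDS))
  have hNc : Cfsg.IsPConstrained p N := constrained_normalizer_zj hloc S.2 hne
  have hSN : (S : Subgroup G) ≤ N := le_normalizer.trans (normalizer_le_normalizer_zj _)
  set O := Cfsg.pPrimeCore p N
  haveI : O.Normal := Cores.pPrimeCore_normal p N
  set f := QuotientGroup.mk' O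
  have hf : Function.Surjective f := QuotientGroup.mk'_surjective O
  set S' : Sylow p N := S.subtype hSN
  have hc : centralizer (Cfsg.pCore p (N ⧸ O) : Set (N ⧸ O)) ≤ Cfsg.pCore p (N ⧸ O) :=
    Constrained.isPConstrained_iff.1 hNc
  have hst := fun (P : Subgroup (N ⧸ O)) [P.Normal] (hP : IsPGroup p P) => hps N O P hP
  set S'' := S'.mapSurjective hf
  set D'' := (D.subgroupOf N).map f
  have hSD'' : (S'' : Subgroup (N ⧸ O)) ≤ normalizer (D'' : Set (N ⧸ O)) := by
    rw [Sylow.coe_mapSurjective]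
    refine (map_mono ?_).trans (le_normalizer_map f)
    refine Signalizer.le_normalizer_of_conj_mem fun s hs d hd => ?_
    exact mem_subgroupOf.2 (Signalizer.conj_mem hSD (mem_subgroupOf.1 hs) (mem_subgroupOf.1 hd))
  have hD''c : D'' ≤ centralizer (D'' : Set (N ⧸ O)) := by
    rintro _ ⟨a, ha, rfl⟩
    refine mem_centralizer_iff.2 ?_
    rintro _ ⟨b, hb, rfl⟩
    have hab : b * a = a * b := Subtype.ext
      (Signalizer.commute_of_isMulCommutative hD.1 (mem_subgroupOf.1 hb) (mem_subgroupOf.1 ha))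
    rw [← map_mul, ← map_mul, hab]
  have hD''P : D'' ≤ Cfsg.pCore p (N ⧸ O) := by
    intro a ha
    set P := Cfsg.pCore p (N ⧸ O)
    haveI : P.Normal := Cores.pCore_normal p _
    have hCp : IsPGroup p ↥(QuotientGroup.mk' (Subgroup.centralizer (P : Set (N ⧸ O)))).ker := by
      rw [QuotientGroup.ker_mk']; exact (Cores.isPGroup_pCore p _).to_le hc
    refine Cores.comap_pCore_le _ hCp (hst P (Cores.isPGroup_pCore p _) a (le_bot_iff.1 ?_))
    refine (Subgroup.commutator_mono (Subgroup.commutator_mono le_rfl (Subgroup.zpowers_le.2 ha))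
      (Subgroup.zpowers_le.2 ha)).trans ?_
    refine (Subgroup.commutator_mono (?_ : ⁅P, D''⁆ ≤ D'') le_rfl).trans
      (Subgroup.commutator_eq_bot_iff_le_centralizer.2 hD''c).le
    exact Subgroup.le_normalizer_iff_commutator_le_right.1 ((Cores.pCore_le_sylow S'').trans hSD'')
  have hOK : O.map N.subtype ≤ kSub p D := core_normalizer_zj_le hloc S.2 hD hD3 hDS
  intro g hg
  -- a conjugate of `D` by an element of `O g` lies in `S`
  have hL : ∀ d ∈ D.subgroupOf N, (⟨g, hg⟩ : N) * d * (⟨g, hg⟩ : N)⁻¹ ∈ O ⊔ (S' : Subgroup N) := by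
    intro d hd
    have h1 : f ((⟨g, hg⟩ : N) * d * (⟨g, hg⟩ : N)⁻¹) ∈ (S'' : Subgroup (N ⧸ O)) := by
      refine Cores.pCore_le_sylow S'' ?_
      rw [map_mul, map_mul, map_inv]
      exact (Cores.pCore_normal p _).conj_mem _ (hD''P (mem_map_of_mem f hd)) _
    rw [Sylow.coe_mapSurjective, ← mem_comap, comap_map_eq, QuotientGroup.ker_mk', sup_comm] at h1
    exact h1
  set L := O ⊔ (S' : Subgroup N)
  set Q := (D.subgroupOf N).map (MulAut.conj (⟨g, hg⟩ : N)).toMonoidHom
  have hQL : Q ≤ L := by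
    rintro _ ⟨d, hd, rfl⟩
    exact hL d hd
  obtain ⟨U, hU⟩ := (((Signalizer.isPGroup_of_elemAb hD).comap_subtype (K := N)).map
    (MulAut.conj (⟨g, hg⟩ : N)).toMonoidHom).comap_subtype (K := L) |>.exists_le_sylow
  obtain ⟨⟨y, hy⟩, hyU⟩ := MulAction.exists_smul_eq L U (S'.subtype (le_sup_right : (S' : Subgroup N) ≤ L))
  have hy' : y ∈ (S' : Subgroup N) ⊔ O := by rwa [sup_comm]
  obtain ⟨s, hs, o, ho, rfl⟩ := Subgroup.mem_sup_of_normal_right.1 hy'
  have hconj : ∀ d ∈ D, (o : G) * g * d * ((o : G) * g)⁻¹ ∈ (S : Subgroup G) := by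
    intro d hd
    have hdN : d ∈ N := hSN (hDS hd)
    set q : N := ⟨g, hg⟩ * ⟨d, hdN⟩ * (⟨g, hg⟩ : N)⁻¹
    have hqQ : q ∈ Q := ⟨⟨d, hdN⟩, mem_subgroupOf.2 hd, rfl⟩
    have h1 : (⟨s * o, hy⟩ : L) * ⟨q, hQL hqQ⟩ * (⟨s * o, hy⟩ : L)⁻¹ ∈
        (S'.subtype (le_sup_right : (S' : Subgroup N) ≤ L) : Subgroup L) := by
      rw [← hyU, Sylow.coe_subgroup_smul]
      exact ⟨⟨q, hQL hqQ⟩, hU (mem_subgroupOf.2 hqQ), rfl⟩
    have h2 : s * o * q * (s * o)⁻¹ ∈ (S' : Subgroup N) := h1
    have h3 := (S' : Subgroup N).mul_mem ((S' : Subgroup N).mul_mem ((S' : Subgroup N).inv_mem hs) h2) hs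
    have h4 : o * q * o⁻¹ ∈ (S' : Subgroup N) := by
      have e : s⁻¹ * (s * o * q * (s * o)⁻¹) * s = o * q * o⁻¹ := by group
      rwa [e] at h3
    have h5 : (o : G) * (g * d * g⁻¹) * (o : G)⁻¹ ∈ (S : Subgroup G) := h4
    have e : (o : G) * g * d * ((o : G) * g)⁻¹ = (o : G) * (g * d * g⁻¹) * (o : G)⁻¹ := by group
    rwa [e]
  have hog : (o : G) * g ∈ normalizer (kSub p D : Set G) := by
    refine Signalizer.mem_normalizer_of_conj_mem fun x hx => ?_
    have h1 : D.map (MulAut.conj ((o : G) * g)).toMonoidHom ≤ (S : Subgroup G) := by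
      rintro _ ⟨d, hd, rfl⟩
      exact hconj d hd
    rw [← hconst _ h1 (elemAb_map_conj hD _)
      (by rw [card_map_of_injective (MulAut.conj ((o : G) * g)).injective]; exact hD3)]
    exact map_kSub_le D _ ⟨x, hx, rfl⟩
  have hoK : (o : G) ∈ normalizer (kSub p D : Set G) := le_normalizer (hOK ⟨o, ho, rfl⟩)
  simpa using mul_mem (inv_mem hoK) hog

/-- A `p`-constrained group lies in `M` if its `p'`-core and the locals of its `p`-subgroups over `W` do. -/
theorem le_of_locals (hp : p ≠ 2) (hps : PStableSections G p) {M H W : Subgroup G}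
    (hH : Cfsg.IsPConstrained p H) (hW : IsPGroup p W) (hWH : W ≤ H) (hWM : W ≤ M)
    (hO : (Cfsg.pPrimeCore p H).map H.subtype ≤ M)
    (hnext : ∀ T : Subgroup G, IsPGroup p T → W ≤ T → T ≤ M → normalizer (T : Set G) ≤ M ∧
      normalizer (Cfsg.centerThompsonAOf T : Set G) ≤ M) : H ≤ M := by
  obtain ⟨R, hR⟩ := (hW.comap_subtype (K := H ⊓ M)).exists_le_sylow
  set T := (R : Subgroup ↥(H ⊓ M)).map (H ⊓ M).subtype
  have hTs : Signalizer.IsSylowIn p (H ⊓ M) T := Signalizer.isSylowIn_of_sylow R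
  have hTH : T ≤ H := hTs.1.trans inf_le_left
  have hWT : W ≤ T := fun w hw => ⟨⟨w, hWH hw, hWM hw⟩, hR (mem_subgroupOf.2 hw), rfl⟩
  obtain ⟨hN, hNZ⟩ := hnext T hTs.2.1 hWT (hTs.1.trans inf_le_right)
  obtain ⟨U, hU⟩ := (hTs.2.1.comap_subtype (K := H)).exists_le_sylow
  set U' := (U : Subgroup H).map H.subtype
  have hTU : T ≤ U' := fun t ht => ⟨⟨t, hTH ht⟩, hU (mem_subgroupOf.2 ht), rfl⟩
  have hUT : U' = T := by
    by_contra hne
    have hlt := PLocal.normalizer_inf_of_lt (R := T) (U.2.map H.subtype) (lt_of_le_of_ne hTU (Ne.symm hne))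
    exact hlt.ne (hTs.eq_of_le hlt.le (le_inf (inf_le_right.trans (map_subtype_le _)) (inf_le_left.trans hN))
      ((U.2.map H.subtype).to_le inf_le_right)).symm
  -- the factorisation
  set O := Cfsg.pPrimeCore p H
  haveI : O.Normal := Cores.pPrimeCore_normal p H
  set f := QuotientGroup.mk' O
  have hf : Function.Surjective f := QuotientGroup.mk'_surjective O
  have hker : (Nat.card f.ker).Coprime p := by
    rw [QuotientGroup.ker_mk']; exact Cores.coprime_card_pPrimeCore p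
  set Z := Cfsg.centerThompsonAOf (U : Subgroup H)
  have hc : centralizer (Cfsg.pCore p (H ⧸ O) : Set (H ⧸ O)) ≤ Cfsg.pCore p (H ⧸ O) :=
    Constrained.isPConstrained_iff.1 hH
  have hn := PLocal.zj_normal hp PLocal.goodClass_abelian hc
    (fun Q _ hQ => hps H O Q hQ) (U.mapSurjective hf)
  rw [PLocal.sInf_maxIn_abelian, ← PLocal.thompsonSubgroupAOf_eq, Sylow.coe_mapSurjective] at hn
  change (Cfsg.centerThompsonAOf ((U : Subgroup H).map f)).Normal at hn
  rw [← PLocal.map_centerThompsonAOf f (PLocal.injOn_of_pGroup f hker U.2)] at hn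
  have htop : (normalizer (Z : Set H)).map f = ⊤ := by
    rw [← PLocal.normalizer_map_eq f hf hker (U.2.to_le (centerThompsonAOf_le _)),
      normalizer_eq_top_iff.2 hn]
  have hsup : O ⊔ normalizer (Z : Set H) = ⊤ := by
    rw [← comap_top f, ← htop, comap_map_eq, QuotientGroup.ker_mk', sup_comm]
  have hNM : (normalizer (Z : Set H)).map H.subtype ≤ M := by
    refine le_trans ((le_normalizer_map H.subtype).trans ?_) hNZ
    rw [PLocal.map_centerThompsonAOf _ H.subtype_injective.injOn]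
    exact le_of_eq (by rw [← hUT])
  calc H = (⊤ : Subgroup H).map H.subtype := by rw [← MonoidHom.range_eq_map, range_subtype]
    _ = O.map H.subtype ⊔ (normalizer (Z : Set H)).map H.subtype := by rw [← hsup, Subgroup.map_sup]
    _ ≤ M := sup_le hO hNM

/-- Growth: an upward closed family of `p`-subgroups of `M` whose cores lie in `M` has its locals
in `M`. -/
theorem locals_le (hloc : PGood G p) (hp : p ≠ 2) (hps : PStableSections G p)
    {M : Subgroup G} (S : Sylow p G) (hSM : (S : Subgroup G) ≤ M)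
    (hN0 : normalizer (Cfsg.centerThompsonAOf (S : Subgroup G) : Set G) ≤ M)
    (P : Subgroup G → Prop) (hup : ∀ T U, P T → T ≤ U → P U) (hne : ∀ T, P T → T ≠ ⊥)
    (hO : ∀ T : Subgroup G, IsPGroup p T → T ≤ M → P T →
      (Cfsg.pPrimeCore p ↥(normalizer (Cfsg.centerThompsonAOf T : Set G))).map
        (normalizer (Cfsg.centerThompsonAOf T : Set G)).subtype ≤ M)
    (T : Subgroup G) (hT : IsPGroup p T) (hTM : T ≤ M) (hPT : P T) :
    normalizer (T : Set G) ≤ M ∧ normalizer (Cfsg.centerThompsonAOf T : Set G) ≤ M := by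
  obtain ⟨n, hn⟩ : ∃ n, n = Nat.card G - Nat.card T := ⟨_, rfl⟩
  induction n using Nat.strong_induction_on generalizing T with
  | _ n IH =>
  subst hn
  suffices h : normalizer (Cfsg.centerThompsonAOf T : Set G) ≤ M from
    ⟨(normalizer_le_normalizer_zj T).trans h, h⟩
  obtain ⟨R, hR⟩ := (hT.comap_subtype (K := M)).exists_le_sylow
  obtain ⟨⟨m, hm⟩, hmR⟩ := MulAction.exists_smul_eq M R (S.subtype hSM)
  set U := (R : Subgroup M).map M.subtype
  have hTU : T ≤ U := fun t ht => ⟨⟨t, hTM ht⟩, hR (mem_subgroupOf.2 ht), rfl⟩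
  rcases hTU.eq_or_lt with heq | hlt
  · have hTS : T.map (MulAut.conj m).toMonoidHom = (S : Subgroup G) := by
      refine le_antisymm ?_ ?_
      · rintro _ ⟨t, ht, rfl⟩
        have h1 : (⟨m, hm⟩ : M) * ⟨t, hTM ht⟩ * (⟨m, hm⟩ : M)⁻¹ ∈ (S.subtype hSM : Subgroup M) := by
          rw [← hmR, Sylow.coe_subgroup_smul]
          exact ⟨⟨t, hTM ht⟩, hR (mem_subgroupOf.2 ht), rfl⟩
        exact h1
      · intro x hx
        have h1 : (⟨x, hSM hx⟩ : M) ∈ (S.subtype hSM : Subgroup M) := hx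
        rw [← hmR, Sylow.coe_subgroup_smul] at h1
        obtain ⟨r, hr, hrx⟩ := h1
        exact ⟨r, heq ▸ ⟨r, hr, rfl⟩, congrArg Subtype.val hrx⟩
    intro x hx
    have h1 : (MulAut.conj m).toMonoidHom x ∈ M := by
      refine hN0 ?_
      rw [← hTS, ← PLocal.map_centerThompsonAOf _ (MulAut.conj m).injective.injOn]
      exact le_normalizer_map _ ⟨x, hx, rfl⟩
    have h2 := M.mul_mem (M.mul_mem (M.inv_mem hm) h1) hm
    simpa [mul_assoc] using h2
  · have hUp : IsPGroup p U := R.2.map _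
    have hW := PLocal.normalizer_inf_of_lt hUp hlt
    refine le_of_locals hp hps (constrained_normalizer_zj hloc hT (hne T hPT))
      (hUp.to_le inf_le_right) (inf_le_left.trans (normalizer_le_normalizer_zj T))
      (inf_le_right.trans (map_subtype_le _)) (hO T hT hTM hPT) fun V hV hWV hVM => ?_
    have hTV : T < V := hW.trans_le hWV
    refine IH _ ?_ V hV hVM (hup T V hPT hTV.le) rfl
    have h1 : Nat.card T < Nat.card V := lt_of_not_ge fun h => hTV.ne (eq_of_le_of_card_ge hTV.le h)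
    have h2 : Nat.card V ≤ Nat.card G := card_le_card_group V
    omega

/-- The general form: `M = K ⊔ N(ZJ S)` contains every `p`-constrained group over a subgroup of
order `p ^ 2` of one of its rank three subgroups. -/
theorem exists_overgroup_aux (hps : PStableSections G p)
    (hp : p ≠ 2) (hloc : PGood G p) {X A : Subgroup G} (hX : IsPGroup p X) (hAX : A ≤ X)
    (hA : Cfsg.IsElementaryAbelian p A) (hA3 : p ^ 3 ≤ Nat.card A) :
    ∃ (S : Sylow p G) (K : Subgroup G), X ≤ S ∧ (S : Subgroup G) ≠ ⊥ ∧ Group.IsSolvable K ∧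
      normalizer (Cfsg.centerThompsonAOf (S : Subgroup G) : Set G) ≤ normalizer (K : Set G) ∧
      ∀ M : Subgroup G, M = K ⊔ normalizer (Cfsg.centerThompsonAOf (S : Subgroup G) : Set G) →
        X ≤ M ∧ normalizer (X : Set G) ≤ M ∧
        ∀ F ≤ M, Cfsg.IsElementaryAbelian p F → p ^ 3 ≤ Nat.card F →
          (∀ a ∈ F, a ≠ 1 → centralizer ({a} : Set G) ≤ M) ∧
          ∀ B ≤ F, Nat.card B = p ^ 2 → ∀ H : Subgroup G, Cfsg.IsPConstrained p H → B ≤ H → H ≤ M := by
  obtain ⟨S, hXS⟩ := hX.exists_le_sylow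
  obtain ⟨D, hDS, hD, hD3, hSD, hconst⟩ := exists_const_kSub hloc hp S.2 hA hA3 (hAX.trans hXS)
  have hne : (S : Subgroup G) ≠ ⊥ := fun h =>
    Signalizer.ne_bot_of_pow_le (A := D) three_ne_zero hD3 (le_bot_iff.1 (h ▸ hDS))
  set N0 := normalizer (Cfsg.centerThompsonAOf (S : Subgroup G) : Set G)
  refine ⟨S, kSub p D, hXS, hne, (kSub_complete hloc hD hD3).1,
    normalizer_zj_le_normalizer_kSub hloc hp hps S hDS hD hD3 hSD hconst, ?_⟩
  rintro M rfl
  set M := kSub p D ⊔ N0
  have hN0 : N0 ≤ M := le_sup_right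
  have hSM : (S : Subgroup G) ≤ M := (le_normalizer.trans (normalizer_le_normalizer_zj _)).trans hN0
  -- every rank three subgroup of `M` has its trace in `M`
  have htrace : ∀ F ≤ M, Cfsg.IsElementaryAbelian p F → p ^ 3 ≤ Nat.card F → kSub p F ≤ M := by
    intro F hFM hF hF3
    obtain ⟨R, hR⟩ := ((Signalizer.isPGroup_of_elemAb hF).comap_subtype (K := M)).exists_le_sylow
    obtain ⟨⟨m, hm⟩, hmR⟩ := MulAction.exists_smul_eq M R (S.subtype hSM)
    have hFS : F.map (MulAut.conj m).toMonoidHom ≤ (S : Subgroup G) := by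
      rintro _ ⟨x, hx, rfl⟩
      have h1 : (⟨m, hm⟩ : M) * ⟨x, hFM hx⟩ * (⟨m, hm⟩ : M)⁻¹ ∈ (S.subtype hSM : Subgroup M) := by
        rw [← hmR, Sylow.coe_subgroup_smul]
        exact ⟨⟨x, hFM hx⟩, hR (mem_subgroupOf.2 hx), rfl⟩
      exact h1
    intro x hx
    have h1 := map_kSub_le F m ⟨x, hx, rfl⟩
    rw [hconst _ hFS (elemAb_map_conj hF m)
      (by rw [card_map_of_injective (MulAut.conj m).injective]; exact hF3)] at h1
    have h2 := M.mul_mem (M.mul_mem (M.inv_mem hm) (mem_sup_left h1 : _ ∈ M)) hm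
    simpa [mul_assoc] using h2
  -- first family: containing a rank three subgroup
  have grow1 := locals_le hloc hp hps S hSM hN0
    (fun T => ∃ F ≤ T, Cfsg.IsElementaryAbelian p F ∧ p ^ 3 ≤ Nat.card F)
    (fun T U ⟨F, hFT, hF⟩ hTU => ⟨F, hFT.trans hTU, hF⟩)
    (fun T ⟨F, hFT, _, hF3⟩ h => Signalizer.ne_bot_of_pow_le (A := F) three_ne_zero hF3 (le_bot_iff.1 (h ▸ hFT)))
    (fun T hT hTM ⟨F, hFT, hF, hF3⟩ =>
      (core_normalizer_zj_le hloc hT hF hF3 hFT).trans (htrace F (hFT.trans hTM) hF hF3))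
  have hcent : ∀ F ≤ M, Cfsg.IsElementaryAbelian p F → p ^ 3 ≤ Nat.card F → ∀ a ∈ F, a ≠ 1 →
      centralizer ({a} : Set G) ≤ M := by
    intro F hFM hF hF3 a ha ha1
    refine le_of_locals hp hps (constrained_centralizer hloc (hF.2 a ha) ha1)
      (Signalizer.isPGroup_of_elemAb hF)
      (fun x hx => mem_centralizer_singleton_iff.2 (Signalizer.commute_of_isMulCommutative hF.1 hx ha))
      hFM ?_ fun T hT hFT hTM => grow1 T hT hTM ⟨F, hFT, hF, hF3⟩
    exact (Signalizer.le_wSub (θ := fun a => Cfsg.centralizerPPrimeCore p a) ha ha1).trans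
      (htrace F hFM hF hF3)
  refine ⟨hXS.trans hSM, (grow1 X hX (hXS.trans hSM) ⟨A, hAX, hA, hA3⟩).1, fun F hFM hF hF3 => ?_⟩
  refine ⟨hcent F hFM hF hF3, fun B hBF hB H hH hBH => ?_⟩
  have hB2 : p ^ 2 ≤ Nat.card B := hB.ge
  have hBe := Signalizer.elemAb_of_le hF hBF
  -- every core normalised by `B` lies in `M`
  have hcore : ∀ L : Subgroup G, B ≤ L → (Cfsg.pPrimeCore p L).map L.subtype ≤ M := by
    intro L hBL
    refine Signalizer.le_of_elements hBe hB2 _ _ ?_ ?_ fun b hb hb1 =>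
      inf_le_right.trans (hcent F hFM hF hF3 b (hBF hb) hb1)
    · rw [Cores.card_map_subtype]; exact Cores.not_dvd_card_pPrimeCore
    · refine Signalizer.le_normalizer_of_conj_mem ?_
      rintro c hc _ ⟨y, hy, rfl⟩
      exact ⟨⟨c, hBL hc⟩ * y * ⟨c, hBL hc⟩⁻¹, (Cores.pPrimeCore_normal p L).conj_mem y hy _, rfl⟩
  have grow2 := locals_le hloc hp hps S hSM hN0 (fun T => B ≤ T)
    (fun T U h hTU => h.trans hTU)
    (fun T hBT h => Signalizer.ne_bot_of_pow_le (A := B) two_ne_zero hB2 (le_bot_iff.1 (h ▸ hBT)))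
    (fun T _ _ hBT => hcore _ ((hBT.trans le_normalizer).trans (normalizer_le_normalizer_zj T)))
  exact le_of_locals hp hps hH (Signalizer.isPGroup_of_elemAb hBe) hBH (hBF.trans hFM) (hcore H hBH)
    fun T hT hBT hTM => grow2 T hT hTM hBT

/-- **Section 2** of `GW_KLEIN.md`: a solvable subgroup containing the locals over a rank three
subgroup. -/
theorem exists_overgroup (hns : ¬ Group.IsSolvable G) (h2 : ∀ T : Sylow 2 G, IsMulCommutative T)
    (hp : p ≠ 2) (hloc : SolvableLocals G p) {X A : Subgroup G} (hX : IsPGroup p X) (hAX : A ≤ X)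
    (hA : Cfsg.IsElementaryAbelian p A) (hA3 : p ^ 3 ≤ Nat.card A) :
    ∃ M : Subgroup G, M ≠ ⊤ ∧ Group.IsSolvable M ∧ normalizer (X : Set G) ≤ M ∧
      (∀ a ∈ A, a ≠ 1 → centralizer ({a} : Set G) ≤ M) ∧
      ∀ H : Subgroup G, Group.IsSolvable H → ∀ B ≤ A, Nat.card B = p ^ 2 → B ≤ H → H ≤ M := by
  obtain ⟨S, K, -, hS, hK, hKN, h⟩ :=
    exists_overgroup_aux (pStableSections_of_abelian hp h2) hp hloc.pGood hX hAX hA hA3
  obtain ⟨hXM, hNX, hF⟩ := h _ rfl
  obtain ⟨hC, hB⟩ := hF A (hAX.trans hXM) hA hA3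
  set M := K ⊔ normalizer (Cfsg.centerThompsonAOf (S : Subgroup G) : Set G)
  have hMs : Group.IsSolvable M := Signalizer.isSolvable_sup hK
    (hloc _ (S.2.to_le (centerThompsonAOf_le _)) (centerThompsonAOf_ne_bot S.2 hS)) hKN
  have hMtop : M ≠ ⊤ := by
    intro h
    haveI : Group.IsSolvable (⊤ : Subgroup G) := h ▸ hMs
    exact hns (Group.isSolvable_of_surjective (f := (topEquiv : (⊤ : Subgroup G) ≃* G).toMonoidHom)
      topEquiv.surjective)
  refine ⟨M, hMtop, hMs, hNX, hC, fun H hH B hBA hBc hBH => ?_⟩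
  haveI := hH
  exact hB B hBA hBc H HallHigman.isPConstrained_of_isSolvable hBH

/-- In a simple group `K ⊔ N(ZJ S)` is proper: a proper subgroup containing the centralisers of all its
rank three subgroups and the `p`-constrained groups over their subgroups of order `p ^ 2`. -/
theorem exists_overgroup_simple_full (hG : IsSimpleGroup G) (hns : ¬ Group.IsSolvable G)
    (hps : PStableSections G p) (hp : p ≠ 2) (hloc : PGood G p) {X A : Subgroup G}
    (hX : IsPGroup p X) (hAX : A ≤ X) (hA : Cfsg.IsElementaryAbelian p A) (hA3 : p ^ 3 ≤ Nat.card A) :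
    ∃ M : Subgroup G, M ≠ ⊤ ∧ X ≤ M ∧ normalizer (X : Set G) ≤ M ∧
      ∀ F ≤ M, Cfsg.IsElementaryAbelian p F → p ^ 3 ≤ Nat.card F →
        (∀ a ∈ F, a ≠ 1 → centralizer ({a} : Set G) ≤ M) ∧
        ∀ B ≤ F, Nat.card B = p ^ 2 →
          (∀ Q : Subgroup G, IsPGroup p Q → Q ≠ ⊥ → B ≤ normalizer (Q : Set G) →
            normalizer (Q : Set G) ≤ M) ∧
          ∀ H : Subgroup G, Cfsg.IsPConstrained p H → B ≤ H → H ≤ M := by
  haveI := hG
  haveI : Nontrivial G := hG.1
  obtain ⟨S, K, -, hS, hK, hKN, h⟩ := exists_overgroup_aux hps hp hloc hX hAX hA hA3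
  obtain ⟨hXM, hNX, hF⟩ := h _ rfl
  refine ⟨_, ?_, hXM, hNX, fun F hFM hFe hF3 => ⟨(hF F hFM hFe hF3).1, fun B hBF hBc =>
    ⟨fun Q hQ hne hBQ => (hF F hFM hFe hF3).2 B hBF hBc _ (hloc Q hQ hne).2 hBQ,
      (hF F hFM hFe hF3).2 B hBF hBc⟩⟩⟩
  intro htop
  have hn : normalizer (K : Set G) = ⊤ :=
    top_le_iff.1 (htop ▸ sup_le le_normalizer hKN)
  set Z := Cfsg.centerThompsonAOf (S : Subgroup G)
  rcases (normalizer_eq_top_iff.1 hn).eq_bot_or_eq_top with hK0 | hK1
  · rw [hK0, bot_sup_eq] at htop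
    rcases (normalizer_eq_top_iff.1 htop).eq_bot_or_eq_top with hZ | hZ
    · exact centerThompsonAOf_ne_bot S.2 hS hZ
    · haveI : Group.IsNilpotent Z := (S.2.to_le (centerThompsonAOf_le _)).isNilpotent
      haveI : Group.IsSolvable (⊤ : Subgroup G) := hZ ▸ (inferInstance : Group.IsSolvable Z)
      exact hns (Group.isSolvable_of_surjective (f := (topEquiv : (⊤ : Subgroup G) ≃* G).toMonoidHom)
        topEquiv.surjective)
  · haveI : Group.IsSolvable (⊤ : Subgroup G) := hK1 ▸ hK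
    exact hns (Group.isSolvable_of_surjective (f := (topEquiv : (⊤ : Subgroup G) ≃* G).toMonoidHom)
      topEquiv.surjective)

/-- **Section 2** of `GENERAL.md`: in a simple group with abelian Sylow 2-subgroups a proper subgroup
containing all `p`-constrained subgroups, in particular all `p`-locals, over a rank three subgroup of `X`. -/
theorem exists_overgroup_simple (hG : IsSimpleGroup G) (hns : ¬ Group.IsSolvable G)
    (h2 : ∀ T : Sylow 2 G, IsMulCommutative T) (hp : p ≠ 2) (hloc : PGood G p) {X : Subgroup G}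
    (hX : IsPGroup p X) :
    ∃ M : Subgroup G, M ≠ ⊤ ∧ ∀ A ≤ X, Cfsg.IsElementaryAbelian p A → p ^ 3 ≤ Nat.card A →
      normalizer (X : Set G) ≤ M ∧ (∀ a ∈ A, a ≠ 1 → centralizer ({a} : Set G) ≤ M) ∧
      ∀ B ≤ A, Nat.card B = p ^ 2 →
        (∀ Q : Subgroup G, IsPGroup p Q → Q ≠ ⊥ → B ≤ normalizer (Q : Set G) →
          normalizer (Q : Set G) ≤ M) ∧
        ∀ H : Subgroup G, Cfsg.IsPConstrained p H → B ≤ H → H ≤ M := by
  haveI := hG
  haveI : Nontrivial G := hG.1
  by_cases hex : ∃ A ≤ X, Cfsg.IsElementaryAbelian p A ∧ p ^ 3 ≤ Nat.card A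
  swap
  · exact ⟨⊥, bot_ne_top, fun A hAX hA hA3 => absurd ⟨A, hAX, hA, hA3⟩ hex⟩
  obtain ⟨A₀, hA₀X, hA₀, hA₀3⟩ := hex
  obtain ⟨M, hM, hXM, hNX, hF⟩ := exists_overgroup_simple_full hG hns
    (pStableSections_of_abelian hp h2) hp hloc hX hA₀X hA₀ hA₀3
  exact ⟨M, hM, fun A hAX hA hA3 => ⟨hNX, (hF A (hAX.trans hXM) hA hA3).1,
    (hF A (hAX.trans hXM) hA hA3).2⟩⟩

end Cfsg.Agent.GWKlein
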