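import Cfsg.Agent.Lib.GWKlein.Endgame
import Cfsg.Agent.Lib.GWKlein.Functor

/-!
# Gorenstein-Walter, Klein case: no mixed invariant subgroups

* `exists_inverted_fixed`: an inverted element centralising a subgroup of fixed points, by counting an orbit
* `Hyp.false_of_bad`: `r` does not move an invariant `p`-subgroup of `U` if `p` divides `|W|`
* `Hyp.false_of_mixed`: if `W = 1` no invariant `p`-subgroup meets `C(t)` and `C(r)`
-/

set_option autoImplicit false

namespace Cfsg.Agent.GWKlein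

open Subgroup

/-- The ratio lemma, as a proposition. -/
def RatioLemma {G : Type*} [Group G] (t r : G) : Prop :=
  coreU t ≠ ⊥ → ∀ H : Subgroup G, Group.IsSolvable H → centralizer ({t} : Set G) ≤ H →
    ∀ m ∈ H, m * t * m⁻¹ = r → False

universe u

variable {G : Type u} [Group G] {p : ℕ} {t r s : G}

theorem isPGroup_zpowers {x : G} {k : ℕ} (hx : x ^ p ^ k = 1) : IsPGroup p (zpowers x) := by
  rintro ⟨_, i, rfl⟩
  refine ⟨k, Subtype.ext ?_⟩
  show (x ^ i) ^ p ^ k = 1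
  rw [← zpow_natCast, ← zpow_mul, mul_comm, zpow_mul, zpow_natCast, hx, one_zpow]

theorem conj_zpowers_le {g x : G} (hx : g * x * g⁻¹ ∈ zpowers x) :
    ∀ z ∈ zpowers x, g * z * g⁻¹ ∈ zpowers x := by
  rintro _ ⟨i, rfl⟩
  rw [show g * x ^ i * g⁻¹ = (g * x * g⁻¹) ^ i from conj_zpow.symm]
  exact zpow_mem hx i

theorem pow_eq_one_of_inverted_fixed {r x : G} (hi : r * x * r⁻¹ = x⁻¹) (hc : Commute x r) :
    x * x = 1 := by
  rw [← hc.eq, mul_inv_cancel_right] at hi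
  nth_rewrite 2 [hi]
  exact mul_inv_cancel x

theorem eq_one_of_square [Fact p.Prime] (hp : p ≠ 2) {x : G} (hx : x ^ p = 1) (h2 : x * x = 1) : x = 1 :=
  orderOf_eq_one_iff.1 (Nat.eq_one_of_dvd_coprimes
    ((Nat.coprime_primes Fact.out Nat.prime_two).2 hp) (orderOf_dvd_of_pow_eq_one hx)
    (orderOf_dvd_of_pow_eq_one (by rw [pow_two]; exact h2)))

theorem elemAb_zpowers {x : G} (hx : x ^ p = 1) : Cfsg.IsElementaryAbelian p (zpowers x) := by
  refine ⟨⟨⟨fun a b => Subtype.ext ?_⟩⟩, ?_⟩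
  · obtain ⟨i, hi⟩ := a.2
    obtain ⟨j, hj⟩ := b.2
    show (a : G) * b = b * a
    rw [← hi, ← hj]
    exact Commute.zpow_zpow_self x i j
  · rintro _ ⟨i, rfl⟩
    show (x ^ i) ^ p = 1
    rw [← zpow_natCast, ← zpow_mul, mul_comm, zpow_mul, zpow_natCast, hx, one_zpow]

theorem mul_inv_eq_of_commute {g x : G} (h : Commute x g) : g * x * g⁻¹ = x := by
  rw [← h.eq, mul_inv_cancel_right]

theorem normalizer_inf_le_sup (A B : Subgroup G) :
    normalizer (A : Set G) ⊓ normalizer (B : Set G) ≤ normalizer ((A ⊔ B : Subgroup G) : Set G) := fun x hx => by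
  rw [PLocal.mem_normalizer_iff_map_eq, Subgroup.map_sup, PLocal.mem_normalizer_iff_map_eq.1 hx.1,
    PLocal.mem_normalizer_iff_map_eq.1 hx.2]

variable [Finite G] [Fact p.Prime]

theorem SolvableLocals.isSolvable_centralizer (hloc : SolvableLocals G p) {a : G} (ha : a ^ p = 1) (ha1 : a ≠ 1) :
    Group.IsSolvable (centralizer ({a} : Set G)) := by
  haveI := hloc (zpowers a) (Signalizer.isPGroup_zpowers_of_pow_eq_one ha) (fun h => ha1 (zpowers_eq_bot.1 h))
  refine Coprime.isSolvable_of_le (K := normalizer (zpowers a : Set G)) ?_ inferInstance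
  intro c hc
  refine Coprime.mem_normalizer_of_forall (conj_zpowers_le ?_)
  rw [mul_inv_eq_of_commute (show Commute a c from (mem_centralizer_singleton_iff.1 hc).symm)]
  exact mem_zpowers a

/-- Enlarging an elementary abelian group by an element of order `p` centralising it. -/
theorem elemAb_sup_zpowers {B : Subgroup G} (hB : Cfsg.IsElementaryAbelian p B) {d : G} (hd : d ^ p = 1)
    (hc : ∀ b ∈ B, Commute b d) (hdB : d ∉ B) :
    Cfsg.IsElementaryAbelian p (B ⊔ zpowers d : Subgroup G) ∧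
      Nat.card (B ⊔ zpowers d : Subgroup G) = Nat.card B * p := by
  have hn : zpowers d ≤ normalizer (B : Set G) := zpowers_le.2 (Coprime.mem_normalizer_of_forall fun b hb => by
    rw [mul_inv_eq_of_commute (hc b hb)]; exact hb)
  have hord : orderOf d = p := orderOf_eq_prime hd fun h => hdB (h ▸ one_mem B)
  have hinf : B ⊓ zpowers d = ⊥ := by
    rw [eq_bot_iff]
    intro x hx
    by_contra hx1
    have hle : zpowers x ≤ zpowers d := zpowers_le.2 hx.2
    have hox : orderOf x = p := orderOf_eq_prime (hB.2 x hx.1) hx1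
    have := Subgroup.eq_of_le_of_card_ge hle (by rw [Nat.card_zpowers, Nat.card_zpowers, hox, hord])
    exact hdB (zpowers_le.2 hx.1 (this ▸ mem_zpowers d))
  refine ⟨⟨⟨⟨fun a b => Subtype.ext ?_⟩⟩, fun a ha => ?_⟩, ?_⟩
  · obtain ⟨x, hx, _, ⟨i, rfl⟩, ha⟩ := (Coprime.mem_sup_iff hn).1 a.2
    obtain ⟨y, hy, _, ⟨j, rfl⟩, hb⟩ := (Coprime.mem_sup_iff hn).1 b.2
    show (a : G) * b = b * a
    rw [← ha, ← hb]
    refine (Commute.mul_left (Commute.mul_right ?_ ?_) (Commute.mul_right ?_ ?_)).eq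
    · exact Signalizer.commute_of_isMulCommutative hB.1 hx hy
    · exact (hc x hx).zpow_right j
    · exact ((hc y hy).zpow_right i).symm
    · exact Commute.zpow_zpow_self d i j
  · obtain ⟨x, hx, _, ⟨i, rfl⟩, rfl⟩ := (Coprime.mem_sup_iff hn).1 ha
    rw [Commute.mul_pow ((hc x hx).zpow_right i), hB.2 x hx, one_mul, ← zpow_natCast, ← zpow_mul, mul_comm,
      zpow_mul, zpow_natCast, hd, one_zpow]
  · have h1 := Coprime.card_mul_inf B (zpowers d)
    rw [hinf, card_bot, mul_one, Nat.card_zpowers, hord,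
      ← Subgroup.coe_mul_of_right_le_normalizer_left B (zpowers d) hn] at h1
    exact h1

/-- An inverted element centralising a subgroup of fixed points, by counting an orbit. -/
theorem exists_inverted_fixed (hp : p ≠ 2) {r : G} {T S : Subgroup G} (hT : IsPGroup p T) (hr : r * r = 1)
    (hrT : r ∈ normalizer (T : Set G)) (hmove : ∃ x ∈ T, r * x * r⁻¹ ≠ x) (hST : S ≤ T)
    (hSr : ∀ y ∈ S, Commute y r) :
    ∃ d ∈ T, orderOf d = p ∧ r * d * r⁻¹ = d⁻¹ ∧ ∀ y ∈ S, Commute d y := by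
  classical
  have hrr : r⁻¹ = r := inv_eq_of_mul_eq_one_right hr
  letI : MulAction T G := MulAction.compHom G ((MulAut.conj (G := G)).comp T.subtype)
  have hsmul : ∀ (x : T) (g : G), x • g = (x : G) * g * (x : G)⁻¹ := fun x g => rfl
  have hS' : IsPGroup p (S.subgroupOf T) := hT.to_subgroup _
  let O := MulAction.orbit T r
  obtain ⟨n, hn⟩ := hT.card_orbit (α := G) r
  have hn0 : n ≠ 0 := by
    rintro rfl
    obtain ⟨x, hx, hne⟩ := hmove
    rw [pow_zero] at hn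
    haveI : Subsingleton (MulAction.orbit T r) := (Nat.card_eq_one_iff_unique.1 hn).1
    have h1 := congrArg Subtype.val (Subsingleton.elim
      (⟨(⟨x, hx⟩ : T) • r, MulAction.mem_orbit _ _⟩ : MulAction.orbit T r) ⟨r, MulAction.mem_orbit_self r⟩)
    change x * r * x⁻¹ = r at h1
    exact hne (by rw [← mul_inv_eq_iff_eq_mul.1 h1, mul_inv_cancel_right])
  have hfix : (⟨r, MulAction.mem_orbit_self r⟩ : O) ∈ MulAction.fixedPoints (S.subgroupOf T) O := by
    rintro ⟨y, hy⟩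
    refine Subtype.ext ?_
    show (y : T) • r = r
    rw [hsmul]
    exact mul_inv_eq_iff_eq_mul.2 (hSr _ hy).eq
  have hmod := hS'.card_modEq_card_fixedPoints O
  have hdvd : p ∣ Nat.card (MulAction.fixedPoints (S.subgroupOf T) O) := by
    refine (Nat.ModEq.dvd_iff hmod dvd_rfl).1 ?_
    rw [show Nat.card O = p ^ n from hn]
    exact dvd_pow_self p hn0
  haveI : Nonempty (MulAction.fixedPoints (S.subgroupOf T) O) := ⟨⟨_, hfix⟩⟩
  haveI : Nontrivial (MulAction.fixedPoints (S.subgroupOf T) O) :=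
    (Finite.one_lt_card_iff_nontrivial).1
      ((Fact.out : p.Prime).one_lt.trans_le (Nat.le_of_dvd Nat.card_pos hdvd))
  obtain ⟨⟨⟨o, ho⟩, hof⟩, hne⟩ := exists_ne (⟨⟨r, MulAction.mem_orbit_self r⟩, hfix⟩ :
    MulAction.fixedPoints (S.subgroupOf T) O)
  obtain ⟨⟨x, hxT⟩, hxo⟩ := ho
  have ho' : o = x * r * x⁻¹ := hxo.symm
  set d := o * r with hd
  have hdT : d ∈ T := by
    rw [hd, ho', show x * r * x⁻¹ * r = x * (r * x⁻¹ * r) by group]
    refine mul_mem hxT ?_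
    have := (mem_normalizer_iff.1 hrT _).1 (inv_mem hxT)
    rwa [hrr] at this
  have hinv : r * d * r⁻¹ = d⁻¹ := by
    rw [hd, ho', mul_inv_rev, show r * (x * r * x⁻¹ * r) * r⁻¹ = r * (x * r * x⁻¹) by group,
      show (x * r * x⁻¹)⁻¹ = x * r⁻¹ * x⁻¹ by group, hrr]
  have hd1 : d ≠ 1 := by
    intro e
    refine hne (Subtype.ext (Subtype.ext ?_))
    show o = r
    rw [hd] at e
    exact (eq_inv_of_mul_eq_one_left e).trans hrr
  have hdS : ∀ y ∈ S, Commute d y := by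
    intro y hy
    have h1 := congrArg Subtype.val (hof ⟨⟨y, hST hy⟩, hy⟩)
    change y * o * y⁻¹ = o at h1
    exact (show Commute o y from (mul_inv_eq_iff_eq_mul.1 h1).symm).mul_left (hSr y hy).symm
  have hdp : ∃ k, orderOf d = p ^ k := by
    obtain ⟨k, hk⟩ := IsPGroup.iff_orderOf.1 hT ⟨d, hdT⟩
    exact ⟨k, by rw [← hk, orderOf_mk]⟩
  obtain ⟨k, hk⟩ := hdp
  have hk0 : k ≠ 0 := by rintro rfl; exact hd1 (orderOf_eq_one_iff.1 (by rw [hk, pow_zero]))
  refine ⟨d ^ (orderOf d / p), pow_mem hdT _, orderOf_pow_orderOf_div (orderOf_pos d).ne'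
    (by rw [hk]; exact dvd_pow_self p hk0), ?_, fun y hy => (hdS y hy).pow_left _⟩
  rw [← conj_pow, hinv, inv_pow]

omit [Fact p.Prime] in
theorem Hyp.fourV_facts (h : Hyp t r s) :
    IsMulCommutative (fourV t r) ∧ Group.IsSolvable (fourV t r) := by
  haveI := h.isKleinFour
  haveI : IsMulCommutative (fourV t r) := IsKleinFour.isMulCommutative
  exact ⟨inferInstance, Group.isSolvable_of_comm fun a b => IsMulCommutative.is_comm.comm a b⟩

omit [Fact p.Prime] in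
theorem Hyp.coprime_of_odd (h : Hyp t r s) {K : Subgroup G} (hK : Odd (Nat.card K)) :
    (Nat.card (fourV t r)).Coprime (Nat.card K) := by
  rw [h.card_fourV, show (4 : ℕ) = 2 ^ 2 from rfl]
  exact Nat.Coprime.pow_left 2 (Nat.coprime_two_left.2 hK)

omit [Fact p.Prime] in
theorem Hyp.commute_of_mem_centralizer_fourV (h : Hyp t r s) {c : G}
    (hc : c ∈ centralizer (fourV t r : Set G)) : Commute c t ∧ Commute c r :=
  ⟨(mem_centralizer_iff.1 hc t (left_mem_fourV t r)).symm, (mem_centralizer_iff.1 hc r (right_mem_fourV t r)).symm⟩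

omit [Fact p.Prime] in
/-- Elements inverted or fixed by `t` and by `r` span invariant cyclic subgroups. -/
theorem Hyp.fourV_le_normalizer_zpowers (h : Hyp t r s) {x : G} (ht : t * x * t⁻¹ ∈ zpowers x)
    (hr : r * x * r⁻¹ ∈ zpowers x) : fourV t r ≤ normalizer (zpowers x : Set G) :=
  fourV_le_iff.2 ⟨Coprime.mem_normalizer_of_forall (conj_zpowers_le ht),
    Coprime.mem_normalizer_of_forall (conj_zpowers_le hr)⟩

/-- Every element of order `p` of `W` centralises an inverted element of order `p` of `U`. -/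
theorem Hyp.exists_pair (h : Hyp t r s) (hp : p ≠ 2) {Q : Subgroup G} (hQU : Q ≤ coreU t) (hQ : IsPGroup p Q)
    (hQn : fourV t r ≤ normalizer (Q : Set G)) (hQm : ∃ x ∈ Q, r * x * r⁻¹ ≠ x) {y : G} (hy : y ∈ coreW t r)
    (hyp : y ^ p = 1) :
    ∃ n ∈ coreU t, orderOf n = p ∧ r * n * r⁻¹ = n⁻¹ ∧ Commute n y := by
  have hAK := h.fourV_le_normalizer_coreU
  have hcop := h.coprime_of_odd h.odd_coreU
  have hsolv : Group.IsSolvable (fourV t r) ∨ Group.IsSolvable (coreU t) := Or.inl h.fourV_facts.2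
  obtain ⟨-, hyr, -⟩ := h.mem_coreW.1 hy
  have hyt : Commute y t := commute_of_mem_coreU (coreW_le_coreU t r hy)
  obtain ⟨P, hyP, hPU, hPn, hPc⟩ := Coprime.exists_invariant_card hAK hcop hsolv p
    (zpowers_le.2 (coreW_le_coreU t r hy)) (isPGroup_zpowers (k := 1) (by rw [pow_one]; exact hyp))
    (h.fourV_le_normalizer_zpowers (by rw [mul_inv_eq_of_commute hyt]; exact mem_zpowers y)
      (by rw [mul_inv_eq_of_commute hyr]; exact mem_zpowers y))
  obtain ⟨R, hQR, hRU, hRn, hRc⟩ := Coprime.exists_invariant_card hAK hcop hsolv p hQU hQ hQn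
  obtain ⟨c, hc, hcR⟩ := Coprime.exists_mem_centralizer_conj_of_card hAK hcop hsolv hPU hRU hPn hRn hPc hRc
  obtain ⟨-, hcr⟩ := h.commute_of_mem_centralizer_fourV hc.2
  obtain ⟨x, hxQ, hxm⟩ := hQm
  have hcx : c * x * c⁻¹ ∈ P := by
    rw [← hcR]
    exact Coprime.conj_mem_conj.2 (hQR hxQ)
  have hmoved : r * (c * x * c⁻¹) * r⁻¹ ≠ c * x * c⁻¹ := fun e => hxm (by
    have e2 : r * (c * x * c⁻¹) * r⁻¹ = c * (r * x * r⁻¹) * c⁻¹ := by
      calc r * (c * x * c⁻¹) * r⁻¹ = (r * c) * x * (r * c)⁻¹ := by group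
        _ = (c * r) * x * (c * r)⁻¹ := by rw [hcr.eq]
        _ = c * (r * x * r⁻¹) * c⁻¹ := by group
    rw [e2] at e
    exact mul_left_cancel (mul_right_cancel e))
  obtain ⟨n, hnP, hno, hni, hnS⟩ := exists_inverted_fixed hp (Coprime.isPGroup_of_card hPc) h.mul_self_r
    (hPn (right_mem_fourV t r)) ⟨_, hcx, hmoved⟩ hyP (fun z hz => by
      obtain ⟨i, rfl⟩ := hz
      exact hyr.zpow_left i)
  exact ⟨n, hPU hnP, hno, hni, hnS y (mem_zpowers y)⟩

/-- A rank three group over a pair of rank two in `U`. -/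
theorem Hyp.exists_triple (h : Hyp t r s) (hp : p ≠ 2) (hloc : SolvableLocals G p) {y n n' : G}
    (hy : y ∈ coreW t r) (hyo : orderOf y = p) (hn : n ∈ coreU t) (hno : orderOf n = p)
    (hni : r * n * r⁻¹ = n⁻¹) (hny : Commute n y) (hn'o : orderOf n' = p) (hn'i : t * n' * t⁻¹ = n'⁻¹)
    (hn'y : Commute n' y) (hn'V : fourV t r ≤ normalizer (zpowers n' : Set G)) :
    ∃ A B : Subgroup G, Cfsg.IsElementaryAbelian p A ∧ p ^ 3 ≤ Nat.card A ∧ B ≤ A ∧
      Nat.card B = p ^ 2 ∧ B ≤ coreU t ∧ y ∈ A ∧ B ≤ centralizer ({y} : Set G) := by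
  have hyp : y ^ p = 1 := hyo ▸ pow_orderOf_eq_one y
  have hnp : n ^ p = 1 := hno ▸ pow_orderOf_eq_one n
  have hn'p : n' ^ p = 1 := hn'o ▸ pow_orderOf_eq_one n'
  obtain ⟨-, hyr, -⟩ := h.mem_coreW.1 hy
  have hyt : Commute y t := commute_of_mem_coreU (coreW_le_coreU t r hy)
  have hnt : Commute n t := commute_of_mem_coreU hn
  have hny0 : n ∉ zpowers y := fun hmem => by
    obtain ⟨i, hi⟩ := hmem
    have h1 : Commute n r := hi ▸ hyr.zpow_left i
    have := eq_one_of_square hp hnp (pow_eq_one_of_inverted_fixed hni h1)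
    rw [this, orderOf_one] at hno
    exact (Fact.out : p.Prime).ne_one hno.symm
  set B := zpowers y ⊔ zpowers n with hBdef
  obtain ⟨hB, hBc⟩ := elemAb_sup_zpowers (elemAb_zpowers hyp) hnp (fun b hb => by
    obtain ⟨i, rfl⟩ := hb
    exact (hny.symm.zpow_left i)) hny0
  rw [Nat.card_zpowers, hyo, ← pow_two] at hBc
  set H := centralizer ({y} : Set G) with hHdef
  have hy1 : y ≠ 1 := fun e => (Fact.out : p.Prime).ne_one (by rw [← hyo, e, orderOf_one])
  have hHs : Group.IsSolvable H := hloc.isSolvable_centralizer hyp hy1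
  have hVH : fourV t r ≤ H := fourV_le_iff.2
    ⟨mem_centralizer_singleton_iff.2 hyt.symm.eq, mem_centralizer_singleton_iff.2 hyr.symm.eq⟩
  have hBH : B ≤ H := sup_le (zpowers_le.2 (mem_centralizer_singleton_iff.2 rfl))
    (zpowers_le.2 (mem_centralizer_singleton_iff.2 hny.eq))
  have hBU : B ≤ coreU t := sup_le (zpowers_le.2 (coreW_le_coreU t r hy)) (zpowers_le.2 hn)
  have hBV : fourV t r ≤ normalizer (B : Set G) := by
    refine le_trans (le_inf (h.fourV_le_normalizer_zpowers ?_ ?_) (h.fourV_le_normalizer_zpowers ?_ ?_))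
      (normalizer_inf_le_sup _ _)
    · rw [mul_inv_eq_of_commute hyt]; exact mem_zpowers y
    · rw [mul_inv_eq_of_commute hyr]; exact mem_zpowers y
    · rw [mul_inv_eq_of_commute hnt]; exact mem_zpowers n
    · rw [hni]; exact inv_mem (mem_zpowers n)
  set O := oddPart H
  have hOn : fourV t r ≤ normalizer (O : Set G) := hVH.trans (le_normalizer_oddPart H)
  have hcop := h.coprime_of_odd (odd_card_oddPart H)
  have hsolv : Group.IsSolvable (fourV t r) ∨ Group.IsSolvable O := Or.inl h.fourV_facts.2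
  have hpodd : Odd p := (Fact.out : p.Prime).odd_of_ne_two hp
  have hBO : B ≤ O := h.odd_le_oddPart hHs hVH hBH (by rw [hBc]; exact hpodd.pow) hBV
  have hn'O : zpowers n' ≤ O := h.odd_le_oddPart hHs hVH
    (zpowers_le.2 (mem_centralizer_singleton_iff.2 hn'y.eq)) (by rw [Nat.card_zpowers, hn'o]; exact hpodd) hn'V
  obtain ⟨T, hBT, hTO, hTn, hTc⟩ := Coprime.exists_invariant_card hOn hcop hsolv p hBO
    (Signalizer.isPGroup_of_elemAb hB) hBV
  obtain ⟨R, hR', hRO, hRn, hRc⟩ := Coprime.exists_invariant_card hOn hcop hsolv p hn'O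
    (isPGroup_zpowers (k := 1) (by rw [pow_one]; exact hn'p)) hn'V
  obtain ⟨c, hc, hcR⟩ := Coprime.exists_mem_centralizer_conj_of_card hOn hcop hsolv hTO hRO hTn hRn hTc hRc
  obtain ⟨hct, -⟩ := h.commute_of_mem_centralizer_fourV hc.2
  have hcx : c * n' * c⁻¹ ∈ T := by
    rw [← hcR]
    exact Coprime.conj_mem_conj.2 (hR' (mem_zpowers n'))
  have hmoved : t * (c * n' * c⁻¹) * t⁻¹ ≠ c * n' * c⁻¹ := fun e => by
    have e2 : t * (c * n' * c⁻¹) * t⁻¹ = c * (t * n' * t⁻¹) * c⁻¹ := by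
      calc t * (c * n' * c⁻¹) * t⁻¹ = (t * c) * n' * (t * c)⁻¹ := by group
        _ = (c * t) * n' * (c * t)⁻¹ := by rw [hct.eq]
        _ = c * (t * n' * t⁻¹) * c⁻¹ := by group
    rw [e2, hn'i] at e
    have e3 : n'⁻¹ = n' := mul_left_cancel (mul_right_cancel e)
    have := eq_one_of_square hp hn'p (by nth_rewrite 1 [← e3]; exact inv_mul_cancel n')
    rw [this, orderOf_one] at hn'o
    exact (Fact.out : p.Prime).ne_one hn'o.symm
  obtain ⟨d, -, hdo, hdi, hdS⟩ := exists_inverted_fixed hp (Coprime.isPGroup_of_card hTc) h.mul_self_t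
    (hTn (left_mem_fourV t r)) ⟨_, hcx, hmoved⟩ hBT (fun z hz => commute_of_mem_coreU (hBU hz))
  have hdB : d ∉ B := fun hmem => by
    have := eq_one_of_square hp (hB.2 d hmem) (pow_eq_one_of_inverted_fixed hdi (commute_of_mem_coreU (hBU hmem)))
    rw [this, orderOf_one] at hdo
    exact (Fact.out : p.Prime).ne_one hdo.symm
  obtain ⟨hA, hAc⟩ := elemAb_sup_zpowers hB (hdo ▸ pow_orderOf_eq_one d) (fun b hb => (hdS b hb).symm) hdB
  refine ⟨B ⊔ zpowers d, B, hA, ?_, le_sup_left, hBc, hBU, ?_, hBH⟩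
  · rw [hAc, hBc, ← pow_succ]
  · exact mem_sup_left (mem_sup_left (mem_zpowers y))

/-- **The dichotomy**: if `p` divides `|W|` then `r` moves no invariant `p`-subgroup of `U`. -/
theorem Hyp.false_of_bad (h : Hyp t r s) (hns : ¬ Group.IsSolvable G) (hR : RatioLemma t r) (hp : p ≠ 2)
    (hloc : SolvableLocals G p) {Q : Subgroup G} (hQU : Q ≤ coreU t) (hQ : IsPGroup p Q)
    (hQn : fourV t r ≤ normalizer (Q : Set G)) (hQm : ∃ x ∈ Q, r * x * r⁻¹ ≠ x)
    (hpW : p ∣ Nat.card (coreW t r)) : False := by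
  obtain ⟨⟨y, hy⟩, hyo'⟩ := exists_prime_orderOf_dvd_card' (G := coreW t r) p hpW
  have hyo : orderOf y = p := by rw [← hyo', orderOf_mk]
  have hyp : y ^ p = 1 := hyo ▸ pow_orderOf_eq_one y
  have hy1 : y ≠ 1 := fun e => (Fact.out : p.Prime).ne_one (by rw [← hyo, e, orderOf_one])
  obtain ⟨n, hn, hno, hni, hny⟩ := h.exists_pair hp hQU hQ hQn hQm hy hyp
  have hQ2U : Q.map (MulAut.conj s).toMonoidHom ≤ coreU r := h.map_coreU ▸ map_mono hQU
  have hQ2n : fourV r (t * r) ≤ normalizer (Q.map (MulAut.conj s).toMonoidHom : Set G) := by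
    rw [h.fourV_rot]
    intro v hv
    refine Coprime.mem_normalizer_of_forall ?_
    rintro _ ⟨x, hx, rfl⟩
    have hv' : s⁻¹ * v * s ∈ fourV t r := by
      have := (mem_normalizer_iff.1 (inv_mem h.conj_s_mem_fourV) v).1 hv
      rwa [inv_inv] at this
    refine ⟨(s⁻¹ * v * s) * x * (s⁻¹ * v * s)⁻¹, (mem_normalizer_iff.1 (hQn hv') x).1 hx, ?_⟩
    simp [MulAut.conj_apply, mul_assoc]
  obtain ⟨x, hx, hxm⟩ := hQm
  have hQ2m : ∃ x' ∈ Q.map (MulAut.conj s).toMonoidHom, t * r * x' * (t * r)⁻¹ ≠ x' := by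
    refine ⟨s * x * s⁻¹, ⟨x, hx, rfl⟩, fun e => hxm ?_⟩
    rw [← h.conj_r, show s * r * s⁻¹ * (s * x * s⁻¹) * (s * r * s⁻¹)⁻¹ = s * (r * x * r⁻¹) * s⁻¹ by group] at e
    exact mul_left_cancel (mul_right_cancel e)
  have hy2 : y ∈ coreW r (t * r) := by rw [h.coreW_rot]; exact hy
  obtain ⟨n', hn', hn'o, hn'i, hn'y⟩ := h.rot.exists_pair hp hQ2U (hQ.map _) hQ2n hQ2m hy2 hyp
  have hn'r : Commute n' r := commute_of_mem_coreU hn'
  have hn't : t * n' * t⁻¹ = n'⁻¹ := by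
    calc t * n' * t⁻¹ = t * r * (r⁻¹ * n' * r) * (t * r)⁻¹ := by group
      _ = t * r * n' * (t * r)⁻¹ := by
        rw [show r⁻¹ * n' * r = n' by rw [mul_assoc, hn'r.eq, inv_mul_cancel_left]]
      _ = n'⁻¹ := hn'i
  have hn'V : fourV t r ≤ normalizer (zpowers n' : Set G) := h.fourV_le_normalizer_zpowers
    (by rw [hn't]; exact inv_mem (mem_zpowers n')) (by rw [mul_inv_eq_of_commute hn'r]; exact mem_zpowers n')
  have hnt : Commute n t := commute_of_mem_coreU hn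
  have hnV : fourV r (t * r) ≤ normalizer (zpowers n : Set G) := by
    rw [h.fourV_rot]
    exact h.fourV_le_normalizer_zpowers (by rw [mul_inv_eq_of_commute hnt]; exact mem_zpowers n)
      (by rw [hni]; exact inv_mem (mem_zpowers n))
  obtain ⟨A1, B1, hA1, hA13, hBA1, hB1, hBU1, hyA1, hBy1⟩ :=
    h.exists_triple hp hloc hy hyo hn hno hni hny hn'o hn't hn'y hn'V
  obtain ⟨A2, B2, hA2, hA23, hBA2, hB2, hBU2, hyA2, hBy2⟩ :=
    h.rot.exists_triple hp hloc hy2 hyo hn' hn'o hn'i hn'y hno hni hny hnV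
  obtain ⟨M1, -, hM1s, -, hC1, hH1⟩ :=
    exists_overgroup hns h.abelian_sylow_two hp hloc (Signalizer.isPGroup_of_elemAb hA1) le_rfl hA1 hA13
  obtain ⟨M2, -, hM2s, -, hC2, hH2⟩ :=
    exists_overgroup hns h.abelian_sylow_two hp hloc (Signalizer.isPGroup_of_elemAb hA2) le_rfl hA2 hA23
  have hy1M : centralizer ({y} : Set G) ≤ M1 := hC1 y hyA1 hy1
  have hy2M : centralizer ({y} : Set G) ≤ M2 := hC2 y hyA2 hy1
  have h21 : M2 ≤ M1 := hH1 M2 hM2s B1 hBA1 hB1 (hBy1.trans hy2M)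
  have h12 : M1 ≤ M2 := hH2 M1 hM1s B2 hBA2 hB2 (hBy2.trans hy1M)
  have hU1 : coreU t ≤ M1 := hH1 _ h.isSolvable_coreU B1 hBA1 hB1 hBU1
  have hVy : fourV t r ≤ centralizer ({y} : Set G) := fourV_le_iff.2
    ⟨mem_centralizer_singleton_iff.2 (commute_of_mem_coreU (coreW_le_coreU t r hy)).symm.eq,
      mem_centralizer_singleton_iff.2 (h.mem_coreW.1 hy).2.1.symm.eq⟩
  have hCt : centralizer ({t} : Set G) ≤ M1 := h.sup_fourV ▸ sup_le hU1 (hVy.trans hy1M)
  have hsM : s ∈ normalizer (M1 : Set G) := by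
    refine Coprime.mem_normalizer_of_forall fun g hg => h21 ?_
    have hms : Group.IsSolvable (M1.map (MulAut.conj s).toMonoidHom) := by
      haveI := hM1s
      exact Group.isSolvable_of_surjective ((MulAut.conj s).toMonoidHom.subgroupMap_surjective M1)
    refine hH2 _ hms B2 hBA2 hB2 ?_ ⟨g, hg, rfl⟩
    refine hBU2.trans ?_
    rw [← h.map_coreU]
    exact map_mono hU1
  have hsC : Group.IsSolvable (zpowers s) :=
    Group.isSolvable_of_comm fun a b => Subtype.ext (by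
      obtain ⟨i, hi⟩ := a.2
      obtain ⟨j, hj⟩ := b.2
      show (a : G) * b = b * a
      rw [← hi, ← hj]
      exact Commute.zpow_zpow_self s i j)
  exact hR (fun e => hy1 (mem_bot.1 (e ▸ coreW_le_coreU t r hy))) (M1 ⊔ zpowers s)
    (Signalizer.isSolvable_sup hM1s hsC (zpowers_le.2 hsM)) (hCt.trans le_sup_left) s
    (mem_sup_right (mem_zpowers s)) h.conj_t

/-- A maximal invariant `p`-subgroup. -/
def MaxInv (p : ℕ) (t r : G) (P : Subgroup G) : Prop :=
  IsPGroup p P ∧ fourV t r ≤ normalizer (P : Set G) ∧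
    ∀ X : Subgroup G, IsPGroup p X → fourV t r ≤ normalizer (X : Set G) → P ≤ X → X = P

omit [Fact p.Prime] in
theorem exists_maxInv {Q : Subgroup G} (hQ : IsPGroup p Q) (hQn : fourV t r ≤ normalizer (Q : Set G)) :
    ∃ P, MaxInv p t r P ∧ Q ≤ P := by
  have hne : ({X : Subgroup G | IsPGroup p X ∧ fourV t r ≤ normalizer (X : Set G) ∧ Q ≤ X}).Nonempty :=
    ⟨Q, hQ, hQn, le_rfl⟩
  obtain ⟨P, ⟨hP, hPn, hQP⟩, hmax⟩ := (Set.toFinite _).exists_maximal hne
  exact ⟨P, ⟨hP, hPn, fun X hX hXn hPX => le_antisymm (hmax ⟨hX, hXn, hQP.trans hPX⟩ hPX) hPX⟩, hQP⟩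

theorem lt_inf_normalizer {P D : Subgroup G} (hP : IsPGroup p P) (hDP : D < P) :
    D < P ⊓ normalizer (D : Set G) := by
  refine lt_of_le_of_ne (le_inf hDP.le le_normalizer) fun e => ?_
  haveI : Group.IsNilpotent P := hP.isNilpotent
  refine (Group.normalizerCondition_of_isNilpotent (G := P) (D.subgroupOf P) ?_).ne ?_
  · rw [lt_top_iff_ne_top, Ne, subgroupOf_eq_top]
    exact not_le_of_gt hDP
  · refine le_antisymm le_normalizer fun x hx => ?_
    rw [mem_subgroupOf, e]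
    refine ⟨x.2, Coprime.mem_normalizer_of_forall fun z hz => ?_⟩
    exact (mem_normalizer_iff.1 hx ⟨z, hDP.le hz⟩).1 hz

/-- Two maximal invariant `p`-subgroups meeting non-trivially are equal when `W = 1`. -/
theorem Hyp.maxInv_unique (h : Hyp t r s) (hW : coreW t r = ⊥) (hp : p ≠ 2)
    (hN : ∀ D : Subgroup G, IsPGroup p D → D ≠ ⊥ → fourV t r ≤ normalizer (D : Set G) →
      Group.IsSolvable (normalizer (D : Set G)))
    {P R : Subgroup G} (hP : MaxInv p t r P) (hR : MaxInv p t r R) (hne : P ⊓ R ≠ ⊥) : P = R := by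
  classical
  suffices hmain : ∀ k : ℕ, ∀ P R : Subgroup G, MaxInv p t r P → MaxInv p t r R → P ⊓ R ≠ ⊥ →
      Nat.card G - Nat.card (P ⊓ R : Subgroup G) ≤ k → P = R from hmain _ P R hP hR hne le_rfl
  intro k
  induction k using Nat.strong_induction_on with
  | _ k ih =>
    intro P R hP hR hne hk
    by_contra hPR
    set D := P ⊓ R with hD
    have hDP : D < P := lt_of_le_of_ne inf_le_left fun e => hPR
      ((hP.2.2 R hR.1 hR.2.1 (e ▸ inf_le_right)).symm)
    have hDR : D < R := lt_of_le_of_ne inf_le_right fun e => hPR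
      (hR.2.2 P hP.1 hP.2.1 (e ▸ inf_le_left))
    set H := normalizer (D : Set G) with hH
    have hVD : fourV t r ≤ H := (le_inf hP.2.1 hR.2.1).trans (inf_normalizer_le_normalizer_inf (H := P) (K := R))
    have hHs : Group.IsSolvable H := hN D (hP.1.to_le inf_le_left) hne hVD
    set O := oddPart H
    have hOn : fourV t r ≤ normalizer (O : Set G) := hVD.trans (le_normalizer_oddPart H)
    have hcop := h.coprime_of_odd (odd_card_oddPart H)
    have hsolv : Group.IsSolvable (fourV t r) ∨ Group.IsSolvable O := Or.inl h.fourV_facts.2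
    have key : ∀ X : Subgroup G, MaxInv p t r X → ∃ T : Subgroup G, X ⊓ H ≤ T ∧ T ≤ O ∧
        fourV t r ≤ normalizer (T : Set G) ∧ Nat.card T = p ^ (Nat.card O).factorization p := by
      intro X hX
      have hn : fourV t r ≤ normalizer ((X ⊓ H : Subgroup G) : Set G) :=
        (le_inf hX.2.1 (hVD.trans le_normalizer)).trans (inf_normalizer_le_normalizer_inf (H := X) (K := H))
      have hodd : Odd (Nat.card (X ⊓ H : Subgroup G)) := by
        obtain ⟨j, hj⟩ := IsPGroup.iff_card.1 (hX.1.to_le (inf_le_left : X ⊓ H ≤ X))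
        rw [hj]
        exact ((Fact.out : p.Prime).odd_of_ne_two hp).pow
      exact Coprime.exists_invariant_card hOn hcop hsolv p
        (h.odd_le_oddPart hHs hVD inf_le_right hodd hn) (hX.1.to_le inf_le_left) hn
    obtain ⟨T1, hT1, hT1O, hT1n, hT1c⟩ := key P hP
    obtain ⟨T2, hT2, hT2O, hT2n, hT2c⟩ := key R hR
    obtain ⟨c, hc, hcT⟩ :=
      Coprime.exists_mem_centralizer_conj_of_card hOn hcop hsolv hT1O hT2O hT1n hT2n hT1c hT2c
    have hc1 : c = 1 := by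
      rw [← mem_bot, ← hW]
      exact h.mem_coreW_of_odd hc.2 ((odd_card_oddPart H).of_dvd_nat (orderOf_dvd_natCard _ hc.1))
    rw [hc1, map_one, one_smul] at hcT
    subst hcT
    obtain ⟨S, hS, hTS⟩ := exists_maxInv (Coprime.isPGroup_of_card hT2c) hT2n
    have hlt : ∀ X : Subgroup G, MaxInv p t r X → D < X → X ⊓ H ≤ T2 → S = X := by
      intro X hX hDX hle
      have h1 : D < X ⊓ S := (lt_inf_normalizer hX.1 hDX).trans_le (le_inf inf_le_left (hle.trans hTS))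
      have hcard : Nat.card D < Nat.card (X ⊓ S : Subgroup G) := by
        refine lt_of_le_of_ne (card_le_of_le h1.le) fun e => h1.ne (Subgroup.eq_of_le_of_card_ge h1.le e.ge)
      have hG : Nat.card (X ⊓ S : Subgroup G) ≤ Nat.card G := card_le_card_group _
      exact (ih _ (by omega) X S hX hS (fun e => hne (le_bot_iff.1 (e ▸ h1.le))) le_rfl).symm
    exact hPR ((hlt P hP hDP hT1).symm.trans (hlt R hR hDR hT2))

/-- The `p`-elements of `U` lie in every maximal invariant `p`-subgroup meeting `U`, if `W = 1`. -/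
theorem Hyp.mem_of_maxInv (h : Hyp t r s) (hW : coreW t r = ⊥) (hp : p ≠ 2)
    (hN : ∀ D : Subgroup G, IsPGroup p D → D ≠ ⊥ → fourV t r ≤ normalizer (D : Set G) →
      Group.IsSolvable (normalizer (D : Set G)))
    {X : Subgroup G} (hX : MaxInv p t r X) {a : G} (haX : a ∈ X) (haU : a ∈ coreU t) (ha : a ≠ 1)
    {x : G} {k : ℕ} (hx : x ∈ coreU t) (hxp : x ^ p ^ k = 1) : x ∈ X := by
  obtain ⟨hinv, hcomm⟩ := h.inverts_coreU hW
  let P : Subgroup G :=
    { carrier := {z | z ∈ coreU t ∧ ∃ j : ℕ, z ^ p ^ j = 1}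
      one_mem' := ⟨one_mem _, 0, one_pow _⟩
      mul_mem' := fun {z w} ⟨hz, i, hi⟩ ⟨hw, j, hj⟩ => ⟨mul_mem hz hw, i + j, by
        rw [Commute.mul_pow (hcomm z hz w hw), pow_add, pow_mul, hi, one_pow, one_mul, pow_mul', hj, one_pow]⟩
      inv_mem' := fun {z} ⟨hz, i, hi⟩ => ⟨inv_mem hz, i, by rw [inv_pow, hi, inv_one]⟩ }
  have hP : IsPGroup p P := fun z => ⟨z.2.2.choose, Subtype.ext z.2.2.choose_spec⟩
  have hPn : fourV t r ≤ normalizer (P : Set G) := fourV_le_iff.2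
    ⟨Coprime.mem_normalizer_of_forall fun z hz => by
        rw [mul_inv_eq_of_commute (commute_of_mem_coreU hz.1)]; exact hz,
      Coprime.mem_normalizer_of_forall fun z hz => by rw [hinv z hz.1]; exact inv_mem hz⟩
  obtain ⟨X', hX', hPX⟩ := exists_maxInv hP hPn
  obtain ⟨j, hj⟩ := IsPGroup.iff_orderOf.1 hX.1 ⟨a, haX⟩
  rw [orderOf_mk] at hj
  have haX' : a ∈ X' := hPX ⟨haU, j, hj ▸ pow_orderOf_eq_one a⟩
  have := h.maxInv_unique hW hp hN hX hX' fun e => ha (mem_bot.1 (e ▸ ⟨haX, haX'⟩))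
  rw [this]
  exact hPX ⟨hx, k, hxp⟩

/-- A mixed invariant subgroup gives one normalised by a rotation. -/
theorem Hyp.exists_rotInv (h : Hyp t r s) (hW : coreW t r = ⊥) (hp : p ≠ 2)
    (hN : ∀ D : Subgroup G, IsPGroup p D → D ≠ ⊥ → fourV t r ≤ normalizer (D : Set G) →
      Group.IsSolvable (normalizer (D : Set G)))
    {Q : Subgroup G} (hQ : IsPGroup p Q) (hQn : fourV t r ≤ normalizer (Q : Set G))
    (ht : Q ⊓ centralizer ({t} : Set G) ≠ ⊥) (hr : Q ⊓ centralizer ({r} : Set G) ≠ ⊥) :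
    ∃ X : Subgroup G, IsPGroup p X ∧ fourV t r ≤ normalizer (X : Set G) ∧ X ≠ ⊥ ∧ s ∈ normalizer (X : Set G) := by
  obtain ⟨X, hX, hQX⟩ := exists_maxInv hQ hQn
  have hpodd : Odd p := (Fact.out : p.Prime).odd_of_ne_two hp
  have hoddX : ∀ x ∈ X, Odd (orderOf x) := fun x hx => by
    obtain ⟨j, hj⟩ := IsPGroup.iff_orderOf.1 hX.1 ⟨x, hx⟩
    rw [orderOf_mk] at hj
    exact hj ▸ hpodd.pow
  have hpowX : ∀ x ∈ X, ∃ j : ℕ, x ^ p ^ j = 1 := fun x hx =>
    (hX.1 ⟨x, hx⟩).imp fun j hj => congrArg Subtype.val hj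
  obtain ⟨⟨a, haQ, hac⟩, ha⟩ := Subgroup.ne_bot_iff_exists_ne_one.1 ht
  obtain ⟨⟨b, hbQ, hbc⟩, hb⟩ := Subgroup.ne_bot_iff_exists_ne_one.1 hr
  have haU : a ∈ coreU t := h.mem_coreU.2 ⟨mem_centralizer_singleton_iff.1 hac, hoddX a (hQX haQ)⟩
  have hbU : b ∈ coreU r := h.rot.mem_coreU.2 ⟨mem_centralizer_singleton_iff.1 hbc, hoddX b (hQX hbQ)⟩
  have ha1 : a ≠ 1 := fun e => ha (Subtype.ext e)
  have hb1 : b ≠ 1 := fun e => hb (Subtype.ext e)
  have hW2 : coreW r (t * r) = ⊥ := h.coreW_rot.trans hW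
  have hX2 : MaxInv p r (t * r) X := by
    simpa only [MaxInv, h.fourV_rot] using hX
  have hsmem : ∀ v ∈ fourV t r, s⁻¹ * v * s ∈ fourV t r := fun v hv => by
    have := (mem_normalizer_iff.1 (inv_mem h.conj_s_mem_fourV) v).1 hv
    rwa [inv_inv] at this
  have hXs : MaxInv p t r (X.map (MulAut.conj s).toMonoidHom) := by
    refine ⟨hX.1.map _, fun v hv => ?_, fun Y hY hYn hle => ?_⟩
    · refine Coprime.mem_normalizer_of_forall ?_
      rintro _ ⟨x, hx, rfl⟩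
      refine ⟨(s⁻¹ * v * s) * x * (s⁻¹ * v * s)⁻¹, (mem_normalizer_iff.1 (hX.2.1 (hsmem v hv)) x).1 hx, ?_⟩
      simp [MulAut.conj_apply, mul_assoc]
    · have h1 : Y.map (MulAut.conj s⁻¹).toMonoidHom = X := by
        refine hX.2.2 _ (hY.map _) (fun v hv => Coprime.mem_normalizer_of_forall ?_) fun x hx =>
          ⟨s * x * s⁻¹, hle ⟨x, hx, rfl⟩, by simp [MulAut.conj_apply, mul_assoc]⟩
        rintro _ ⟨y, hy, rfl⟩
        have hv' : s * v * s⁻¹ ∈ fourV t r := (mem_normalizer_iff.1 h.conj_s_mem_fourV v).1 hv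
        refine ⟨(s * v * s⁻¹) * y * (s * v * s⁻¹)⁻¹, (mem_normalizer_iff.1 (hYn hv') y).1 hy, ?_⟩
        simp [MulAut.conj_apply, mul_assoc]
      refine le_antisymm (fun y hy => ⟨s⁻¹ * y * s, h1 ▸ ⟨y, hy, by simp [MulAut.conj_apply]⟩, ?_⟩) hle
      simp [MulAut.conj_apply, mul_assoc]
  have hsX : s ∈ normalizer (X : Set G) := by
    have hsa : s * a * s⁻¹ ∈ coreU r := h.map_coreU ▸ ⟨a, haU, rfl⟩
    obtain ⟨j, hj⟩ := hpowX a (hQX haQ)
    have h1 : s * a * s⁻¹ ∈ X := h.rot.mem_of_maxInv hW2 hp (by rw [h.fourV_rot]; exact hN) hX2 (hQX hbQ) hbU hb1 hsa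
      (k := j) (by rw [conj_pow, hj, mul_one, mul_inv_cancel])
    have h2 : s * a * s⁻¹ ≠ 1 := fun e => ha1 (by simpa using e)
    have h3 := h.maxInv_unique hW hp hN hX hXs fun e =>
      h2 (mem_bot.1 (e ▸ ⟨h1, a, hQX haQ, rfl⟩))
    refine Coprime.mem_normalizer_of_forall fun x hx => ?_
    rw [h3]
    exact ⟨x, hx, rfl⟩
  exact ⟨X, hX.1, hX.2.1, fun e => ha1 (mem_bot.1 (e ▸ hQX haQ)), hsX⟩

/-- An invariant `p`-group normalised by a rotation has rank at least three if `W = 1`. -/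
theorem Hyp.exists_rank_three (h : Hyp t r s) (hW : coreW t r = ⊥) (hp : p ≠ 2) {X : Subgroup G}
    (hXp : IsPGroup p X) (hXV : fourV t r ≤ normalizer (X : Set G)) (hXb : X ≠ ⊥)
    (hsX : s ∈ normalizer (X : Set G)) :
    ∃ A : Subgroup G, A ≤ X ∧ Cfsg.IsElementaryAbelian p A ∧ p ^ 3 ≤ Nat.card A ∧
      ∃ z ∈ A, z ≠ 1 ∧ z ∈ coreU t := by
  have hW2 : coreW r (t * r) = ⊥ := h.coreW_rot.trans hW
  have hpodd : Odd p := (Fact.out : p.Prime).odd_of_ne_two hp
  have hoddX : ∀ x ∈ X, Odd (orderOf x) := fun x hx => by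
    obtain ⟨j, hj⟩ := IsPGroup.iff_orderOf.1 hXp ⟨x, hx⟩
    rw [orderOf_mk] at hj
    exact hj ▸ hpodd.pow
  let Z : Subgroup G :=
    { carrier := {z | z ∈ X ∧ (∀ x ∈ X, Commute z x) ∧ z ^ p = 1}
      one_mem' := ⟨one_mem _, fun x _ => Commute.one_left x, one_pow p⟩
      mul_mem' := fun {z w} ⟨hz, hzc, hzp⟩ ⟨hw, hwc, hwp⟩ => ⟨mul_mem hz hw,
        fun x hx => (hzc x hx).mul_left (hwc x hx), by
        rw [Commute.mul_pow (hzc w hw), hzp, hwp, one_mul]⟩
      inv_mem' := fun {z} ⟨hz, hzc, hzp⟩ => ⟨inv_mem hz, fun x hx => (hzc x hx).inv_left, by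
        rw [inv_pow, hzp, inv_one]⟩ }
  have hZn : ∀ g ∈ normalizer (X : Set G), ∀ z ∈ Z, g * z * g⁻¹ ∈ Z := by
    intro g hg z hz
    refine ⟨(mem_normalizer_iff.1 hg z).1 hz.1, fun x hx => ?_, by rw [conj_pow, hz.2.2, mul_one, mul_inv_cancel]⟩
    have hx' : g⁻¹ * x * g ∈ X := by
      have := (mem_normalizer_iff.1 (inv_mem hg) x).1 hx
      rwa [inv_inv] at this
    have hc := hz.2.1 _ hx'
    calc g * z * g⁻¹ * x = g * (z * (g⁻¹ * x * g)) * g⁻¹ := by group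
      _ = g * ((g⁻¹ * x * g) * z) * g⁻¹ := by rw [hc.eq]
      _ = x * (g * z * g⁻¹) := by group
  haveI : Nontrivial X := (nontrivial_iff_ne_bot X).2 hXb
  obtain ⟨z0, hz0, hz01⟩ : ∃ z0 ∈ Z, z0 ≠ 1 := by
    haveI := hXp.center_nontrivial
    have hd : p ∣ Nat.card (center X) := by
      obtain ⟨j, hj⟩ := IsPGroup.iff_card.1 (hXp.to_subgroup (center X))
      have : 1 < Nat.card (center X) := Finite.one_lt_card
      rw [hj]
      exact dvd_pow_self p (fun e => by rw [hj, e, pow_zero] at this; exact absurd this (lt_irrefl 1))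
    obtain ⟨⟨⟨z, hzX⟩, hzc⟩, hzo⟩ := exists_prime_orderOf_dvd_card' (G := center X) p hd
    rw [orderOf_mk, orderOf_mk] at hzo
    refine ⟨z, ⟨hzX, fun x hx => (congrArg Subtype.val (mem_center_iff.1 hzc ⟨x, hx⟩)).symm,
      hzo ▸ pow_orderOf_eq_one z⟩, fun e => ?_⟩
    rw [e, orderOf_one] at hzo
    exact (Fact.out : p.Prime).ne_one hzo.symm
  have hVX : ∀ v ∈ fourV t r, v ∈ normalizer (X : Set G) := fun v hv => hXV hv
  obtain ⟨z, hz, hz1, hzt⟩ : ∃ z ∈ Z, z ≠ 1 ∧ Commute z t := by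
    have fix_of : ∀ (v : G), v * v = 1 → v ∈ normalizer (X : Set G) → v * z0 * v⁻¹ ≠ z0⁻¹ →
        ∃ w ∈ Z, w ≠ 1 ∧ Commute w v := by
      intro v hv hvn hne
      have hw := hZn v hvn z0 hz0
      refine ⟨z0 * (v * z0 * v⁻¹), mul_mem hz0 hw, fun e => hne (eq_inv_of_mul_eq_one_right e), ?_⟩
      have hvv : v⁻¹ = v := inv_eq_of_mul_eq_one_right hv
      refine (mul_inv_eq_iff_eq_mul.1 ?_).symm
      rw [hvv] at hw ⊢
      have e1 : v * (v * z0 * v) * v = z0 := by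
        rw [show v * (v * z0 * v) * v = (v * v) * z0 * (v * v) by group, hv, one_mul, mul_one]
      calc v * (z0 * (v * z0 * v)) * v = v * z0 * (1 * (v * z0 * v)) * v := by rw [one_mul]; group
        _ = (v * z0 * v) * (v * (v * z0 * v) * v) := by nth_rewrite 1 [← hv]; group
        _ = (v * z0 * v) * z0 := by rw [e1]
        _ = z0 * (v * z0 * v) := (hz0.2.1 _ hw.1).eq.symm
    by_cases e1 : t * z0 * t⁻¹ = z0⁻¹
    · by_cases e2 : r * z0 * r⁻¹ = z0⁻¹
      · refine ⟨s * z0 * s⁻¹, hZn s hsX z0 hz0, fun e => hz01 (by simpa using e), ?_⟩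
        have e3 : t * r * z0 * (t * r)⁻¹ = z0 := by
          rw [show t * r * z0 * (t * r)⁻¹ = t * (r * z0 * r⁻¹) * t⁻¹ by group, e2, ← conj_inv, e1, inv_inv]
        refine (mul_inv_eq_iff_eq_mul.1 ?_).symm
        rw [← h.conj_mul, show s * (t * r) * s⁻¹ * (s * z0 * s⁻¹) * (s * (t * r) * s⁻¹)⁻¹
          = s * (t * r * z0 * (t * r)⁻¹) * s⁻¹ by group, e3]
      · obtain ⟨w, hw, hw1, hwr⟩ := fix_of r h.mul_self_r (hVX r (right_mem_fourV t r)) e2
        refine ⟨s⁻¹ * w * s, ?_, fun e => hw1 ?_, ?_⟩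
        · have := hZn s⁻¹ (inv_mem hsX) w hw
          rwa [inv_inv] at this
        · calc w = s * (s⁻¹ * w * s) * s⁻¹ := by group
            _ = 1 := by rw [e]; group
        · refine (mul_inv_eq_iff_eq_mul.1 ?_).symm
          have e4 : t = s⁻¹ * r * s := by rw [← h.conj_t]; group
          rw [e4, show s⁻¹ * r * s * (s⁻¹ * w * s) * (s⁻¹ * r * s)⁻¹ = s⁻¹ * (r * w * r⁻¹) * s by group,
            mul_inv_eq_of_commute hwr]
    · exact fix_of t h.mul_self_t (hVX t (left_mem_fourV t r)) e1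
  have hzU : z ∈ coreU t := h.mem_coreU.2 ⟨hzt, hoddX z hz.1⟩
  have hcj : ∀ x : G, x ∈ Z → ∀ v w : G, s * v * s⁻¹ = w → Commute x v → Commute (s * x * s⁻¹) w := by
    intro x _ v w e hc
    rw [← e]
    show s * x * s⁻¹ * (s * v * s⁻¹) = s * v * s⁻¹ * (s * x * s⁻¹)
    calc s * x * s⁻¹ * (s * v * s⁻¹) = s * (x * v) * s⁻¹ := by group
      _ = s * (v * x) * s⁻¹ := by rw [hc.eq]
      _ = _ := by group
  set z' := s * z * s⁻¹ with hz'
  set z'' := s * z' * s⁻¹ with hz''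
  have hz'Z : z' ∈ Z := hZn s hsX z hz
  have hz''Z : z'' ∈ Z := hZn s hsX z' hz'Z
  have hz'r : Commute z' r := hcj z hz t r h.conj_t hzt
  have hz''tr : Commute z'' (t * r) := hcj z' hz'Z r (t * r) h.conj_r hz'r
  have hz'U : z' ∈ coreU r := h.rot.mem_coreU.2 ⟨hz'r, hoddX z' hz'Z.1⟩
  have hinv1 : r * z * r⁻¹ = z⁻¹ := (h.inverts_coreU hW).1 z hzU
  have hinv2 : t * r * z' * (t * r)⁻¹ = z'⁻¹ := (h.rot.inverts_coreU hW2).1 z' hz'U
  have hz'1 : z' ≠ 1 := fun e => hz1 (by simpa [hz'] using e)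
  have hz''1 : z'' ≠ 1 := fun e => hz'1 (by simpa [hz''] using e)
  have hn1 : z' ∉ zpowers z := fun hmem => by
    obtain ⟨i, hi⟩ := hmem
    have h1 : Commute z' t := hi ▸ hzt.zpow_left i
    exact hz'1 (mem_bot.1 (hW ▸ ⟨h.mem_coreU.2 ⟨h1, hoddX z' hz'Z.1⟩, mem_centralizer_singleton_iff.2 hz'r⟩))
  obtain ⟨hB, hBc⟩ := elemAb_sup_zpowers (elemAb_zpowers hz.2.2) hz'Z.2.2
    (fun w hw => by obtain ⟨i, rfl⟩ := hw; exact (hz.2.1 z' hz'Z.1).zpow_left i) hn1
  have hBZ : zpowers z ⊔ zpowers z' ≤ Z := sup_le (zpowers_le.2 hz) (zpowers_le.2 hz'Z)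
  have hn2 : z'' ∉ zpowers z ⊔ zpowers z' := fun hmem => by
    have hiz : t * r * z * (t * r)⁻¹ = z⁻¹ := by
      rw [show t * r * z * (t * r)⁻¹ = t * (r * z * r⁻¹) * t⁻¹ by group, hinv1,
        mul_inv_eq_of_commute hzt.inv_left]
    have hi : t * r * z'' * (t * r)⁻¹ = z''⁻¹ := by
      have hconj : z' * z * z'⁻¹ ∈ zpowers z := by
        rw [mul_inv_eq_of_commute (hz.2.1 z' hz'Z.1)]; exact mem_zpowers z
      obtain ⟨x, ⟨i, rfl⟩, y, ⟨j, rfl⟩, e⟩ := (Coprime.mem_sup_iff (zpowers_le.2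
        (Coprime.mem_normalizer_of_forall (conj_zpowers_le hconj)))).1 hmem
      rw [← e]
      show t * r * (z ^ i * z' ^ j) * (t * r)⁻¹ = (z ^ i * z' ^ j)⁻¹
      rw [← _root_.conj_mul, ← conj_zpow, ← conj_zpow, hiz, hinv2, inv_zpow, inv_zpow,
        mul_inv_rev, ((hz.2.1 z' hz'Z.1).zpow_zpow i j).inv_inv.eq]
    exact hz''1 (eq_one_of_square hp hz''Z.2.2 (pow_eq_one_of_inverted_fixed hi hz''tr))
  obtain ⟨hA, hAc⟩ := elemAb_sup_zpowers hB hz''Z.2.2 (fun w hw => (hBZ hw).2.1 z'' hz''Z.1) hn2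
  have hzo : orderOf z = p := orderOf_eq_prime hz.2.2 hz1
  rw [hBc, Nat.card_zpowers, hzo] at hAc
  exact ⟨zpowers z ⊔ zpowers z' ⊔ zpowers z'', sup_le (hBZ.trans fun w hw => hw.1) (zpowers_le.2 hz''Z.1), hA,
    by rw [hAc]; ring_nf; exact le_rfl, z, mem_sup_left (mem_sup_left (mem_zpowers z)), hz1, hzU⟩

/-- **No mixed subgroups**: if `W = 1` no invariant `p`-subgroup meets both `C(t)` and `C(r)`. -/
theorem Hyp.false_of_mixed (h : Hyp t r s) (hns : ¬ Group.IsSolvable G) (hR : RatioLemma t r)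
    (hW : coreW t r = ⊥) (hp : p ≠ 2) (hloc : SolvableLocals G p) {Q : Subgroup G} (hQ : IsPGroup p Q)
    (hQn : fourV t r ≤ normalizer (Q : Set G)) (ht : Q ⊓ centralizer ({t} : Set G) ≠ ⊥)
    (hr : Q ⊓ centralizer ({r} : Set G) ≠ ⊥) : False := by
  obtain ⟨X, hXp, hXV, hXb, hsX⟩ := h.exists_rotInv hW hp (fun D hD hD1 _ => hloc D hD hD1) hQ hQn ht hr
  obtain ⟨A, hAX, hA, hA3, z, hzA, hz1, hzU⟩ := h.exists_rank_three hW hp hXp hXV hXb hsX
  obtain ⟨M, -, hMs, hXM, hCM, -⟩ := exists_overgroup hns h.abelian_sylow_two hp hloc hXp hAX hA hA3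
  have hCt : centralizer ({t} : Set G) ≤ M := by
    rw [← h.sup_fourV]
    refine sup_le (fun u hu => ?_) (hXV.trans hXM)
    exact hCM z hzA hz1 (mem_centralizer_singleton_iff.2 ((h.inverts_coreU hW).2 u hu z hzU))
  exact hR (fun e => hz1 (mem_bot.1 (e ▸ hzU))) M hMs hCt s (hXM hsX) h.conj_t

end Cfsg.Agent.GWKlein
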