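import Cfsg.Agent.Lib.GWKlein.Basic
import Cfsg.Agent.Lib.SylowLift.Solvable

/-!
# Gorenstein-Walter, Klein case: solvable subgroups containing the four-group

`exists_eq_mul`: every element of a solvable `H ≥ V` is a product of an element of `O(H)` and one of `N(V)`.
-/

set_option autoImplicit false

namespace Cfsg.Agent.GWKlein

open Subgroup

variable {G : Type*} [Group G] [Finite G] {t r s : G}

/-- The odd core of a subgroup, inside `G`. -/
def oddPart (H : Subgroup G) : Subgroup G := (Cfsg.pPrimeCore 2 H).map H.subtype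

theorem oddPart_le (H : Subgroup G) : oddPart H ≤ H := map_subtype_le _

theorem odd_card_oddPart (H : Subgroup G) : Odd (Nat.card (oddPart H)) := by
  haveI : Fact (Nat.Prime 2) := ⟨Nat.prime_two⟩
  rw [oddPart, Cores.card_map_subtype]
  exact Nat.not_even_iff_odd.1 fun e => Cores.not_dvd_card_pPrimeCore (p := 2) (G := H) (even_iff_two_dvd.1 e)

theorem le_normalizer_oddPart (H : Subgroup G) : H ≤ normalizer (oddPart H : Set G) := by
  haveI := Cores.pPrimeCore_normal 2 H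
  exact le_normalizer_map _ |>.trans' (by rw [normalizer_eq_top (Cfsg.pPrimeCore 2 H),
    ← MonoidHom.range_eq_map, range_subtype])

/-- In a solvable subgroup over the four-group, `O(H) V` is normal. -/
theorem Hyp.normal_core_sup (h : Hyp t r s) {H : Subgroup G} (hs : Group.IsSolvable H) (hV : fourV t r ≤ H) :
    (Cfsg.pPrimeCore 2 H ⊔ (fourV t r).subgroupOf H).Normal := by
  haveI : Fact (Nat.Prime 2) := ⟨Nat.prime_two⟩
  haveI := Cores.pPrimeCore_normal 2 H
  obtain ⟨P, hP⟩ := h.sylow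
  let T : Sylow 2 H := P.subtype (hP ▸ hV)
  have hT : (T : Subgroup H) = (fourV t r).subgroupOf H := by rw [← hP]; rfl
  set π := QuotientGroup.mk' (Cfsg.pPrimeCore 2 H) with hπ
  haveI : Group.IsSolvable H := hs
  haveI : Group.IsSolvable (H ⧸ Cfsg.pPrimeCore 2 H) :=
    Group.isSolvable_of_surjective (QuotientGroup.mk'_surjective (Cfsg.pPrimeCore 2 H))
  set T' : Sylow 2 (H ⧸ Cfsg.pPrimeCore 2 H) := T.mapSurjective (QuotientGroup.mk'_surjective (Cfsg.pPrimeCore 2 H))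
  have hab : ∀ a ∈ (T' : Subgroup (H ⧸ Cfsg.pPrimeCore 2 H)), ∀ b ∈ (T' : Subgroup (H ⧸ Cfsg.pPrimeCore 2 H)), a * b = b * a := by
    rintro _ ⟨a, ha, rfl⟩ _ ⟨b, hb, rfl⟩
    have h1 : (a : G) ∈ (P : Subgroup G) := ha
    have h2 : (b : G) ∈ (P : Subgroup G) := hb
    haveI := (h.abelian_sylow_two P)
    have h3 := congrArg Subtype.val (IsMulCommutative.is_comm.comm (⟨a, h1⟩ : (P : Subgroup G)) ⟨b, h2⟩)
    rw [← map_mul, ← map_mul, show a * b = b * a from Subtype.ext h3]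
  have hle : (T' : Subgroup (H ⧸ Cfsg.pPrimeCore 2 H)) ≤ Cfsg.pCore 2 (H ⧸ Cfsg.pPrimeCore 2 H) := by
    refine le_trans (fun a ha => ?_) (SylowLift.centralizer_pCore_le_of_solvable (Cores.pPrimeCore_quotient_self 2))
    exact mem_centralizer_iff.2 fun b hb => hab b (Cores.pCore_le_sylow T' hb) a ha
  have hn : ((T : Subgroup H).map π).Normal := by
    have e := le_antisymm hle (Cores.pCore_le_sylow T')
    rw [show ((T : Subgroup H).map π) = (T' : Subgroup (H ⧸ Cfsg.pPrimeCore 2 H)) from rfl, e]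
    exact Cores.pCore_normal 2 _
  rw [show Cfsg.pPrimeCore 2 H ⊔ (fourV t r).subgroupOf H = ((T : Subgroup H).map π).comap π by
    rw [comap_map_eq, QuotientGroup.ker_mk', hT, sup_comm]]
  exact hn.comap π

/-- Frattini: every element of a solvable `H ≥ V` is in `O(H) N(V)`. -/
theorem Hyp.exists_eq_mul (h : Hyp t r s) {H : Subgroup G} (hs : Group.IsSolvable H) (hV : fourV t r ≤ H)
    {x : G} (hx : x ∈ H) :
    ∃ o ∈ oddPart H, ∃ n ∈ H, n ∈ normalizer (fourV t r : Set G) ∧ x = o * n := by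
  haveI : Fact (Nat.Prime 2) := ⟨Nat.prime_two⟩
  haveI := Cores.pPrimeCore_normal 2 H
  set N := Cfsg.pPrimeCore 2 H ⊔ (fourV t r).subgroupOf H
  haveI : N.Normal := h.normal_core_sup hs hV
  obtain ⟨P, hP⟩ := h.sylow
  let T : Sylow 2 H := P.subtype (hP ▸ hV)
  have hTV : (T : Subgroup H) = (fourV t r).subgroupOf H := by rw [← hP]; rfl
  have hTN : (T : Subgroup H) ≤ N := hTV ▸ le_sup_right
  have htop := Sylow.normalizer_sup_eq_top' T hTN
  have hmem : (⟨x, hx⟩ : H) ∈ Cfsg.pPrimeCore 2 H ⊔ normalizer ((T : Subgroup H) : Set H) := by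
    have hsub : normalizer ((T : Subgroup H) : Set H) ⊔ N ≤
        Cfsg.pPrimeCore 2 H ⊔ normalizer ((T : Subgroup H) : Set H) := by
      refine sup_le le_sup_right (sup_le le_sup_left (le_trans ?_ le_sup_right))
      rw [show (fourV t r).subgroupOf H = (T : Subgroup H) from by rw [← hP]; rfl]
      exact le_normalizer
    rw [show normalizer ((T : Subgroup H) : Set H) ⊔ N = ⊤ from htop] at hsub
    exact hsub (mem_top _)
  obtain ⟨o, ho, n, hn, he⟩ := mem_sup_of_normal_left.1 hmem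
  refine ⟨o, ⟨o, ho, rfl⟩, n, n.2, mem_normalizer_iff.2 fun y => ?_, congrArg Subtype.val he.symm⟩
  have key : ∀ (m : H), m ∈ normalizer ((T : Subgroup H) : Set H) → ∀ y ∈ fourV t r,
      (m : G) * y * (m : G)⁻¹ ∈ fourV t r := by
    intro m hm y hy
    have h1 : (⟨y, hV hy⟩ : H) ∈ (T : Subgroup H) := by
      show y ∈ (P : Subgroup G)
      rw [hP]; exact hy
    have h2 : ((m * ⟨y, hV hy⟩ * m⁻¹ : H) : G) ∈ (P : Subgroup G) := (mem_normalizer_iff.1 hm _).1 h1
    rw [hP] at h2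
    exact h2
  refine ⟨key n hn y, fun hy => ?_⟩
  have h3 := key n⁻¹ (inv_mem hn) _ hy
  simpa [mul_assoc] using h3

/-- An odd subgroup normalised by the four-group lies in the odd core. -/
theorem Hyp.odd_le_oddPart (h : Hyp t r s) {H Q : Subgroup G} (hs : Group.IsSolvable H) (hV : fourV t r ≤ H)
    (hQH : Q ≤ H) (hQ : Odd (Nat.card Q)) (hVQ : fourV t r ≤ normalizer (Q : Set G)) : Q ≤ oddPart H := by
  haveI : Fact (Nat.Prime 2) := ⟨Nat.prime_two⟩
  haveI := Cores.pPrimeCore_normal 2 H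
  set O := Cfsg.pPrimeCore 2 H
  haveI hN := h.normal_core_sup hs hV
  obtain ⟨P, hP⟩ := h.sylow
  let T : Sylow 2 H := P.subtype (hP ▸ hV)
  have hTV : (T : Subgroup H) = (fourV t r).subgroupOf H := by rw [← hP]; rfl
  set π := QuotientGroup.mk' O
  haveI : Group.IsSolvable H := hs
  haveI : Group.IsSolvable (H ⧸ O) := Group.isSolvable_of_surjective (QuotientGroup.mk'_surjective O)
  set T' : Sylow 2 (H ⧸ O) := T.mapSurjective (QuotientGroup.mk'_surjective O)
  have hT' : (T' : Subgroup (H ⧸ O)) = (Cfsg.pPrimeCore 2 H ⊔ (fourV t r).subgroupOf H).map π := by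
    rw [Subgroup.map_sup, (Subgroup.map_eq_bot_iff O).2 (le_of_eq (QuotientGroup.ker_mk' O).symm), bot_sup_eq, ← hTV]; rfl
  haveI : (T' : Subgroup (H ⧸ O)).Normal := by
    rw [hT']; exact hN.map π (QuotientGroup.mk'_surjective O)
  intro q hq
  set q' : H := ⟨q, hQH hq⟩
  refine ⟨q', (QuotientGroup.eq_one_iff q').1 (orderOf_eq_one_iff.1 ?_), rfl⟩
  have hodd : Odd (orderOf (π q')) := (hQ.of_dvd_nat (orderOf_dvd_natCard _ hq)).of_dvd_nat
    ((orderOf_map_dvd π q').trans (by rw [← orderOf_coe]))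
  have h2only : ∀ y ∈ (T' : Subgroup (H ⧸ O)), Odd (orderOf y) → y = 1 := fun y hy ho => by
    obtain ⟨k, hk⟩ := T'.isPGroup' ⟨y, hy⟩
    exact orderOf_eq_one_iff.1 (Nat.eq_one_of_dvd_coprimes (Nat.Coprime.pow_right k (Nat.coprime_two_right.2 ho))
      dvd_rfl (orderOf_dvd_of_pow_eq_one (congrArg Subtype.val hk)))
  have hcen : π q' ∈ centralizer ((T' : Subgroup (H ⧸ O)) : Set (H ⧸ O)) := by
    rintro _ ⟨v, hv, rfl⟩
    have hvV : (v : G) ∈ fourV t r := by rw [← hP]; exact hv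
    have h1 : π v * π q' * (π v)⁻¹ * (π q')⁻¹ ∈ (T' : Subgroup (H ⧸ O)) := by
      rw [mul_assoc, mul_assoc, ← mul_assoc (π q')]
      exact mul_mem ⟨v, hv, rfl⟩ ((inferInstance : (T' : Subgroup (H ⧸ O)).Normal).conj_mem _
        (inv_mem ⟨v, hv, rfl⟩) _)
    have h2 : Odd (orderOf (π v * π q' * (π v)⁻¹ * (π q')⁻¹)) := by
      have hm : (v : G) * q * (v : G)⁻¹ * q⁻¹ ∈ Q :=
        mul_mem ((mem_normalizer_iff.1 (hVQ hvV) q).1 hq) (inv_mem hq)
      rw [← map_inv, ← map_inv, ← map_mul, ← map_mul, ← map_mul]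
      exact (hQ.of_dvd_nat (orderOf_dvd_natCard _ hm)).of_dvd_nat
        ((orderOf_map_dvd π _).trans (by rw [← orderOf_coe]; rfl))
    exact mul_inv_eq_iff_eq_mul.1 (mul_inv_eq_one.1 (h2only _ h1 h2))
  refine orderOf_eq_one_iff.2 (h2only _ ?_ hodd)
  have h3 : (T' : Subgroup (H ⧸ O)) = Cfsg.pCore 2 (H ⧸ O) := (Cores.pCore_eq_sylow T').symm
  rw [h3] at hcen ⊢
  exact SylowLift.centralizer_pCore_le_of_solvable (Cores.pPrimeCore_quotient_self 2) hcen

end Cfsg.Agent.GWKlein
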