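import Cfsg.Agent.Lib.GWKlein.Local
import Cfsg.Agent.Lib.Coprime.Generation
import Cfsg.Agent.Lib.Coprime.Factorization
import Cfsg.Agent.S0508
import Mathlib.GroupTheory.FixedPointFree

/-!
# Gorenstein-Walter, Klein case: the end, once `W = 1`

`psl_of_noMixed`: with `W = 1`, no invariant prime power subgroup meeting two of the cores, and no solvable fused
overgroup of `C(t)`, the Brauer-Suzuki-Wall theorem applies.
-/

set_option autoImplicit false

namespace Cfsg.Agent.GWKlein

open Subgroup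

variable {G : Type*} [Group G] [Finite G] {t r s : G}

/-- An involution fixing no non-trivial element of an invariant subgroup inverts it. -/
theorem inverts_of_fpf {r : G} (hr : orderOf r = 2) {Q : Subgroup G} (hQ : r ∈ normalizer (Q : Set G))
    (hf : ∀ x ∈ Q, r * x * r⁻¹ = x → x = 1) :
    (∀ x ∈ Q, r * x * r⁻¹ = x⁻¹) ∧ ∀ x ∈ Q, ∀ y ∈ Q, x * y = y * x := by
  let φ : Q →* Q :=
    { toFun := fun x => ⟨r * x * r⁻¹, (mem_normalizer_iff.1 hQ x).1 x.2⟩
      map_one' := Subtype.ext (by simp)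
      map_mul' := fun x y => Subtype.ext (by simp [mul_assoc]) }
  have hφ : MonoidHom.FixedPointFree φ := fun x hx => Subtype.ext (hf x x.2 (congrArg Subtype.val hx))
  have h2 : Function.Involutive φ := fun x => Subtype.ext <| by
    show r * (r * x * r⁻¹) * r⁻¹ = (x : G)
    rw [Involution.inv_eq hr, show r * (r * (x : G) * r) * r = (r * r) * x * (r * r) by group,
      Involution.mul_self hr, one_mul, mul_one]
  exact ⟨fun x hx => congrArg Subtype.val (congrFun (hφ.coe_eq_inv_of_involutive h2) ⟨x, hx⟩),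
    fun x hx y hy => congrArg Subtype.val (hφ.commute_all_of_involutive h2 ⟨x, hx⟩ ⟨y, hy⟩).eq⟩

theorem Hyp.inverts_coreU (h : Hyp t r s) (hW : coreW t r = ⊥) :
    (∀ x ∈ coreU t, r * x * r⁻¹ = x⁻¹) ∧ ∀ x ∈ coreU t, ∀ y ∈ coreU t, x * y = y * x :=
  inverts_of_fpf h.order_r (h.fourV_le_normalizer_coreU (right_mem_fourV t r)) fun _ hx hf =>
    mem_bot.1 (hW ▸ ⟨hx, mem_centralizer_singleton_iff.2 (mul_inv_eq_iff_eq_mul.1 hf).symm⟩)

/-- An element of `C(t)` normalising the four-group centralises it. -/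
theorem Hyp.commute_r_of_normalizer (h : Hyp t r s) {c : G} (hc : c ∈ centralizer ({t} : Set G))
    (hn : c ∈ normalizer (fourV t r : Set G)) : c * r * c⁻¹ = r := by
  rw [← h.sup_fourV] at hc
  obtain ⟨u, hu, v, hv, rfl⟩ := Coprime.mem_sup_iff h.fourV_le_normalizer_coreU |>.1 hc
  have hvr : v * r * v⁻¹ = r := by
    haveI := h.isKleinFour
    rw [show v * r = r * v from congrArg Subtype.val (mul_comm_of_exponent_two IsKleinFour.exponent_two
      (⟨v, hv⟩ : fourV t r) ⟨r, right_mem_fourV t r⟩), mul_inv_cancel_right]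
  rw [show u * v * r * (u * v)⁻¹ = u * (v * r * v⁻¹) * u⁻¹ by group, hvr]
  have hcn : u ∈ normalizer (fourV t r : Set G) := by
    have := mul_mem hn (inv_mem (le_normalizer hv))
    rwa [mul_inv_cancel_right] at this
  have h1 : u * r * u⁻¹ * r⁻¹ ∈ fourV t r :=
    mul_mem ((mem_normalizer_iff.1 hcn r).1 (right_mem_fourV t r)) (inv_mem (right_mem_fourV t r))
  have h2 : u * r * u⁻¹ * r⁻¹ ∈ coreU t := by
    rw [show u * r * u⁻¹ * r⁻¹ = u * (r * u⁻¹ * r⁻¹) by group]
    exact mul_mem hu ((mem_normalizer_iff.1 (h.fourV_le_normalizer_coreU (right_mem_fourV t r)) _).1 (inv_mem hu))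
  exact mul_inv_eq_one.1 (Coprime.eq_one_of_mem_of_mem (by
    rw [h.card_fourV, show (4 : ℕ) = 2 ^ 2 from rfl]
    exact Nat.Coprime.pow_left 2 (Nat.coprime_two_left.2 h.odd_coreU)) h1 h2)

/-- An element moving `t` gives one moving `t` to `r`. -/
theorem Hyp.exists_moving (h : Hyp t r s) {H : Subgroup G} {n : G} (hnH : n ∈ H)
    (hn : n ∈ normalizer (fourV t r : Set G)) (hne : n * t * n⁻¹ ≠ t) :
    ∃ m ∈ H, m * t * m⁻¹ = r := by
  have hm : ∀ x ∈ fourV t r, n * x * n⁻¹ ∈ fourV t r := fun x hx => (mem_normalizer_iff.1 hn x).1 hx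
  rcases h.mem_iff.1 (hm t (left_mem_fourV t r)) with e | e | e | e
  · exact absurd e (by simpa using h.ne_one_t)
  · exact absurd e hne
  · exact ⟨n, hnH, e⟩
  · refine ⟨n * n, mul_mem hnH hnH, ?_⟩
    rw [show n * n * t * (n * n)⁻¹ = n * (n * t * n⁻¹) * n⁻¹ by group, e]
    rcases h.mem_iff.1 (hm _ (mul_mem (left_mem_fourV t r) (right_mem_fourV t r))) with e2 | e2 | e2 | e2
    · exact absurd e2 (by simpa using h.t_mul_ne_one)
    · -- the swap is impossible
      exfalso
      have h1 : s * n * t * (s * n)⁻¹ = t := by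
        rw [show s * n * t * (s * n)⁻¹ = s * (n * t * n⁻¹) * s⁻¹ by group, e, h.conj_mul]
      have h2 : s * n * (t * r) * (s * n)⁻¹ = r := by
        rw [show s * n * (t * r) * (s * n)⁻¹ = s * (n * (t * r) * n⁻¹) * s⁻¹ by group, e2, h.conj_t]
      have h3 := h.commute_r_of_normalizer (mem_centralizer_singleton_iff.2 (mul_inv_eq_iff_eq_mul.1 h1))
        (mul_mem h.conj_s_mem_fourV hn)
      rw [← _root_.conj_mul, h1, h3] at h2
      exact h.ne_one_t (mul_eq_right.1 h2)
    · exact e2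
    · exact absurd ((MulAut.conj n).injective (a₁ := t * r) (a₂ := t) (by simpa using e2.trans e.symm))
        (fun e3 => h.ne_one_r (mul_eq_left.1 e3))

/-- With `W = 1` the hypotheses of the theorem of Brauer, Suzuki and Wall hold. -/
theorem psl_of_noMixed [IsSimpleGroup G] (h : Hyp t r s) (hW : coreW t r = ⊥)
    (hsol : coreU t ≠ ⊥ → ∀ q : ℕ, q.Prime → q ≠ 2 → ∀ Z : Subgroup G, IsPGroup q Z → Z ≠ ⊥ →
      centralizer ({t} : Set G) ≤ normalizer (Z : Set G) → Group.IsSolvable (normalizer (Z : Set G)))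
    (hmix : ∀ r' : G, r' = r ∨ r' = t * r → ∀ q : ℕ, q.Prime → q ≠ 2 → ∀ Q : Subgroup G, IsPGroup q Q →
      fourV t r ≤ normalizer (Q : Set G) → Q ⊓ centralizer ({t} : Set G) ≠ ⊥ →
        Q ⊓ centralizer ({r'} : Set G) ≠ ⊥ → False)
    (hfus : coreU t ≠ ⊥ → ∀ H : Subgroup G, Group.IsSolvable H → centralizer ({t} : Set G) ≤ H →
      ∀ m ∈ H, m * t * m⁻¹ = r → False) :
    ∃ (F : Type) (_ : Field F) (_ : Fintype F), Odd (Fintype.card F) ∧
      Nonempty (G ≃* Matrix.ProjectiveSpecialLinearGroup (Fin 2) F) := by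
  classical
  haveI : Fact (Nat.Prime 2) := ⟨Nat.prime_two⟩
  obtain ⟨P, hP⟩ := h.sylow
  haveI : IsKleinFour (P : Subgroup G) := by rw [hP]; exact h.isKleinFour
  obtain ⟨eD⟩ : Nonempty ((P : Subgroup G) ≃* DihedralGroup 2) := IsKleinFour.nonempty_mulEquiv
  have htP : t ∈ (P : Subgroup G) := by rw [hP]; exact left_mem_fourV t r
  have htZ : ∀ x ∈ (P : Subgroup G), x * t = t * x := fun x hx =>
    mem_centralizer_singleton_iff.1 (h.fourV_le_centralizer_t (hP ▸ hx))
  obtain ⟨hinv, hcomm⟩ := h.inverts_coreU hW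
  have hCcase : ∀ x ∈ (P : Subgroup G), (x = 1 ∨ x = t) ∨ ∀ y ∈ coreU t, x * y * x⁻¹ = y⁻¹ := by
    intro x hx
    rcases h.mem_iff.1 (hP ▸ hx) with e | e | e | e
    · exact Or.inl (Or.inl e)
    · exact Or.inl (Or.inr e)
    · exact Or.inr (e ▸ hinv)
    · refine Or.inr fun y hy => ?_
      rw [e, show t * r * y * (t * r)⁻¹ = t * (r * y * r⁻¹) * t⁻¹ by group, hinv y hy,
        ← (commute_of_mem_coreU (inv_mem hy)).eq, mul_inv_cancel_right]
  refine S0508.result P 2 le_rfl ⟨eD⟩ t h.order_t htP htZ (coreU t) rfl (fun hne => ?_) (fun x hx hxc => ?_)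
    (fun Y hY hY1 => ?_)
  · obtain ⟨⟨y0, hy0⟩, hy⟩ := Subgroup.ne_bot_iff_exists_ne_one.1 hne
    have hy1 : y0 ≠ 1 := fun e => hy (Subtype.ext e)
    have heq : (P : Subgroup G) ⊓ centralizer (coreU t : Set G) = zpowers t := by
      refine le_antisymm (fun x ⟨hx, hc⟩ => ?_) (zpowers_le.2 ⟨htP, mem_centralizer_iff.2 fun y hy =>
        (commute_of_mem_coreU hy).eq⟩)
      rcases hCcase x hx with (e | e) | e
      · exact e ▸ one_mem _
      · exact e ▸ mem_zpowers t
      · exfalso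
        have h1 := e y0 hy0
        rw [← mem_centralizer_iff.1 hc y0 hy0, mul_inv_cancel_right] at h1
        exact hy1 (orderOf_eq_one_iff.1 (Nat.eq_one_of_dvd_coprimes
          (Nat.coprime_two_right.2 (h.odd_orderOf hy0)) dvd_rfl
          (orderOf_dvd_of_pow_eq_one (by rw [pow_two]; nth_rewrite 1 [h1]; exact inv_mul_cancel y0))))
    rw [heq]
    refine ⟨inferInstance, ?_⟩
    have h2 := relIndex_mul_relIndex ⊥ (zpowers t) (P : Subgroup G) bot_le (zpowers_le.2 htP)
    rw [relIndex_bot_left, relIndex_bot_left, Nat.card_zpowers, h.order_t, IsKleinFour.card_four] at h2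
    omega
  · rcases hCcase x hx with (e | e) | e
    · exact absurd (e ▸ one_mem _) hxc
    · exact absurd (e ▸ mem_centralizer_iff.2 fun y hy => (commute_of_mem_coreU hy).eq) hxc
    · exact e
  · -- an element of prime order of `Y`
    have hne : coreU t ≠ ⊥ := fun e => hY1 (le_bot_iff.1 (e ▸ hY))
    obtain ⟨q, hq, hqd⟩ := Nat.exists_prime_and_dvd
      (fun e => hY1 (eq_bot_of_card_eq Y e) : Nat.card Y ≠ 1)
    haveI : Fact q.Prime := ⟨hq⟩
    have hq2 : q ≠ 2 := fun e => h.not_two_dvd_coreU (e ▸ hqd.trans (card_dvd_of_le hY))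
    let Z : Subgroup G :=
      { carrier := {y | y ∈ Y ∧ y ^ q = 1}
        one_mem' := ⟨one_mem _, one_pow _⟩
        mul_mem' := fun {a b} ⟨ha, ha'⟩ ⟨hb, hb'⟩ => ⟨mul_mem ha hb, by
          rw [Commute.mul_pow (hcomm a (hY ha) b (hY hb)), ha', hb', one_mul]⟩
        inv_mem' := fun {a} ⟨ha, ha'⟩ => ⟨inv_mem ha, by rw [inv_pow, ha', inv_one]⟩ }
    have hZp : IsPGroup q Z := fun z => ⟨1, Subtype.ext (by rw [pow_one]; exact z.2.2)⟩
    have hZ1 : Z ≠ ⊥ := fun e => by
      obtain ⟨y, hy⟩ := exists_prime_orderOf_dvd_card' (G := Y) q hqd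
      have : (y : G) ∈ Z := ⟨y.2, by rw [← hy, ← orderOf_coe]; exact pow_orderOf_eq_one _⟩
      rw [e, mem_bot, OneMemClass.coe_eq_one] at this
      rw [this, orderOf_one] at hy
      exact hq.ne_one hy.symm
    have hYZ : normalizer (Y : Set G) ≤ normalizer (Z : Set G) := le_normalizer_iff.2 fun g hg y hy =>
      ⟨(mem_normalizer_iff.1 hg y).1 hy.1, by rw [conj_pow, hy.2, mul_one, mul_inv_cancel]⟩
    refine hYZ.trans ?_
    set H := normalizer (Z : Set G) with hH
    have hUH : coreU t ≤ H := le_normalizer_iff.2 fun u hu z hz => by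
      rw [hcomm u hu z (hY hz.1), mul_inv_cancel_right]
      exact hz
    have hVH : fourV t r ≤ H := fourV_le_iff.2 ⟨Coprime.mem_normalizer_of_forall fun z hz => by
        rw [← (commute_of_mem_coreU (hY hz.1)).eq, mul_inv_cancel_right]; exact hz,
      Coprime.mem_normalizer_of_forall fun z hz => by rw [hinv z (hY hz.1)]; exact inv_mem hz⟩
    have hHs : Group.IsSolvable H := hsol hne q hq hq2 Z hZp hZ1 (h.sup_fourV ▸ sup_le hUH hVH)
    set K := oddPart H
    have hKn : fourV t r ≤ normalizer (K : Set G) := hVH.trans (le_normalizer_oddPart H)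
    have hcop : (Nat.card (fourV t r)).Coprime (Nat.card K) := by
      rw [h.card_fourV, show (4 : ℕ) = 2 ^ 2 from rfl]
      exact Nat.Coprime.pow_left 2 (Nat.coprime_two_left.2 (odd_card_oddPart H))
    haveI : IsMulCommutative (fourV t r) := by
      haveI := h.isKleinFour
      exact IsKleinFour.isMulCommutative
    haveI : Group.IsSolvable (fourV t r) := Group.isSolvable_of_comm fun a b => IsMulCommutative.is_comm.comm a b
    have hUK : coreU t ≤ K := h.odd_le_oddPart hHs hVH hUH h.odd_coreU h.fourV_le_normalizer_coreU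
    have hzero : ∀ r' : G, r' ∈ fourV t r → r' = r ∨ r' = t * r →
        Nat.card (coreU r') = Nat.card (coreU t) →
        (∀ v, Commute v r' → Odd (orderOf v) → v ∈ coreU r') →
        K ⊓ centralizer ({r'} : Set G) = ⊥ := by
      intro r' hr' hV hcard hmem
      by_contra hb
      obtain ⟨q, hq, hqd⟩ := Nat.exists_prime_and_dvd
        (fun e => hb (eq_bot_of_card_eq _ e) : Nat.card (K ⊓ centralizer ({r'} : Set G) : Subgroup G) ≠ 1)
      haveI : Fact q.Prime := ⟨hq⟩
      have hKr : K ⊓ centralizer ({r'} : Set G) ≤ coreU r' := fun v hv =>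
        hmem v (mem_centralizer_singleton_iff.1 hv.2) ((odd_card_oddPart H).of_dvd_nat (orderOf_dvd_natCard _ hv.1))
      have hqU : q ∣ Nat.card (coreU t) := hcard ▸ hqd.trans (card_dvd_of_le hKr)
      have hq2 : q ≠ 2 := fun e => h.not_two_dvd_coreU (e ▸ hqU)
      obtain ⟨Q, -, hQK, hQA, hQ⟩ := Coprime.exists_invariant_card hKn hcop (Or.inl inferInstance) q
        (U := ⊥) bot_le IsPGroup.of_bot (fun g _ => Coprime.mem_normalizer_of_forall fun z hz => by
          rw [mem_bot] at hz ⊢; simp [hz])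
      have hne0 : ∀ a ∈ fourV t r, q ∣ Nat.card (K ⊓ centralizer ({a} : Set G) : Subgroup G) →
          Q ⊓ centralizer ({a} : Set G) ≠ ⊥ := fun a ha hd e => by
        have := Coprime.card_inf_centralizer_eq hKn hcop hQK hQA hQ ha
        rw [e, card_bot] at this
        exact (hq.factorization_pos_of_dvd Nat.card_pos.ne' hd).ne'
          ((Nat.pow_eq_one.1 this.symm).resolve_left hq.ne_one)
      refine hmix r' hV q hq hq2 Q (Coprime.isPGroup_of_card hQ) hQA
        (hne0 t (left_mem_fourV t r) (hqU.trans (card_dvd_of_le (le_inf hUK (coreU_le_centralizer t)))))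
        (hne0 r' hr' hqd)
    have hc1 : Nat.card (coreU r) = Nat.card (coreU t) := by
      rw [← h.map_coreU, card_map_of_injective (MulAut.conj s).injective]
    have hz1 := hzero r (right_mem_fourV t r) (Or.inl rfl) hc1
      fun v hv ho => h.rot.mem_coreU.2 ⟨hv, ho⟩
    have hz2 := hzero (t * r) (mul_mem (left_mem_fourV t r) (right_mem_fourV t r)) (Or.inr rfl)
      (by rw [← h.rot.map_coreU, card_map_of_injective (MulAut.conj s).injective, hc1])
      fun v hv ho => h.rot.rot.mem_coreU.2 ⟨hv, ho⟩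
    have hKt : K ≤ centralizer ({t} : Set G) := Coprime.le_of_noncyclic
      (fun hcyc => by haveI := h.isKleinFour; exact IsKleinFour.not_isCyclic hcyc) hKn hcop fun a ha ha1 => by
        rcases h.mem_iff.1 ha with e | e | e | e
        · exact absurd e ha1
        · exact e ▸ inf_le_right
        · rw [e, hz1]; exact bot_le
        · rw [e, hz2]; exact bot_le
    intro x hx
    obtain ⟨o, ho, n, hnH, hn, rfl⟩ := h.exists_eq_mul hHs hVH hx
    refine mul_mem (hKt ho) (mem_centralizer_singleton_iff.2 (mul_inv_eq_iff_eq_mul.1 ?_))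
    by_contra hne'
    obtain ⟨m, hm, hmt⟩ := h.exists_moving hnH hn hne'
    exact hfus hne H hHs (h.sup_fourV ▸ sup_le hUH hVH) m hm hmt

end Cfsg.Agent.GWKlein
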