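import Cfsg.Agent.Lib.ClassCount.CharSum
import Cfsg.Agent.Lib.Char.Orth

/-!
# Gorenstein-Walter, Klein case: congruences modulo two (owner: helper38)

* `Even2` : twice an algebraic integer
* `Even2.sum_sub_fixed` : a sum invariant under an involutive map is congruent to the sum over the fixed points
* `sum_mul_irr` : a class function acts on an irreducible character by a scalar
* `conv_irr` : the convolution square, tested on an irreducible character
-/

set_option autoImplicit false

open scoped ComplexConjugate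

namespace Cfsg.Agent.GWKlein

open Cfsg

/-- `z` is twice an algebraic integer. -/
def Even2 (z : ℂ) : Prop := IsIntegral ℤ (z / 2)

namespace Even2

variable {x y z : ℂ}

theorem zero : Even2 0 := by rw [Even2, zero_div]; exact isIntegral_zero

theorem add (hx : Even2 x) (hy : Even2 y) : Even2 (x + y) := by
  rw [Even2, add_div]; exact IsIntegral.add hx hy

theorem sub (hx : Even2 x) (hy : Even2 y) : Even2 (x - y) := by
  rw [Even2, sub_div]; exact IsIntegral.sub hx hy

theorem neg (hx : Even2 x) : Even2 (-x) := by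
  rw [Even2, neg_div]; exact IsIntegral.neg hx

theorem mul_left (hy : IsIntegral ℤ y) (hx : Even2 x) : Even2 (y * x) := by
  rw [Even2, mul_div_assoc]; exact IsIntegral.mul hy hx

theorem mul_right (hy : IsIntegral ℤ y) (hx : Even2 x) : Even2 (x * y) := by
  rw [mul_comm]; exact mul_left hy hx

theorem two_mul (hx : IsIntegral ℤ x) : Even2 (2 * x) := by
  rw [Even2, mul_div_cancel_left₀ _ two_ne_zero]; exact hx

theorem sum {ι : Type*} (s : Finset ι) {f : ι → ℂ} (h : ∀ i ∈ s, Even2 (f i)) : Even2 (∑ i ∈ s, f i) := by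
  rw [Even2, Finset.sum_div]; exact IsIntegral.sum _ h

theorem isIntegral_intCast (n : ℤ) : IsIntegral ℤ (n : ℂ) := by
  simpa using isIntegral_algebraMap (R := ℤ) (A := ℂ) (x := n)

theorem intCast_iff {n : ℤ} : Even2 (n : ℂ) ↔ Even n := by
  constructor
  · intro h
    rw [Even2, show (n : ℂ) / 2 = algebraMap ℚ ℂ ((n : ℚ) / 2) by simp,
      isIntegral_algebraMap_iff (algebraMap ℚ ℂ).injective] at h
    obtain ⟨k, hk⟩ := IsIntegrallyClosed.isIntegral_iff.1 h
    have hk' : (k : ℚ) = (n : ℚ) / 2 := by simpa using hk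
    refine ⟨k, ?_⟩
    have : (n : ℚ) = ((k + k : ℤ) : ℚ) := by push_cast; linarith
    exact_mod_cast this
  · rintro ⟨k, rfl⟩
    rw [show ((k + k : ℤ) : ℂ) = 2 * (k : ℂ) by push_cast; ring]
    exact two_mul (isIntegral_intCast k)

/-- Odd factors cancel. -/
theorem of_odd_mul {n : ℤ} (hn : Odd n) (hx : IsIntegral ℤ x) (h : Even2 ((n : ℂ) * x)) : Even2 x := by
  obtain ⟨k, rfl⟩ := hn
  have := h.sub (two_mul (IsIntegral.mul (isIntegral_intCast k) hx))
  convert this using 1
  push_cast
  ring

/-- An invariant sum is congruent to the sum over the fixed points. -/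
theorem sum_sub_fixed {α : Type*} [DecidableEq α] (s : Finset α) (σ : α → α) {f : α → ℂ}
    (hmem : ∀ a ∈ s, σ a ∈ s) (hinv : ∀ a ∈ s, σ (σ a) = a) (hf : ∀ a ∈ s, f (σ a) = f a)
    (hint : ∀ a ∈ s, IsIntegral ℤ (f a)) :
    Even2 (∑ a ∈ s, f a - ∑ a ∈ s.filter (fun a => σ a = a), f a) := by
  induction s using Finset.strongInduction with
  | _ s ih =>
    rw [← Finset.sum_filter_add_sum_filter_not s (fun a => σ a = a), add_sub_cancel_left]
    by_cases he : (s.filter fun a => ¬ σ a = a) = ∅
    · rw [he, Finset.sum_empty]; exact zero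
    obtain ⟨a, ha⟩ := Finset.nonempty_iff_ne_empty.2 he
    obtain ⟨has, hne⟩ := Finset.mem_filter.1 ha
    set s' := (s.erase a).erase (σ a) with hs'
    have hmem' : ∀ b, b ∈ s' ↔ b ≠ σ a ∧ b ≠ a ∧ b ∈ s := fun b => by simp [hs']
    have hsub : s' ⊂ s := lt_of_le_of_lt (Finset.erase_subset _ _) (Finset.erase_ssubset has)
    have hclosed : ∀ b ∈ s', σ b ∈ s' := fun b hb => by
      obtain ⟨h1, h2, h3⟩ := (hmem' b).1 hb
      refine (hmem' _).2 ⟨fun e => h2 ?_, fun e => h1 ?_, hmem b h3⟩
      · rw [← hinv b h3, e, hinv a has]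
      · rw [← hinv b h3, e]
    have hih := ih s' hsub hclosed (fun b hb => hinv b ((hmem' b).1 hb).2.2)
      (fun b hb => hf b ((hmem' b).1 hb).2.2) (fun b hb => hint b ((hmem' b).1 hb).2.2)
    have hσ : σ a ∈ s.filter (fun a => ¬ σ a = a) :=
      Finset.mem_filter.2 ⟨hmem a has, fun e => hne (by rw [hinv a has] at e; exact e.symm)⟩
    rw [← Finset.add_sum_erase _ f ha,
      ← Finset.add_sum_erase _ f (Finset.mem_erase.2 ⟨hne, hσ⟩), hf a has, ← add_assoc, ← _root_.two_mul]
    refine (two_mul (hint a has)).add ?_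
    have e : ((s.filter fun a => ¬ σ a = a).erase a).erase (σ a) = s'.filter fun a => ¬ σ a = a := by
      ext b; simp [hmem']; tauto
    rw [e]
    convert hih using 1
    rw [← Finset.sum_filter_add_sum_filter_not s' (fun a => σ a = a), add_sub_cancel_left]

end Even2

variable {U : Type*} [Group U] [Fintype U]

/-- A class function acts on an irreducible character by a scalar. -/
theorem sum_mul_irr {φ f : U → ℂ} (hφ : IsIrrCharacter U φ) (hf : IsClassFunction U f) (y : U) :
    ∑ x, f x * φ (x * y) = (∑ x, f x * φ x) / φ 1 * φ y := by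
  obtain ⟨n, ρ, hi, rfl⟩ := hφ
  have := congrArg (fun T => LinearMap.trace ℂ (Fin n → ℂ) (T * ρ y)) (Char.groupSumOp_eq_smul ρ hf)
  simpa [Char.groupSumOp, Finset.sum_mul, Representation.character, Representation.char_one,
    ← Module.End.one_eq_id] using this

/-- The convolution square of a class function, tested on an irreducible character. -/
theorem conv_irr {φ f : U → ℂ} (hφ : IsIrrCharacter U φ) (hf : IsClassFunction U f) :
    φ 1 * ∑ y, φ y * ∑ x, f x * f (x⁻¹ * y) = (∑ x, f x * φ x) ^ 2 := by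
  have h1 : ∑ y, φ y * ∑ x, f x * f (x⁻¹ * y) = ∑ x, f x * ∑ z, φ (x * z) * f z := by
    simp only [Finset.mul_sum]
    rw [Finset.sum_comm]
    refine Finset.sum_congr rfl fun x _ => ?_
    refine (Fintype.sum_equiv (Equiv.mulLeft x) _ _ fun z => ?_).symm
    simp only [Equiv.coe_mulLeft, inv_mul_cancel_left]
    ring
  rw [h1]
  simp only [Finset.mul_sum]
  rw [Finset.sum_comm, sq, Finset.mul_sum]
  refine Finset.sum_congr rfl fun z _ => ?_
  rw [show ∑ x, φ 1 * (f x * (φ (x * z) * f z)) = φ 1 * (∑ x, f x * φ (x * z)) * f z by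
    rw [Finset.mul_sum, Finset.sum_mul]; exact Finset.sum_congr rfl fun x _ => by ring,
    sum_mul_irr hφ hf]
  have h0 : φ 1 ≠ 0 := Char.IsIrrCharacter.apply_one_ne_zero hφ
  field_simp

end Cfsg.Agent.GWKlein
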