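/-
Gorenstein-Walter, Klein case, section 3: a character with value ±1 at `t` has large degree when
`W` does not centralise the inverted part `A`; and the invariant linear character of `W`.

The eigenspace argument is done with the multiplicities of the linear characters of `A × ⟨t⟩`
in the restriction of the character: they are invariant under `W` and `r`.
-/
import Cfsg.Agent.Lib.GWKlein.Basic
import Cfsg.Agent.Lib.Char.Linear
import Cfsg.Agent.Lib.Char.Inner
import Cfsg.Agent.Lib.Char.Eigen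
import Mathlib.GroupTheory.IndexNormal
import Mathlib.Algebra.Group.Pointwise.Set.Basic

set_option autoImplicit false

namespace Cfsg.Agent.GWKlein

open Subgroup Cfsg
open scoped Pointwise

variable {G : Type*} [Group G] [Finite G] {t r s : G}

/-- An irreducible character of a simple group other than the trivial one is faithful. -/
theorem eq_one_of_char_eq_degree [IsSimpleGroup G] {χ : G → ℂ} (hχ : IsIrrCharacter G χ)
    (h1 : χ ≠ 1) {x : G} (hx : χ x = χ 1) : x = 1 := by
  obtain ⟨n, ρ, hirr, rfl⟩ := hχ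
  rw [Representation.char_one, Char.character_eq_finrank_iff] at hx
  rcases IsSimpleGroup.eq_bot_or_eq_top_of_normal (MonoidHom.ker ρ) inferInstance with h | h
  · exact Subgroup.mem_bot.1 (h ▸ MonoidHom.mem_ker.2 hx)
  · exfalso
    have htriv : ∀ g, ρ g = 1 := fun g => MonoidHom.mem_ker.1 (h ▸ Subgroup.mem_top g)
    haveI := hirr
    have hchar : ∀ g, ρ.character g = (n : ℂ) := fun g => by
      show LinearMap.trace ℂ _ (ρ g) = _
      rw [htriv g, LinearMap.trace_one, Module.finrank_fin_fun]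
    have hirr' : IsIrrCharacter G ρ.character := ⟨n, ρ, hirr, rfl⟩
    haveI := Fintype.ofFinite G
    have hn := Char.classInner_irr_self hirr'
    simp only [classInner, hchar, map_natCast, Finset.sum_const, Finset.card_univ, nsmul_eq_mul,
      ← Nat.card_eq_fintype_card] at hn
    rw [← mul_assoc, inv_mul_cancel₀ (Nat.cast_ne_zero.2 Nat.card_pos.ne'), one_mul] at hn
    have : n = 1 := by
      have h' : n * n = 1 := by exact_mod_cast hn
      exact Nat.eq_one_of_mul_eq_one_left h'
    apply h1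
    funext g
    rw [hchar g, this, Nat.cast_one, Pi.one_apply]

omit [Finite G] in
/-- In a group of odd order a subgroup containing the square contains the element. -/
theorem mem_of_sq_mem {H : Type*} [Group H] [Finite H] (hodd : Odd (Nat.card H)) {S : Subgroup H}
    {w : H} (h : w * w ∈ S) : w ∈ S := by
  obtain ⟨j, hj⟩ := hodd
  have h1 : (w * w) ^ (j + 1) = w := by
    rw [← pow_two, ← pow_mul, show 2 * (j + 1) = (2 * j + 1) + 1 by ring, pow_succ, ← hj,
      pow_card_eq_one', one_mul]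
  exact h1 ▸ pow_mem h _

omit [Finite G] in
/-- A subgroup of index three in a group of odd order contains the commutator subgroup. -/
theorem three_dvd_of_index_eq_three {H : Type*} [Group H] [Finite H] (hodd : Odd (Nat.card H))
    {S : Subgroup H} (hS : S.index = 3) : 3 ∣ (commutator H).index := by
  have hd : 3 ∣ Nat.card H := hS ▸ S.index_dvd_card
  have hmin : (Nat.card H).minFac = 3 := by
    have hne : Nat.card H ≠ 1 := fun h => by rw [h] at hd; omega
    have hp := Nat.minFac_prime hne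
    have hle : (Nat.card H).minFac ≤ 3 := Nat.minFac_le_of_dvd (by norm_num) hd
    have h2 : (Nat.card H).minFac ≠ 2 := fun h => by
      have := Nat.minFac_dvd (Nat.card H)
      rw [h] at this
      obtain ⟨j, hj⟩ := hodd
      omega
    have := hp.two_le
    omega
  haveI hn : S.Normal := Subgroup.normal_of_index_eq_minFac_card (by rw [hS, hmin])
  haveI : Fact (Nat.Prime 3) := ⟨Nat.prime_three⟩
  haveI : IsCyclic (H ⧸ S) := isCyclic_of_prime_card (p := 3) (by rw [← Subgroup.index_eq_card, hS])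
  have hcomm : commutator H ≤ S :=
    (Subgroup.Normal.quotient_commutative_iff_commutator_le).1 IsCyclic.commutative
  exact hS ▸ Subgroup.index_dvd_of_le hcomm

theorem degree_bound [IsSimpleGroup G] (h : Hyp t r s) {A : Subgroup G} (hA : Split t r A)
    (hnc : ¬ A ≤ centralizer (coreW t r : Set G)) {χ : G → ℂ} (hχ : IsIrrCharacter G χ) (h1 : χ ≠ 1)
    (ht : χ t = 1 ∨ χ t = -1) {N : ℕ} (hN : χ 1 = N) :
    11 ≤ N ∧ (¬ 3 ∣ (commutator (coreW t r)).index → 19 ≤ N) := by
  classical
  have hAt : ∀ a ∈ A, Commute a t := fun a ha => commute_of_mem_coreU (hA.le ha)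
  have hzt : ∀ u ∈ zpowers t, ∀ a ∈ A, Commute a u := fun u hu a ha => by
    obtain ⟨k, rfl⟩ := mem_zpowers_iff.1 hu
    exact (hAt a ha).zpow_right k
  let f : A × zpowers t →* G :=
    MonoidHom.noncommCoprod A.subtype (zpowers t).subtype fun a u => hzt u u.2 a a.2
  have hf : ∀ (a : A) (u : zpowers t), f (a, u) = a * u := fun a u => rfl
  have hcomm : ∀ x y : A × zpowers t, x * y = y * x := fun x y =>
    Prod.ext (Subtype.ext (hA.comm _ x.1.2 _ y.1.2)) (mul_comm' x.2 y.2)
  haveI := Fintype.ofFinite (A × zpowers t)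
  haveI := Fintype.ofFinite (IrrCharacter (A × zpowers t))
  have hχB : IsCharacter (A × zpowers t) (fun b => χ (f b)) :=
    Char.IsCharacter.comp_hom (Char.IsIrrCharacter.isCharacter hχ) f
  obtain ⟨m, hm, hmi⟩ := Char.IsCharacter.decompose hχB
  have hval : ∀ b, χ (f b) = ∑ φ : IrrCharacter (A × zpowers t), (m φ : ℂ) * φ.1 b := by
    intro b
    have := congrFun hm b
    simpa [Finset.sum_apply, Pi.smul_apply] using this
  -- every character of `A × ⟨t⟩` is multiplicative
  have hhom : ∀ φ : IrrCharacter (A × zpowers t),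
      ∃ l : A × zpowers t →* ℂ, ⇑l = φ.1 := fun φ =>
    Char.exists_hom_of_degree_one (Char.IsIrrCharacter.isCharacter φ.2)
      (Char.apply_one_eq_one_of_comm hcomm φ)
  choose l hl using hhom
  set τ : A × zpowers t := (1, ⟨t, mem_zpowers t⟩) with hτ
  have hδ : ∀ φ : IrrCharacter (A × zpowers t), φ.1 τ = 1 ∨ φ.1 τ = -1 := by
    intro φ
    have h2 : τ * τ = 1 := Prod.ext (one_mul 1) (Subtype.ext h.mul_self_t)
    have := congrArg (l φ) h2
    rw [map_mul, map_one] at this
    rw [← hl φ]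
    exact mul_self_eq_one_iff.1 this
  have hsplit : ∀ (φ : IrrCharacter (A × zpowers t)) (a : A) (u : zpowers t),
      φ.1 (a, u) = φ.1 (a, 1) * φ.1 (1, u) := fun φ a u => by
    rw [← hl φ, ← map_mul]
    congr 1
    exact Prod.ext (mul_one a).symm (one_mul u).symm
  -- the centraliser of t acts on the pairs
  have hnA : ∀ n : centralizer ({t} : Set G), ∀ a : A, (n : G) * a * (n : G)⁻¹ ∈ A := fun n a =>
    (mem_normalizer_iff.1 (hA.normal n.2) _).1 a.2
  have hnA' : ∀ n : centralizer ({t} : Set G), ∀ a : A, (n : G)⁻¹ * a * (n : G) ∈ A := fun n a => by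
    have := hnA n⁻¹ a
    simpa using this
  let c : centralizer ({t} : Set G) → MulAut (A × zpowers t) := fun n =>
    { toFun := fun b => (⟨(n : G) * b.1 * (n : G)⁻¹, hnA n b.1⟩, b.2)
      invFun := fun b => (⟨(n : G)⁻¹ * b.1 * (n : G), hnA' n b.1⟩, b.2)
      left_inv := fun b => Prod.ext (Subtype.ext (by simp [mul_assoc])) rfl
      right_inv := fun b => Prod.ext (Subtype.ext (by simp [mul_assoc])) rfl
      map_mul' := fun x y => Prod.ext (Subtype.ext (by simp [mul_assoc])) rfl }
  have hfc : ∀ n b, χ (f (c n b)) = χ (f b) := by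
    intro n b
    have h2 : f (c n b) = (n : G) * f b * (n : G)⁻¹ := by
      show (n : G) * (b.1 : G) * (n : G)⁻¹ * (b.2 : G) = (n : G) * ((b.1 : G) * (b.2 : G)) * (n : G)⁻¹
      have h3 : Commute (n : G) (b.2 : G) := by
        obtain ⟨k, hk⟩ := mem_zpowers_iff.1 b.2.2
        rw [← hk]
        exact (show Commute (n : G) t from mem_centralizer_singleton_iff.1 n.2).zpow_right k
      simp only [mul_assoc, h3.inv_left.eq]
    rw [h2, (Char.IsIrrCharacter.isClassFunction hχ)]
  let T : centralizer ({t} : Set G) → IrrCharacter (A × zpowers t) → IrrCharacter (A × zpowers t) :=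
    fun n φ => ⟨fun b => φ.1 (c n b), Char.IsIrrCharacter.comp_equiv φ.2 (c n)⟩
  have hTval : ∀ n φ b, (T n φ).1 b = φ.1 (c n b) := fun _ _ _ => rfl
  have hTm : ∀ n φ, m (T n φ) = m φ := by
    intro n φ
    have h2 : classInner (fun b => χ (f b)) (T n φ).1 = classInner (fun b => χ (f b)) φ.1 := by
      conv_lhs => arg 1; ext b; rw [← hfc n b]
      exact Char.classInner_comp_equiv (c n) (fun b => χ (f b)) φ.1
    rw [hmi, hmi] at h2
    exact_mod_cast h2
  have hTT : ∀ n n' φ, T n (T n' φ) = T (n' * n) φ := by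
    intro n n' φ
    apply Subtype.ext; funext b
    show φ.1 (c n' (c n b)) = φ.1 (c (n' * n) b)
    refine congrArg φ.1 ?_
    apply Prod.ext
    · apply Subtype.ext
      show (n' : G) * ((n : G) * b.1 * (n : G)⁻¹) * (n' : G)⁻¹ =
        ((n' * n : centralizer ({t} : Set G)) : G) * b.1 * ((n' * n : centralizer ({t} : Set G)) : G)⁻¹
      simp [mul_assoc]
    · rfl
  have hT1 : ∀ φ, T 1 φ = φ := fun φ => by
    apply Subtype.ext; funext b
    show φ.1 (c 1 b) = φ.1 b
    refine congrArg φ.1 ?_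
    apply Prod.ext
    · apply Subtype.ext; simp [c]
    · rfl
  have hWC : ∀ w : coreW t r, (w : G) ∈ centralizer ({t} : Set G) := fun w =>
    coreU_le_centralizer t (coreW_le_coreU t r w.2)
  let ι : coreW t r →* centralizer ({t} : Set G) :=
    { toFun := fun w => ⟨w, hWC w⟩, map_one' := rfl, map_mul' := fun _ _ => rfl }
  letI : MulAction (coreW t r) (IrrCharacter (A × zpowers t)) :=
    { smul := fun w φ => T (ι w⁻¹) φ
      one_smul := fun φ => by show T (ι 1⁻¹) φ = φ; rw [inv_one, map_one, hT1]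
      mul_smul := fun v w φ => by
        show T (ι (v * w)⁻¹) φ = T (ι v⁻¹) (T (ι w⁻¹) φ)
        rw [hTT, ← map_mul, mul_inv_rev] }
  have hsmul : ∀ (w : coreW t r) φ, w • φ = T (ι w⁻¹) φ := fun _ _ => rfl
  -- some occurring character is moved
  obtain ⟨φ, hφm, hφmove⟩ : ∃ φ, m φ ≠ 0 ∧ ∃ w : coreW t r, w • φ ≠ φ := by
    by_contra hcon
    push Not at hcon
    apply hnc
    intro a ha w hw
    have hmem : w * a * w⁻¹ ∈ A := hnA ⟨w, hWC ⟨w, hw⟩⟩ ⟨a, ha⟩
    have hx : χ (w * a * w⁻¹ * a⁻¹) = χ 1 := by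
      have hb : f (⟨w * a * w⁻¹ * a⁻¹, mul_mem hmem (inv_mem ha)⟩, 1) = w * a * w⁻¹ * a⁻¹ := by
        rw [hf]; simp
      have hb1 : f 1 = 1 := map_one f
      rw [← hb, ← hb1, hval, hval]
      refine Finset.sum_congr rfl fun φ _ => ?_
      by_cases hm0 : m φ = 0
      · simp [hm0]
      congr 1
      have h2 : φ.1 (⟨w * a * w⁻¹, hmem⟩, 1) = φ.1 (⟨a, ha⟩, 1) := by
        have h3 := hcon φ hm0 (⟨w, hw⟩⁻¹)
        rw [hsmul, inv_inv] at h3
        conv_rhs => rw [← h3]
        rfl
      have h4 : l φ (⟨w * a * w⁻¹ * a⁻¹, mul_mem hmem (inv_mem ha)⟩, 1) * l φ (⟨a, ha⟩, 1) =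
          l φ (⟨a, ha⟩, 1) := by
        rw [← map_mul]
        conv_rhs => rw [hl, ← h2, ← hl]
        congr 1
        exact Prod.ext (Subtype.ext (by simp [mul_assoc])) (one_mul 1)
      have h5 : l φ (⟨a, ha⟩, 1) ≠ 0 := fun e => by
        have h6 : l φ ((⟨a, ha⟩, 1) * (⟨a, ha⟩, 1)⁻¹) = 0 := by rw [map_mul, e, zero_mul]
        rw [mul_inv_cancel, map_one] at h6
        exact one_ne_zero h6
      have h7 := mul_eq_right₀ h5 |>.1 h4
      rw [hl] at h7
      rw [h7, ← hl φ, map_one]
    have h8 := eq_one_of_char_eq_degree hχ h1 hx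
    rw [mul_inv_eq_one, mul_inv_eq_iff_eq_mul] at h8
    exact h8
  -- the two orbits
  set O := (MulAction.orbit (coreW t r) φ).toFinset with hOdef
  have hO : ∀ ψ, ψ ∈ O ↔ ∃ w : coreW t r, w • φ = ψ := fun ψ => by
    rw [hOdef, Set.mem_toFinset]; exact MulAction.mem_orbit_iff
  set rC : centralizer ({t} : Set G) :=
    ⟨r, mem_centralizer_singleton_iff.2 h.comm.symm.eq⟩ with hrC
  have hrinv : ∀ ψ, T rC (T rC ψ) = ψ := fun ψ => by
    rw [hTT, show rC * rC = 1 from Subtype.ext h.mul_self_r, hT1]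
  have hOcard : O.card = (MulAction.stabilizer (coreW t r) φ).index := by
    rw [MulAction.index_stabilizer, Set.ncard_eq_toFinset_card', hOdef]
  set k := (MulAction.stabilizer (coreW t r) φ).index with hk
  have hWodd : Odd (Nat.card (coreW t r)) :=
    h.odd_coreU.of_dvd_nat (card_dvd_of_le (coreW_le_coreU t r))
  have hkodd : Odd k := hWodd.of_dvd_nat (index_dvd_card _)
  have hk1 : k ≠ 1 := fun e => by
    obtain ⟨w, hw⟩ := hφmove
    rw [hk, index_eq_one] at e
    exact hw (MulAction.mem_stabilizer_iff.1 (e ▸ mem_top w))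
  have hdisj : Disjoint O (O.image (T rC)) := by
    rw [Finset.disjoint_left]
    rintro ψ hψ hψ'
    obtain ⟨ψ0, hψ0, rfl⟩ := Finset.mem_image.1 hψ'
    obtain ⟨u, hu⟩ := (hO _).1 hψ
    obtain ⟨v, rfl⟩ := (hO _).1 hψ0
    have hswap : ∀ (w : coreW t r) θ, T rC (w • θ) = w • T rC θ := fun w θ => by
      rw [hsmul, hsmul, hTT, hTT]
      congr 1
      refine Subtype.ext ?_
      show ((w⁻¹ : coreW t r) : G) * r = r * ((w⁻¹ : coreW t r) : G)
      exact ((h.mem_coreW.1 (w⁻¹).2).2.1).eq
    set w := v⁻¹ * u with hw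
    have hwφ : w • φ = T rC φ := by
      rw [hw, mul_smul, hu, hswap, inv_smul_smul]
    have hw2 : w ∈ MulAction.stabilizer (coreW t r) φ := by
      refine mem_of_sq_mem hWodd (MulAction.mem_stabilizer_iff.2 ?_)
      rw [mul_smul, hwφ, ← hswap, hwφ, hrinv]
    rw [MulAction.mem_stabilizer_iff.1 hw2] at hwφ
    -- φ is inverted on A, so trivial there
    have htriv : ∀ a : A, φ.1 (a, 1) = 1 := by
      intro a
      have h2 : φ.1 (a, 1) = φ.1 (a⁻¹, 1) := by
        conv_lhs => rw [hwφ]
        show φ.1 (c rC (a, 1)) = _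
        refine congrArg φ.1 ?_
        apply Prod.ext
        · exact Subtype.ext (hA.inverts _ a.2)
        · rfl
      rw [← hl φ] at h2 ⊢
      have h3 : l φ (a, 1) * l φ (a, 1) = 1 := by
        conv_lhs => arg 2; rw [h2]
        rw [← map_mul, ← map_one (l φ)]
        congr 1
        exact Prod.ext (mul_inv_cancel a) (one_mul 1)
      have hAodd : Odd (Nat.card A) := h.odd_coreU.of_dvd_nat (card_dvd_of_le hA.le)
      obtain ⟨j, hj⟩ := hAodd
      have h4 : l φ (a, 1) ^ (2 * j + 1) = 1 := by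
        rw [← map_pow, ← map_one (l φ), ← hj]
        congr 1
        exact Prod.ext pow_card_eq_one' (one_pow _)
      rwa [pow_succ, pow_mul, pow_two, h3, one_pow, one_mul] at h4
    obtain ⟨w', hw'⟩ := hφmove
    apply hw'
    rw [hsmul]
    apply Subtype.ext; funext b
    rw [hTval, hsplit φ b.1 b.2]
    obtain ⟨b1, b2⟩ := b
    show φ.1 (_, b2) = _
    rw [hsplit, htriv, htriv]
  have himg : (O.image (T rC)).card = O.card :=
    Finset.card_image_of_injective _ fun x y e => by rw [← hrinv x, e, hrinv]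
  -- both orbits have positive multiplicity and the same value at t
  have hδT : ∀ n ψ, (T n ψ).1 τ = ψ.1 τ := fun n ψ => by
    rw [hTval]
    refine congrArg ψ.1 ?_
    apply Prod.ext
    · apply Subtype.ext; simp [c, τ]
    · rfl
  have hsub : O ∪ O.image (T rC) ⊆
      Finset.univ.filter fun ψ => m ψ ≠ 0 ∧ ψ.1 τ = φ.1 τ := by
    intro ψ hψ
    simp only [Finset.mem_filter, Finset.mem_univ, true_and]
    rcases Finset.mem_union.1 hψ with hψ | hψ
    · obtain ⟨w, rfl⟩ := (hO ψ).1 hψ
      rw [hsmul, hTm, hδT]; exact ⟨hφm, rfl⟩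
    · obtain ⟨ψ0, hψ0, rfl⟩ := Finset.mem_image.1 hψ
      obtain ⟨w, rfl⟩ := (hO ψ0).1 hψ0
      rw [hTm, hδT, hsmul, hTm, hδT]; exact ⟨hφm, rfl⟩
  set P := Finset.univ.filter fun ψ : IrrCharacter (A × zpowers t) => ψ.1 τ = φ.1 τ with hP
  set Q := Finset.univ.filter fun ψ : IrrCharacter (A × zpowers t) => ¬ ψ.1 τ = φ.1 τ with hQ
  have hbig : 2 * k ≤ ∑ ψ ∈ P, m ψ := by
    have hc := Finset.card_le_card hsub
    rw [Finset.card_union_of_disjoint hdisj, himg, hOcard] at hc
    refine le_trans (by omega) (le_trans hc ?_)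
    rw [Finset.card_eq_sum_ones]
    refine le_trans (Finset.sum_le_sum (g := m) fun ψ hψ => ?_)
      (Finset.sum_le_sum_of_subset fun ψ hψ => ?_)
    · simp only [Finset.mem_filter, Finset.mem_univ, true_and] at hψ
      exact Nat.one_le_iff_ne_zero.2 hψ.1
    · simp only [Finset.mem_filter, Finset.mem_univ, true_and, hP] at hψ ⊢
      exact hψ.2
  have hone : χ 1 = ((∑ ψ ∈ P, m ψ) + ∑ ψ ∈ Q, m ψ : ℕ) := by
    rw [hP, hQ, Finset.sum_filter_add_sum_filter_not, ← map_one f, hval, Nat.cast_sum]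
    refine Finset.sum_congr rfl fun ψ _ => ?_
    rw [← hl ψ, map_one, mul_one]
  have htau : χ t = φ.1 τ * ((∑ ψ ∈ P, m ψ : ℕ) : ℂ) - φ.1 τ * ((∑ ψ ∈ Q, m ψ : ℕ) : ℂ) := by
    have hft : f τ = t := by rw [hτ, hf]; simp
    rw [(congrArg χ hft).symm, hval, ← Finset.sum_filter_add_sum_filter_not Finset.univ (fun ψ => ψ.1 τ = φ.1 τ),
      ← hP, ← hQ, Nat.cast_sum, Nat.cast_sum, Finset.mul_sum, Finset.mul_sum, sub_eq_add_neg,
      ← Finset.sum_neg_distrib]
    congr 1
    · refine Finset.sum_congr rfl fun ψ hψ => ?_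
      simp only [hP, Finset.mem_filter] at hψ
      rw [hψ.2, mul_comm]
    · refine Finset.sum_congr rfl fun ψ hψ => ?_
      simp only [hQ, Finset.mem_filter] at hψ
      rcases hδ ψ with e | e <;> rcases hδ φ with e' | e'
      · exact absurd (e.trans e'.symm) hψ.2
      · rw [e, e']; ring
      · rw [e, e']; ring
      · exact absurd (e.trans e'.symm) hψ.2
  set p := ∑ ψ ∈ P, m ψ with hp
  set q := ∑ ψ ∈ Q, m ψ with hq
  have hNpq : N = p + q := by exact_mod_cast hN.symm.trans hone
  have hpq : p = q + 1 ∨ q = p + 1 := by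
    have h2 : (p : ℂ) - q = 1 ∨ (p : ℂ) - q = -1 := by
      rw [← mul_sub] at htau
      rcases hδ φ with e | e <;> rw [e] at htau <;> rcases ht with e' | e' <;> rw [e'] at htau
      · left; linear_combination -htau
      · right; linear_combination -htau
      · right; linear_combination htau
      · left; linear_combination htau
    rcases h2 with e | e
    · left
      have h3 : (p : ℂ) = ((q + 1 : ℕ) : ℂ) := by push_cast; linear_combination e
      exact_mod_cast h3
    · right
      have h3 : (q : ℂ) = ((p + 1 : ℕ) : ℂ) := by push_cast; linear_combination -e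
      exact_mod_cast h3
  obtain ⟨j, hj⟩ := hkodd
  refine ⟨by omega, fun h3 => ?_⟩
  have hk3 : k ≠ 3 := fun e => h3 (three_dvd_of_index_eq_three hWodd (hk ▸ e))
  omega

/-- A linear character of `W` of order three fixed by `s`. -/
theorem exists_invariant_linear (h : Hyp t r s) (h3 : 3 ∣ (commutator (coreW t r)).index) :
    ∃ θ : coreW t r →* ℂˣ, θ ≠ 1 ∧
      ∀ v v' : coreW t r, (v' : G) = s * v * s⁻¹ → θ v' = θ v := by
  classical
  haveI : Fact (Nat.Prime 3) := ⟨Nat.prime_three⟩
  set W := coreW t r with hW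
  have hsW : ∀ v : W, s * (v : G) * s⁻¹ ∈ W := fun v =>
    (mem_normalizer_iff.1 h.s_mem_normalizer_coreW _).1 v.2
  let σ : W →* W :=
    { toFun := fun v => ⟨s * v * s⁻¹, hsW v⟩
      map_one' := Subtype.ext (by simp)
      map_mul' := fun a b => Subtype.ext (by simp [mul_assoc]) }
  -- a character of order three
  haveI : NeZero (Monoid.exponent (Abelianization W)) := ⟨Monoid.exponent_ne_zero_of_finite⟩
  haveI : NeZero ((Monoid.exponent (Abelianization W) : ℕ) : ℂ) := ⟨Nat.cast_ne_zero.2 (NeZero.ne _)⟩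
  have hcard : Nat.card (W →* ℂˣ) = (commutator W).index := by
    rw [Nat.card_congr Abelianization.lift, CommGroup.card_monoidHom_of_hasEnoughRootsOfUnity,
      Subgroup.index_eq_card]
    rfl
  haveI : Finite (W →* ℂˣ) := Nat.finite_of_card_ne_zero (by
    rw [hcard]; exact Subgroup.index_ne_zero_of_finite)
  obtain ⟨θ, hθ⟩ := exists_prime_orderOf_dvd_card' (G := W →* ℂˣ) 3 (hcard ▸ h3)
  have hθ1 : θ ≠ 1 := fun e => by rw [e, orderOf_one] at hθ; omega
  have hθ3 : ∀ v : W, θ v * (θ v * θ v) = 1 := fun v => by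
    have := DFunLike.congr_fun (hθ ▸ pow_orderOf_eq_one θ : θ ^ 3 = 1) v
    rwa [MonoidHom.pow_apply, MonoidHom.one_apply, pow_succ', pow_two] at this
  -- the cube of σ is inner
  have hσ3 : ∀ v : W, θ (σ (σ (σ v))) = θ v := by
    intro v
    set g := s * s * s with hg
    have hgt : Commute g t := mul_inv_eq_iff_eq_mul.1 (by
      rw [hg, show s * s * s * t * (s * s * s)⁻¹ = s * (s * (s * t * s⁻¹) * s⁻¹) * s⁻¹ by group,
        h.conj_t, h.conj_r, h.conj_mul])
    have hgr : Commute g r := mul_inv_eq_iff_eq_mul.1 (by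
      rw [hg, show s * s * s * r * (s * s * s)⁻¹ = s * (s * (s * r * s⁻¹) * s⁻¹) * s⁻¹ by group,
        h.conj_r, h.conj_mul, h.conj_t])
    have hgC : g ∈ coreU t ⊔ fourV t r := by
      rw [h.sup_fourV]; exact mem_centralizer_singleton_iff.2 hgt.eq
    have hmul : g ∈ ((coreU t : Set G) * (fourV t r : Set G)) := by
      rw [← coe_mul_of_right_le_normalizer_left _ _ h.fourV_le_normalizer_coreU]
      exact hgC
    obtain ⟨u, hu, e, he, hue⟩ := hmul
    have heV : ∀ x ∈ fourV t r, Commute e x := fun x hx => by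
      haveI := h.isKleinFour
      exact congrArg Subtype.val
        (mul_comm_of_exponent_two IsKleinFour.exponent_two (⟨e, he⟩ : fourV t r) ⟨x, hx⟩)
    have huW : u ∈ W := by
      refine ⟨hu, mem_centralizer_singleton_iff.2 ?_⟩
      have hur : Commute u r := by
        have : u = g * e⁻¹ := eq_mul_inv_of_mul_eq hue
        rw [this]
        exact hgr.mul_left (heV r (right_mem_fourV t r)).inv_left
      exact hur.eq
    have hve : e * (v : G) * e⁻¹ = v := by
      rw [(mem_centralizer_iff.1 (h.coreW_le_centralizer v.2) e he), mul_inv_cancel_right]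
    have heq : σ (σ (σ v)) = ⟨u, huW⟩ * v * ⟨u, huW⟩⁻¹ := by
      apply Subtype.ext
      show s * (s * (s * (v : G) * s⁻¹) * s⁻¹) * s⁻¹ = u * v * u⁻¹
      rw [show s * (s * (s * (v : G) * s⁻¹) * s⁻¹) * s⁻¹ = g * v * g⁻¹ by rw [hg]; group, ← hue,
        show u * e * (v : G) * (u * e)⁻¹ = u * (e * v * e⁻¹) * u⁻¹ by group, hve]
    rw [heq, map_mul, map_mul, map_inv, mul_comm (θ ⟨u, huW⟩), mul_inv_cancel_right]
  have hconv : ∀ η : W →* ℂˣ, (∀ v, η (σ v) = η v) →
      ∀ v v' : W, (v' : G) = s * v * s⁻¹ → η v' = η v := fun η hη v v' hv => by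
    rw [← hη v]; congr 1; exact Subtype.ext hv
  by_cases hfix : ∀ v, θ (σ v) = θ v
  · exact ⟨θ, hθ1, hconv θ hfix⟩
  by_cases hη : ∀ v, θ v * θ (σ v) * θ (σ (σ v)) = 1
  · refine ⟨θ.comp σ * θ⁻¹, fun e => hfix fun v => ?_, hconv _ fun v => ?_⟩
    · have := DFunLike.congr_fun e v
      simpa [mul_inv_eq_one] using this
    · show θ (σ (σ v)) * (θ (σ v))⁻¹ = θ (σ v) * (θ v)⁻¹
      have h2 : θ v * θ (σ (σ v)) = θ (σ v) * θ (σ v) := by
        have e1 := hη v
        rw [mul_right_comm] at e1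
        rw [eq_inv_of_mul_eq_one_left e1]
        exact inv_eq_of_mul_eq_one_right (hθ3 (σ v))
      rw [mul_inv_eq_iff_eq_mul, mul_right_comm, ← h2, mul_comm (θ v), mul_inv_cancel_right]
  · refine ⟨θ * θ.comp σ * (θ.comp σ).comp σ, fun e => hη fun v => ?_, hconv _ fun v => ?_⟩
    · exact DFunLike.congr_fun e v
    · show θ (σ v) * θ (σ (σ v)) * θ (σ (σ (σ v))) = θ v * θ (σ v) * θ (σ (σ v))
      rw [hσ3, mul_comm, mul_assoc]

end Cfsg.Agent.GWKlein
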