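import Cfsg.Agent.Lib.GWKlein.Basic
import Cfsg.Agent.Lib.Coprime.Basic
import Cfsg.Agent.Lib.ClassCount.CharSum

/-!
# Gorenstein-Walter, Klein case: local lemmas for the small character (owner: helper38)

* `Split.exists_mul` : `U = A W` with uniqueness
* `Split.exists_extension` : a linear character of `W` extends to `U` trivially on `A`
* `Split.mem_of_inverted`, `Hyp.involution_cases` : the involutions of `C(t)`
* `Hyp.exists_conj_of_not_four`, `Hyp.exists_conj_coreW` : the two kinds of classes meeting `U`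
* `Hyp.coreW_fuse` : fusion in `W`
-/

set_option autoImplicit false
set_option linter.style.haveILetI false

namespace Cfsg.Agent.GWKlein

open Subgroup

variable {G : Type*} [Group G] {t r s : G} {A : Subgroup G}

namespace Split

theorem coreU_le_normalizer (hS : Split t r A) : coreU t ≤ normalizer (A : Set G) :=
  (coreU_le_centralizer t).trans hS.normal

theorem coreW_le (t r : G) : coreW t r ≤ coreU t := inf_le_left

theorem exists_mul (hS : Split t r A) {ρ : G} (hρ : ρ ∈ coreU t) :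
    ∃ a ∈ A, ∃ w ∈ coreW t r, ρ = a * w := by
  rw [← hS.sup, sup_comm, ← SetLike.mem_coe,
    coe_mul_of_left_le_normalizer_right _ _ ((coreW_le t r).trans hS.coreU_le_normalizer)] at hρ
  obtain ⟨w, hw, a, ha, rfl⟩ := hρ
  refine ⟨w * a * w⁻¹, ?_, w, hw, by group⟩
  exact (mem_normalizer_iff.1 (((coreW_le t r).trans hS.coreU_le_normalizer) hw) a).1 ha

theorem unique (hS : Split t r A) {a a' w w' : G} (ha : a ∈ A) (ha' : a' ∈ A) (hw : w ∈ coreW t r)
    (hw' : w' ∈ coreW t r) (h : a * w = a' * w') : a = a' ∧ w = w' := by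
  have h1 : a'⁻¹ * a = w' * w⁻¹ := by
    rw [eq_mul_inv_iff_mul_eq, mul_assoc, h, inv_mul_cancel_left]
  have h2 : a'⁻¹ * a ∈ A ⊓ coreW t r :=
    ⟨A.mul_mem (A.inv_mem ha') ha, h1 ▸ (coreW t r).mul_mem hw' ((coreW t r).inv_mem hw)⟩
  rw [hS.disj, mem_bot, inv_mul_eq_one] at h2
  subst h2
  exact ⟨rfl, mul_left_cancel h⟩

/-- `U` as the set `A × W`. -/
noncomputable def prodEquiv (hS : Split t r A) : A × coreW t r ≃ coreU t :=
  Equiv.ofBijective (fun p => ⟨p.1 * p.2, mul_mem (hS.le p.1.2) (coreW_le t r p.2.2)⟩) ⟨fun p p' e => by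
    obtain ⟨h1, h2⟩ := hS.unique p.1.2 p'.1.2 p.2.2 p'.2.2 (congrArg Subtype.val e)
    exact Prod.ext (Subtype.ext h1) (Subtype.ext h2), fun x => by
    obtain ⟨a, ha, w, hw, e⟩ := hS.exists_mul x.2
    exact ⟨(⟨a, ha⟩, ⟨w, hw⟩), Subtype.ext e.symm⟩⟩

theorem coe_prodEquiv (hS : Split t r A) (p : A × coreW t r) :
    ((hS.prodEquiv p : coreU t) : G) = p.1 * p.2 := rfl

theorem card_coreU (hS : Split t r A) :
    Nat.card (coreU t) = Nat.card A * Nat.card (coreW t r) := by
  rw [← Nat.card_congr hS.prodEquiv, Nat.card_prod]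

/-- A linear character of `W` extends to `U`, trivially on `A`. -/
theorem exists_extension (hS : Split t r A) (θ : coreW t r →* ℂˣ) :
    ∃ l : coreU t →* ℂ, (∀ a : coreU t, (a : G) ∈ A → l a = 1) ∧
      ∀ (w : coreW t r) (x : coreU t), (x : G) = w → l x = (θ w : ℂ) := by
  set e := hS.prodEquiv
  let π : coreU t → coreW t r := fun x => (e.symm x).2
  have hπ : ∀ (x : coreU t) (a w : G) (ha : a ∈ A) (hw : w ∈ coreW t r), (x : G) = a * w →
      π x = ⟨w, hw⟩ := fun x a w ha hw h => by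
    have h1 : e.symm x = (⟨a, ha⟩, ⟨w, hw⟩) := by
      rw [Equiv.symm_apply_eq]; exact Subtype.ext h
    simp only [π, h1]
  refine ⟨{ toFun := fun x => (θ (π x) : ℂ), map_one' := ?_, map_mul' := fun x y => ?_ }, fun a ha => ?_,
    fun w x hx => ?_⟩
  · rw [hπ 1 1 1 (one_mem A) (one_mem _) (by simp)]
    exact congrArg Units.val (map_one θ)
  · obtain ⟨a, ha, w, hw, e1⟩ := hS.exists_mul x.2
    obtain ⟨b, hb, v, hv, e2⟩ := hS.exists_mul y.2
    have hb' : w * b * w⁻¹ ∈ A :=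
      (mem_normalizer_iff.1 ((hS.coreU_le_normalizer) (coreW_le t r hw)) b).1 hb
    rw [hπ x a w ha hw e1, hπ y b v hb hv e2,
      hπ (x * y) (a * (w * b * w⁻¹)) (w * v) (mul_mem ha hb') (mul_mem hw hv)
        (by rw [coe_mul, e1, e2]; group), ← Units.val_mul, ← map_mul]
    rfl
  · show (θ (π a) : ℂ) = 1
    rw [hπ a a 1 ha (one_mem _) (by simp)]
    exact congrArg Units.val (map_one θ)
  · show (θ (π x) : ℂ) = _
    rw [hπ x 1 w (one_mem A) w.2 (by simp [hx])]

/-- The elements of `U` inverted by `r` are those of `A`. -/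
theorem mem_of_inverted [Finite G] (h : Hyp t r s) (hS : Split t r A) {ρ : G} (hρ : ρ ∈ coreU t)
    (hr : r * ρ * r⁻¹ = ρ⁻¹) : ρ ∈ A := by
  obtain ⟨a, ha, w, hw, rfl⟩ := hS.exists_mul hρ
  have hwr : r * w * r⁻¹ = w := by
    rw [← ((h.mem_coreW.1 hw).2.1).eq, mul_inv_cancel_right]
  have e : a⁻¹ * w = w⁻¹ * a⁻¹ := by
    rw [← mul_inv_rev, ← hr, ← conj_mul, hS.inverts a ha, hwr]
  have hwA : w * a⁻¹ * w⁻¹ ∈ A :=
    (mem_normalizer_iff.1 (hS.coreU_le_normalizer (coreW_le t r hw)) _).1 (inv_mem ha)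
  have hw2 : w * w ∈ A ⊓ coreW t r := by
    refine ⟨?_, (coreW t r).mul_mem hw hw⟩
    have e2 : w * w = (w * a⁻¹ * w⁻¹)⁻¹ * a⁻¹ := by
      have e3 : w * (a⁻¹ * w) = a⁻¹ := by rw [e, mul_inv_cancel_left]
      calc w * w = (w * a⁻¹ * w⁻¹)⁻¹ * (w * (a⁻¹ * w)) := by group
        _ = _ := by rw [e3]
    rw [e2]
    exact A.mul_mem (A.inv_mem hwA) (A.inv_mem ha)
  rw [hS.disj, mem_bot] at hw2
  have : w = 1 := by
    by_contra hne
    have := h.mem_coreW.1 hw
    rw [Involution.orderOf_of_sq hw2 hne] at this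
    exact absurd this.2.2 (by decide)
  rwa [this, mul_one]

end Split

variable [Finite G]

namespace Hyp

theorem coreU_disjoint (h : Hyp t r s) {x : G} (hx : x ∈ coreU t) (hxV : x * x = 1) : x = 1 := by
  by_contra hne
  have := h.odd_orderOf hx
  rw [Involution.orderOf_of_sq hxV hne] at this
  exact absurd this (by decide)

theorem exists_mul_fourV (h : Hyp t r s) {g : G} (hg : g ∈ centralizer ({t} : Set G)) :
    ∃ ρ ∈ coreU t, ∃ v ∈ fourV t r, g = ρ * v := by
  rw [← h.sup_fourV, sup_comm, ← SetLike.mem_coe,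
    coe_mul_of_left_le_normalizer_right _ _ h.fourV_le_normalizer_coreU] at hg
  obtain ⟨v, hv, ρ, hρ, rfl⟩ := hg
  exact ⟨v * ρ * v⁻¹, (mem_normalizer_iff.1 (h.fourV_le_normalizer_coreU hv) ρ).1 hρ, v, hv, by group⟩

/-- The involutions of `C(t)`. -/
theorem involution_cases (h : Hyp t r s) (hS : Split t r A) {g : G} (hgC : g ∈ centralizer ({t} : Set G))
    (hg : orderOf g = 2) : g = t ∨ ∃ a ∈ A, g = a * r ∨ g = a * (t * r) := by
  obtain ⟨ρ, hρ, v, hv, rfl⟩ := h.exists_mul_fourV hgC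
  have hsq := Involution.mul_self hg
  have hρt : Commute ρ t := commute_of_mem_coreU hρ
  rcases h.mem_iff.1 hv with e | e | e | e <;> rw [e] at hg hsq ⊢
  · exfalso
    rw [mul_one] at hg
    have := h.odd_orderOf hρ
    rw [hg] at this
    exact absurd this (by decide)
  · left
    have : ρ = 1 := h.coreU_disjoint hρ (by
      rw [hρt.symm.mul_mul_mul_comm, h.mul_self_t, mul_one] at hsq; exact hsq)
    rw [this, one_mul]
  · refine Or.inr ⟨ρ, Split.mem_of_inverted h hS hρ ?_, Or.inl rfl⟩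
    rw [Involution.inv_eq h.order_r]
    refine eq_inv_of_mul_eq_one_right ?_
    rw [← hsq]
    group
  · refine Or.inr ⟨ρ, Split.mem_of_inverted h hS hρ ?_, Or.inr rfl⟩
    rw [Involution.inv_eq h.order_r]
    refine eq_inv_of_mul_eq_one_right ?_
    calc ρ * (r * ρ * r) = ρ * (r * ρ * r) * (t * t) := by rw [h.mul_self_t, mul_one]
      _ = ρ * (t * r) * (ρ * (t * r)) := by
        rw [show ρ * (t * r) = ρ * r * t by rw [h.comm.eq, mul_assoc],
          show ρ * r * t * (ρ * r * t) = ρ * r * (t * (ρ * r)) * t by group,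
          ((hρt.symm.mul_right h.comm)).eq]
        group
      _ = 1 := hsq

/-- A class meeting `U` in an element with small centraliser meets it in one `C(t)`-class. -/
theorem exists_conj_of_not_four (h : Hyp t r s) {x y : G} (hx : x ∈ coreU t) (hy : y ∈ coreU t)
    (h4 : ¬ 4 ∣ Nat.card (centralizer ({t} : Set G) ⊓ centralizer ({x} : Set G) : Subgroup G))
    (hxy : IsConj x y) : ∃ c ∈ centralizer ({t} : Set G), c * x * c⁻¹ = y := by
  haveI : Fact (Nat.Prime 2) := ⟨Nat.prime_two⟩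
  obtain ⟨g, rfl⟩ := isConj_iff.1 hxy
  set C := centralizer ({x} : Set G)
  have htC : t ∈ C := mem_centralizer_singleton_iff.2 (commute_of_mem_coreU hx).symm.eq
  have ht'C : g⁻¹ * t * g ∈ C := by
    refine mem_centralizer_singleton_iff.2 ?_
    have := ((commute_of_mem_coreU hy).symm).map (MulAut.conj g⁻¹).toMonoidHom
    simpa [mul_assoc] using this.eq
  obtain ⟨P₀, hP₀⟩ := h.sylow
  -- a 2-subgroup of `C` through `t` has at most two elements
  have hsmall : ∀ Q : Subgroup G, IsPGroup 2 Q → Q ≤ C → t ∈ Q → Q = zpowers t := by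
    intro Q hQ hQC htQ
    refine (eq_of_le_of_card_ge (zpowers_le.2 htQ) ?_).symm
    rw [Nat.card_zpowers, h.order_t]
    obtain ⟨k, hk⟩ := IsPGroup.iff_card.1 hQ
    rw [hk]
    rcases k with _ | _ | k
    · norm_num
    · norm_num
    refine absurd (dvd_trans ⟨2 ^ k, by rw [hk]; ring⟩ (card_dvd_of_le (le_inf ?_ hQC))) h4
    obtain ⟨R, hR⟩ := hQ.exists_le_sylow
    exact fun q hq => mem_centralizer_singleton_iff.2
      (congrArg Subtype.val ((h.abelian_sylow_two R).is_comm.comm ⟨q, hR hq⟩ ⟨t, hR htQ⟩) :)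
  obtain ⟨P, hP⟩ := (IsPGroup.of_card (n := 1) (by rw [Nat.card_zpowers, orderOf_mk, h.order_t, pow_one]) :
    IsPGroup 2 (zpowers (⟨t, htC⟩ : C))).exists_le_sylow
  have hord : orderOf (g⁻¹ * t * g) = 2 := by
    have := Involution.orderOf_conj g⁻¹ t
    rw [inv_inv] at this
    rw [this, h.order_t]
  obtain ⟨R, hR⟩ := (IsPGroup.of_card (n := 1) (by rw [Nat.card_zpowers, orderOf_mk, hord, pow_one]) :
    IsPGroup 2 (zpowers (⟨g⁻¹ * t * g, ht'C⟩ : C))).exists_le_sylow
  obtain ⟨c, hc⟩ := MulAction.exists_smul_eq C R P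
  have hm : (c : G) * (g⁻¹ * t * g) * (c : G)⁻¹ ∈ (P : Subgroup C).map C.subtype := by
    rw [← hc]
    exact ⟨c * ⟨_, ht'C⟩ * c⁻¹, ⟨_, hR (mem_zpowers _), rfl⟩, rfl⟩
  rw [hsmall _ (P.isPGroup'.map _) (map_subtype_le _) ⟨⟨t, htC⟩, hP (mem_zpowers _), rfl⟩] at hm
  have hone : ∀ z ∈ zpowers t, orderOf z = 2 → z = t := by
    intro z hz hz2
    have hmem : z = 1 ∨ z = t := by
      obtain ⟨k, rfl⟩ := mem_zpowers_iff.1 hz
      rcases Int.even_or_odd k with ⟨j, rfl⟩ | ⟨j, rfl⟩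
      · left; rw [zpow_add, ← (Commute.refl t).mul_zpow, h.mul_self_t, one_zpow]
      · right; rw [zpow_add, zpow_one, two_mul, zpow_add, ← (Commute.refl t).mul_zpow, h.mul_self_t, one_zpow, one_mul]
    rcases hmem with e | e
    · rw [e, orderOf_one] at hz2; omega
    · exact e
  have he := hone _ hm (by rw [Involution.orderOf_conj, hord])
  refine ⟨g * (c : G)⁻¹, mem_centralizer_singleton_iff.2 ?_, ?_⟩
  · conv_lhs => rw [← he]
    group
  · have hcx := mem_centralizer_singleton_iff.1 c.2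
    calc g * (c : G)⁻¹ * x * (g * (c : G)⁻¹)⁻¹ = g * ((c : G)⁻¹ * (x * c)) * g⁻¹ := by group
      _ = g * ((c : G)⁻¹ * (c * x)) * g⁻¹ := by rw [hcx]
      _ = _ := by group

/-- An element of `U` with large centraliser is conjugate into `W`. -/
theorem exists_conj_coreW (h : Hyp t r s) {x : G} (hx : x ∈ coreU t)
    (h4 : 4 ∣ Nat.card (centralizer ({t} : Set G) ⊓ centralizer ({x} : Set G) : Subgroup G)) :
    ∃ c ∈ centralizer ({t} : Set G), c * x * c⁻¹ ∈ coreW t r := by
  haveI : Fact (Nat.Prime 2) := ⟨Nat.prime_two⟩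
  set D := centralizer ({t} : Set G) ⊓ centralizer ({x} : Set G)
  set C := centralizer ({t} : Set G)
  obtain ⟨P₀, hP₀⟩ := h.sylow
  have hP₀C : (P₀ : Subgroup G) ≤ C := hP₀ ▸ h.fourV_le_centralizer_t
  obtain ⟨T, hT⟩ := Sylow.exists_subgroup_card_pow_prime (G := D) 2 (n := 2) (by norm_num; exact h4)
  obtain ⟨R, hR⟩ := ((IsPGroup.of_card hT).map (inclusion (inf_le_left : D ≤ C))).exists_le_sylow
  obtain ⟨c, hc⟩ := MulAction.exists_smul_eq C R (P₀.subtype hP₀C)
  have hcard : Nat.card (R : Subgroup C) = 4 := by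
    rw [R.card_eq_multiplicity, ← (P₀.subtype hP₀C).card_eq_multiplicity, Sylow.coe_subtype,
      Nat.card_congr (subgroupOfEquivOfLe hP₀C).toEquiv, hP₀, h.card_fourV]
  have heq : T.map (inclusion (inf_le_left : D ≤ C)) = (R : Subgroup C) := by
    refine eq_of_le_of_card_ge hR ?_
    rw [hcard, card_map_of_injective (inclusion_injective _), hT]
    norm_num
  refine ⟨c, c.2, h.mem_coreW_of_odd (mem_centralizer_iff.2 fun v hv => ?_)
    (by rw [Involution.orderOf_conj]; exact h.odd_orderOf hx)⟩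
  have hv' : (⟨v, hP₀C (hP₀ ▸ hv)⟩ : C) ∈ ((c • R : Sylow 2 C) : Subgroup C) := by
    rw [hc]; exact (hP₀ ▸ hv : v ∈ (P₀ : Subgroup G))
  obtain ⟨w, hw, hwe⟩ := hv'
  rw [SetLike.mem_coe, ← heq] at hw
  obtain ⟨d, -, rfl⟩ := hw
  have hd := (mem_centralizer_singleton_iff.1 d.2.2 : (d : G) * x = x * d)
  have e : (c : G) * d * (c : G)⁻¹ = v := congrArg Subtype.val hwe
  rw [← e]
  calc (c : G) * d * (c : G)⁻¹ * ((c : G) * x * (c : G)⁻¹) = c * (d * x) * (c : G)⁻¹ := by group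
    _ = c * (x * d) * (c : G)⁻¹ := by rw [hd]
    _ = _ := by group

/-- The class of an element of `U` with small centraliser meets `U` in an even number of elements. -/
theorem even_card_class (h : Hyp t r s) {x : G} (hx : x ∈ coreU t)
    (h4 : ¬ 4 ∣ Nat.card (centralizer ({t} : Set G) ⊓ centralizer ({x} : Set G) : Subgroup G)) :
    Even (Nat.card {y : coreU t // IsConj x y}) := by
  set C := centralizer ({t} : Set G)
  set xc : C := ⟨x, coreU_le_centralizer t hx⟩
  have hn : C ≤ normalizer (coreU t : Set G) := centralizer_le_normalizer_coreU t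
  have hmem : ∀ z : C, IsConj xc z → (z : G) ∈ coreU t := fun z hz => by
    obtain ⟨c, rfl⟩ := isConj_iff.1 hz
    exact (mem_normalizer_iff.1 (hn c.2) x).1 hx
  have e : Nat.card {y : coreU t // IsConj x y} = Nat.card {z : C // IsConj xc z} :=
    (Nat.card_congr
    { toFun := fun z => ⟨⟨z.1, hmem z.1 z.2⟩, (MonoidHom.map_isConj C.subtype z.2 : IsConj x (z.1 : G))⟩
      invFun := fun y => ⟨⟨y.1, coreU_le_centralizer t y.1.2⟩, by
        obtain ⟨c, hc, hce⟩ := h.exists_conj_of_not_four hx y.1.2 h4 y.2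
        exact isConj_iff.2 ⟨⟨c, hc⟩, Subtype.ext hce⟩⟩
      left_inv := fun z => rfl
      right_inv := fun y => rfl }).symm
  rw [e]
  by_contra hodd
  rw [Nat.not_even_iff_odd] at hodd
  have h1 := ClassCount.card_class_mul_card_centralizer xc
  have hc : Nat.card (centralizer ({xc} : Set C)) = Nat.card (C ⊓ centralizer ({x} : Set G) : Subgroup G) := by
    refine Nat.card_congr
      { toFun := fun z => ⟨z.1.1, z.1.2, mem_centralizer_singleton_iff.2
          (congrArg Subtype.val (mem_centralizer_singleton_iff.1 z.2))⟩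
        invFun := fun z => ⟨⟨z.1, z.2.1⟩, mem_centralizer_singleton_iff.2
          (Subtype.ext (mem_centralizer_singleton_iff.1 z.2.2))⟩
        left_inv := fun z => rfl
        right_inv := fun z => rfl }
  rw [hc, h.card_centralizer] at h1
  exact h4 (((Nat.coprime_two_left.2 hodd).pow_left 2).dvd_of_dvd_mul_left ⟨_, h1⟩)

theorem s_conj_mem (h : Hyp t r s) {w : G} (hw : w ∈ coreW t r) : s * w * s⁻¹ ∈ coreW t r :=
  (mem_normalizer_iff.1 h.s_mem_normalizer_coreW w).1 hw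

/-- Fusion in `W`. -/
theorem coreW_fuse (h : Hyp t r s) {x y : G} (hx : x ∈ coreW t r) (hy : y ∈ coreW t r) (hxy : IsConj x y) :
    ∃ u ∈ coreW t r, y = u * x * u⁻¹ ∨ y = s * (u * x * u⁻¹) * s⁻¹ ∨
      y = s * (s * (u * x * u⁻¹) * s⁻¹) * s⁻¹ := by
  haveI : Fact (Nat.Prime 2) := ⟨Nat.prime_two⟩
  obtain ⟨g, rfl⟩ := isConj_iff.1 hxy
  obtain ⟨P₀, hP₀⟩ := h.sylow
  set C := centralizer ({x} : Set G)
  have hVC : (P₀ : Subgroup G) ≤ C := by
    rw [hP₀]
    exact fun v hv => mem_centralizer_singleton_iff.2 (mem_centralizer_iff.1 (h.coreW_le_centralizer hx) v hv)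
  have hV'C : ((g⁻¹ • P₀ : Sylow 2 G) : Subgroup G) ≤ C := by
    intro v hv
    rw [Sylow.coe_subgroup_smul, mem_pointwise_smul_iff_inv_smul_mem] at hv
    have hv' : g * v * g⁻¹ ∈ fourV t r := by
      rw [← hP₀]
      simpa using hv
    have hc : Commute (g * v * g⁻¹) (g * x * g⁻¹) :=
      mem_centralizer_iff.1 (h.coreW_le_centralizer hy) _ hv'
    exact mem_centralizer_singleton_iff.2
      ((commute_map_iff (f := (MulAut.conj g).toMonoidHom) (MulAut.conj g).injective).1 hc).eq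
  obtain ⟨c, hc⟩ := MulAction.exists_smul_eq C (P₀.subtype hVC) ((g⁻¹ • P₀ : Sylow 2 G).subtype hV'C)
  have hn : g * (c : G) ∈ normalizer (fourV t r : Set G) := by
    rw [← hP₀]
    refine Coprime.mem_normalizer_of_forall fun v hv => ?_
    have h1 : c * ⟨v, hVC hv⟩ * c⁻¹ ∈ ((c • P₀.subtype hVC : Sylow 2 C) : Subgroup C) :=
      ⟨⟨v, hVC hv⟩, hv, rfl⟩
    rw [hc] at h1
    have h2 : (c : G) * v * (c : G)⁻¹ ∈ ((g⁻¹ • P₀ : Sylow 2 G) : Subgroup G) := h1
    rw [Sylow.coe_subgroup_smul, mem_pointwise_smul_iff_inv_smul_mem] at h2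
    simpa [mul_assoc] using h2
  have hy' : g * x * g⁻¹ = g * c * x * (g * c)⁻¹ := by
    rw [show g * c * x * (g * c)⁻¹ = g * (c * x) * (c : G)⁻¹ * g⁻¹ by group,
      mem_centralizer_singleton_iff.1 c.2]
    group
  rw [hy']
  generalize g * (c : G) = n at hn
  clear hy' hy hxy hVC hV'C hc
  -- an element of the normaliser fixing `t` acts as an element of `W`
  have key : ∀ m ∈ normalizer (fourV t r : Set G), m * t * m⁻¹ = t →
      ∃ u ∈ coreW t r, m * x * m⁻¹ = u * x * u⁻¹ := by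
    intro m hm hmt
    obtain ⟨u, hu, v, hv, rfl⟩ := h.exists_mul_fourV (g := m)
      (mem_centralizer_singleton_iff.2 (mul_inv_eq_iff_eq_mul.1 hmt))
    have huV : u ∈ normalizer (fourV t r : Set G) := by
      have := mul_mem hm (inv_mem (Subgroup.le_normalizer hv : v ∈ normalizer (fourV t r : Set G)))
      rwa [mul_inv_cancel_right] at this
    have h1 : u * r * u⁻¹ ∈ fourV t r := (mem_normalizer_iff.1 huV r).1 (right_mem_fourV t r)
    have h2 : u * r * u⁻¹ * r⁻¹ ∈ coreU t := by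
      rw [show u * r * u⁻¹ * r⁻¹ = u * (r * u⁻¹ * r⁻¹) by group]
      exact mul_mem hu ((mem_normalizer_iff.1 (h.fourV_le_normalizer_coreU (right_mem_fourV t r)) _).1 (inv_mem hu))
    have h3 : u * r * u⁻¹ * r⁻¹ ∈ fourV t r := mul_mem h1 (inv_mem (right_mem_fourV t r))
    have h4 : u * r * u⁻¹ * r⁻¹ = 1 := by
      rcases h.mem_iff.1 h3 with e | e | e | e
      · exact e
      all_goals
        exfalso
        have := h.odd_orderOf h2
        rw [e] at this
        simp only [h.order_t, h.order_r, h.order_mul] at this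
        exact absurd this (by decide)
    have huW : u ∈ coreW t r := ⟨hu, mem_centralizer_singleton_iff.2
      (mul_inv_eq_iff_eq_mul.1 (mul_inv_eq_one.1 h4))⟩
    refine ⟨u, huW, ?_⟩
    have hvx : v * x = x * v := mem_centralizer_iff.1 (h.coreW_le_centralizer hx) v hv
    rw [show u * v * x * (u * v)⁻¹ = u * (v * x) * v⁻¹ * u⁻¹ by group, hvx]
    group
  have hnt : n * t * n⁻¹ ∈ fourV t r := (mem_normalizer_iff.1 hn t).1 (left_mem_fourV t r)
  have hs := h.conj_s_mem_fourV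
  rcases h.mem_iff.1 hnt with e | e | e | e
  · exact absurd (by simpa using e) h.ne_one_t
  · obtain ⟨u, hu, he⟩ := key n hn e
    exact ⟨u, hu, Or.inl he⟩
  · obtain ⟨u, hu, he⟩ := key (s⁻¹ * n) (mul_mem (inv_mem hs) hn) (by
      rw [show s⁻¹ * n * t * (s⁻¹ * n)⁻¹ = s⁻¹ * (n * t * n⁻¹) * s by group, e, ← h.conj_t]
      group)
    refine ⟨u, hu, Or.inr (Or.inl ?_)⟩
    rw [← he]; group
  · obtain ⟨u, hu, he⟩ := key (s⁻¹ * (s⁻¹ * n)) (mul_mem (inv_mem hs) (mul_mem (inv_mem hs) hn)) (by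
      rw [show s⁻¹ * (s⁻¹ * n) * t * (s⁻¹ * (s⁻¹ * n))⁻¹ = s⁻¹ * (s⁻¹ * (n * t * n⁻¹) * s) * s by simp only [mul_inv_rev, inv_inv, mul_assoc],
        e, show s⁻¹ * (t * r) * s = r by rw [← h.conj_r]; group,
        show s⁻¹ * r * s = t by rw [← h.conj_t]; group])
    refine ⟨u, hu, Or.inr (Or.inr ?_)⟩
    rw [← he]; group

/-- The class of an element of `W` is odd. -/
theorem odd_card_class (h : Hyp t r s) {x : G} (hx : x ∈ coreW t r) : Odd (Nat.card {y : G // IsConj x y}) := by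
  rw [ClassCount.card_class_eq_index]
  obtain ⟨P₀, hP₀⟩ := h.sylow
  haveI : Fact (Nat.Prime 2) := ⟨Nat.prime_two⟩
  refine Nat.not_even_iff_odd.1 fun he => P₀.not_dvd_index ((even_iff_two_dvd.1 he).trans
    (index_dvd_of_le ?_))
  rw [hP₀]
  exact fun v hv => mem_centralizer_singleton_iff.2 (mem_centralizer_iff.1 (h.coreW_le_centralizer hx) v hv)

end Hyp

end Cfsg.Agent.GWKlein
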