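import Cfsg.Agent.Lib.GWKlein.ModTwo
import Cfsg.Agent.Lib.GWKlein.SmallCharLocal
import Cfsg.Agent.Lib.Char.Linear

/-!
# Gorenstein-Walter, Klein case: coefficients on `tU` and their parity (owner: helper38)

For a character `χ` of `G` the functions `ρ ↦ χ (t ρ)` and `ρ ↦ χ ρ` on `U` have congruent integer coefficients.

* `exists_coef`
* `linear_congr` : the coefficient of the extension of a linear `θ` is congruent to a sum over `W`
* `coef_even` : if `θ` is `s`-invariant with odd coefficient, all other coefficients of `χ` are even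
-/

set_option autoImplicit false
set_option linter.style.haveILetI false

open scoped ComplexConjugate

namespace Cfsg.Agent.GWKlein

open Cfsg Subgroup

variable {G : Type*} [Group G] {t r s : G} {A : Subgroup G}

/-- `ρ ↦ χ (t ρ)` on `U`. -/
def tFun (t : G) (χ : G → ℂ) : coreU t → ℂ := fun ρ => χ (t * ρ)

/-- `ρ ↦ χ ρ` on `U`. -/
def uFun (t : G) (χ : G → ℂ) : coreU t → ℂ := fun ρ => χ ρ

theorem tFun_isClassFunction {χ : G → ℂ} (hχ : IsClassFunction G χ) :
    IsClassFunction (coreU t) (tFun t χ) := fun x g => by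
  show χ (t * _) = χ (t * x)
  rw [← hχ (t * x) (g : G)]
  congr 1
  simp only [coe_mul, coe_inv]
  rw [← mul_assoc (g : G) t, (commute_of_mem_coreU g.2).eq]
  simp only [mul_assoc]

theorem uFun_isClassFunction {χ : G → ℂ} (hχ : IsClassFunction G χ) :
    IsClassFunction (coreU t) (uFun t χ) := fun x g => hχ x (g : G)

/-- `ℤˣ → G`, `-1 ↦ t`. -/
def signHom (t : G) (ht : t * t = 1) : ℤˣ →* G where
  toFun e := if e = 1 then 1 else t
  map_one' := if_pos rfl
  map_mul' a b := by
    rcases Int.units_eq_one_or a with rfl | rfl <;> rcases Int.units_eq_one_or b with rfl | rfl <;> simp [ht]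

variable [Finite G]

theorem exists_coef [Fintype (coreU t)] (ht : t * t = 1) {χ : G → ℂ} (hχ : IsCharacter G χ)
    {φ : coreU t → ℂ} (hφ : IsCharacter (coreU t) φ) :
    ∃ a m : ℤ, classInner (tFun t χ) φ = a ∧ classInner (uFun t χ) φ = m ∧ Even (a - m) := by
  have hc : ∀ (ρ : coreU t) (e : ℤˣ), Commute ((coreU t).subtype ρ) (signHom t ht e) := by
    intro ρ e
    rcases Int.units_eq_one_or e with rfl | rfl
    · simp
    · simpa [signHom] using commute_of_mem_coreU ρ.2
  obtain ⟨n₂, hn₂⟩ := Char.IsCharacter.classInner_nat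
    (Char.IsCharacter.comp_hom hχ (MonoidHom.noncommCoprod (coreU t).subtype (signHom t ht) hc))
    (Char.IsCharacter.comp_hom hφ (MonoidHom.fst (coreU t) ℤˣ))
  obtain ⟨n₁, hn₁⟩ := Char.IsCharacter.classInner_nat (Char.IsCharacter.restrict hχ (coreU t)) hφ
  refine ⟨2 * n₂ - n₁, n₁, ?_, by exact_mod_cast hn₁, ⟨n₂ - n₁, by ring⟩⟩
  have h2 : classInner (tFun t χ) φ + classInner (uFun t χ) φ = 2 * (n₂ : ℂ) := by
    rw [← hn₂]
    simp only [classInner, Fintype.sum_prod_type, Nat.card_prod]
    rw [show (Finset.univ : Finset ℤˣ) = {1, -1} from rfl]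
    simp only [Finset.sum_pair (show (1 : ℤˣ) ≠ -1 by decide), Finset.sum_add_distrib, mul_add]
    have hcard : Nat.card ℤˣ = 2 := by simp [Nat.card_eq_fintype_card]
    rw [hcard]
    simp [tFun, uFun, signHom, MonoidHom.noncommCoprod_apply, Finset.mul_sum]
    rw [← Finset.sum_add_distrib, ← Finset.sum_add_distrib]
    refine Finset.sum_congr rfl fun x _ => ?_
    rw [(commute_of_mem_coreU x.2).eq]
    ring
  push_cast
  rw [eq_sub_iff_add_eq, ← h2]
  congr 1
  exact hn₁.symm

theorem conj_hom {H : Type*} [Group H] [Finite H] (l : H →* ℂ) (x : H) : conj (l x) = l x⁻¹ :=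
  (Char.IsCharacter.apply_inv (Char.isCharacter_of_hom l) x).symm

theorem hom_mul_conj {H : Type*} [Group H] [Finite H] (l : H →* ℂ) (x : H) : l x * conj (l x) = 1 := by
  rw [conj_hom, ← map_mul, mul_inv_cancel, map_one]

theorem isIntegral_hom {H : Type*} [Group H] [Finite H] (l : H →* ℂ) (x : H) : IsIntegral ℤ (l x) :=
  Char.IsCharacter.isIntegral (Char.isCharacter_of_hom l) x

namespace Split

/-- An extension of a linear character of `W` is invariant under `C(t)`. -/
theorem apply_conj (h : Hyp t r s) (hS : Split t r A) {l : coreU t →* ℂ}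
    (hA : ∀ a : coreU t, (a : G) ∈ A → l a = 1) {c : G} (hc : c ∈ centralizer ({t} : Set G))
    (ρ y : coreU t) (hy : (y : G) = c * ρ * c⁻¹) : l y = l ρ := by
  obtain ⟨u, hu, v, hv, rfl⟩ := h.exists_mul_fourV hc
  obtain ⟨a, ha, w, hw, e⟩ := hS.exists_mul ρ.2
  have hav : v * a * v⁻¹ ∈ A :=
    (mem_normalizer_iff.1 (hS.normal (h.fourV_le_centralizer_t hv)) a).1 ha
  have hwv : v * w * v⁻¹ = w := by
    rw [show v * w = w * v from mem_centralizer_iff.1 (h.coreW_le_centralizer hw) v hv, mul_inv_cancel_right]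
  have hy' : y = ⟨u, hu⟩ * (⟨v * a * v⁻¹, hS.le hav⟩ * ⟨w, Split.coreW_le t r hw⟩) * (⟨u, hu⟩)⁻¹ :=
    Subtype.ext (by
      simp only [coe_mul, coe_inv]
      rw [hy, e]
      conv_rhs => rw [← hwv]
      group)
  have hρ' : ρ = ⟨a, hS.le ha⟩ * ⟨w, Split.coreW_le t r hw⟩ := Subtype.ext e
  have h1 : l (⟨u, hu⟩ : coreU t) * l (⟨u, hu⟩ : coreU t)⁻¹ = 1 := by rw [← map_mul, mul_inv_cancel, map_one]
  rw [hy', hρ', map_mul, map_mul, map_mul, map_mul, hA ⟨_, hS.le hav⟩ hav, hA ⟨a, hS.le ha⟩ ha, one_mul,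
    mul_comm (l ⟨u, hu⟩) (l _), mul_assoc, h1, mul_one]

end Split

variable [Fintype (coreU t)] [Fintype (coreW t r)] [Fintype A]

/-- The coefficient at the extension is congruent to a sum over `W`. -/
theorem linear_congr (h : Hyp t r s) (hS : Split t r A) {χ : G → ℂ} (hχ : IsCharacter G χ)
    (θ : coreW t r →* ℂˣ) {l : coreU t →* ℂ} (hA : ∀ a : coreU t, (a : G) ∈ A → l a = 1)
    (hW : ∀ (w : coreW t r) (x : coreU t), (x : G) = w → l x = (θ w : ℂ)) :
    Even2 ((Nat.card (coreU t) : ℂ) * classInner (uFun t χ) l -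
      ∑ w : coreW t r, χ w * conj (θ w : ℂ)) := by
  classical
  rw [Char.card_mul_classInner, ← Fintype.sum_equiv hS.prodEquiv
    (fun p => χ ((p.1 : G) * p.2) * conj (θ p.2 : ℂ)) (fun ρ => uFun t χ ρ * conj (l ρ)) fun p => ?_]
  · rw [Fintype.sum_prod_type_right, ← Finset.sum_sub_distrib]
    refine Even2.sum _ fun w _ => ?_
    show Even2 (∑ a : A, χ ((a : G) * w) * conj (θ w : ℂ) - χ w * conj (θ w : ℂ))
    rw [← Finset.sum_mul, ← sub_mul]
    refine Even2.mul_right ?_ ?_
    · have := isIntegral_hom ((Units.coeHom ℂ).comp θ) w⁻¹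
      rwa [← conj_hom] at this
    have hwr : Commute r (w : G) := (h.mem_coreW.1 w.2).2.1.symm
    have hfix : ∀ a : A, (a⁻¹ = a) ↔ a = 1 := by
      refine fun a => ⟨fun e => ?_, fun e => by rw [e, inv_one]⟩
      refine Subtype.ext (h.coreU_disjoint (hS.le a.2) ?_)
      have := congrArg Subtype.val e
      rw [coe_inv] at this
      nth_rewrite 1 [← this]
      exact inv_mul_cancel _
    have := Even2.sum_sub_fixed (Finset.univ : Finset A) (fun a => a⁻¹) (f := fun a => χ ((a : G) * w))
      (fun a _ => Finset.mem_univ _) (fun a _ => inv_inv a) (fun a _ => ?_) (fun a _ => Char.IsCharacter.isIntegral hχ _)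
    · rwa [show (Finset.univ : Finset A).filter (fun a => a⁻¹ = a) = {1} by ext a; simp [hfix],
        Finset.sum_singleton, coe_one, one_mul] at this
    · show χ (((a⁻¹ : A) : G) * w) = χ ((a : G) * w)
      have e : r * ((a : G) * w) * r⁻¹ = ((a⁻¹ : A) : G) * w := by
        rw [← conj_mul, hS.inverts a a.2, hwr.eq, mul_inv_cancel_right, coe_inv]
      rw [← e]
      exact Char.IsCharacter.isClassFunction hχ _ r
  · show χ ((p.1 : G) * p.2) * conj (θ p.2 : ℂ) = χ ((hS.prodEquiv p : coreU t) : G) * conj (l (hS.prodEquiv p))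
    rw [Split.coe_prodEquiv]
    congr 2
    have e : hS.prodEquiv p = (⟨p.1, hS.le p.1.2⟩ : coreU t) * ⟨p.2, Split.coreW_le t r p.2.2⟩ := Subtype.ext rfl
    rw [e, map_mul, hA ⟨p.1, hS.le p.1.2⟩ p.1.2, one_mul, hW p.2 _ rfl]

section Invariant

variable [Fintype G]

/-- With an odd coefficient at an invariant `θ` the values on `W` are congruent to those of `θ`. -/
theorem coreW_congr (h : Hyp t r s) {χ : G → ℂ} (hχ : IsIrrCharacter G χ) (θ : coreW t r →* ℂˣ)
    (hθ : ∀ w : coreW t r, θ ⟨s * w * s⁻¹, h.s_conj_mem w.2⟩ = θ w) {n : ℤ} (hn : Odd n)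
    (hF : Even2 (∑ w : coreW t r, χ w * conj (θ w : ℂ) - n)) (x : coreW t r) :
    Even2 (χ x - (θ x : ℂ)) := by
  classical
  have hc := Char.IsIrrCharacter.isClassFunction hχ
  have hint := Char.IsCharacter.isIntegral (Char.IsIrrCharacter.isCharacter hχ)
  have hθint : ∀ w, IsIntegral ℤ (θ w : ℂ) := isIntegral_hom ((Units.coeHom ℂ).comp θ)
  have hθconj : ∀ w, conj (θ w : ℂ) = (θ w⁻¹ : ℂ) := conj_hom ((Units.coeHom ℂ).comp θ)
  set F := ∑ w : coreW t r, χ w * conj (θ w : ℂ) with hFdef
  have hFint : IsIntegral ℤ F := IsIntegral.sum _ fun w _ => (hint _).mul (by rw [hθconj]; exact hθint _)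
  -- the class of `x`, and its part in `W`
  have key : ∀ x : coreW t r, Even2 (ClassCount.omega χ x - θ x) ∧ Even2 (ClassCount.omega χ x * χ 1 - χ x) := by
    intro x
    set O := (Finset.univ : Finset (coreW t r)).filter fun y : coreW t r => IsConj (x : G) (y : G) with hO
    have hOθ : ∀ y ∈ O, θ y = θ x := by
      intro y hy
      obtain ⟨u, hu, he⟩ := h.coreW_fuse x.2 y.2 (Finset.mem_filter.1 hy).2
      have h1 : θ (⟨u, hu⟩ * x * (⟨u, hu⟩)⁻¹) = θ x := by
        rw [map_mul, map_mul, mul_right_comm, ← map_mul, mul_inv_cancel, map_one, one_mul]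
      rcases he with he | he | he
      · rwa [show (⟨u, hu⟩ * x * (⟨u, hu⟩)⁻¹ : coreW t r) = y from Subtype.ext he.symm] at h1
      · rw [← h1, ← hθ (⟨u, hu⟩ * x * (⟨u, hu⟩)⁻¹)]; exact congrArg θ (Subtype.ext he)
      · rw [← h1, ← hθ (⟨u, hu⟩ * x * (⟨u, hu⟩)⁻¹),
          ← hθ ⟨_, h.s_conj_mem (⟨u, hu⟩ * x * (⟨u, hu⟩)⁻¹ : coreW t r).2⟩]
        exact congrArg θ (Subtype.ext he)
    -- the class sum against an element of `W`
    have hsum : ∀ g : coreW t r,
        Even2 (ClassCount.omega χ x * χ g - ∑ y ∈ O, χ ((y : G) * g)) ∧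
          Even2 ((Nat.card {y : G // IsConj (x : G) y} : ℂ) - O.card) := by
      intro g
      obtain ⟨hgt, hgr, -⟩ := h.mem_coreW.1 g.2
      set K := (Finset.univ : Finset G).filter fun y => IsConj (x : G) y with hK
      have hgen : ∀ f : G → ℂ, (∀ y, IsIntegral ℤ (f y)) →
          (∀ v, Commute (g : G) v → ∀ y, f (v * y * v⁻¹) = f y) →
          Even2 (∑ y ∈ K, f y - ∑ y ∈ O, f y) := by
        intro f hfi hfv
        have hK1 : ∀ v, ∀ y ∈ K, v * y * v⁻¹ ∈ K := fun v y hy => by
          simp only [hK, Finset.mem_filter, Finset.mem_univ, true_and] at hy ⊢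
          exact hy.trans (isConj_iff.2 ⟨v, rfl⟩)
        have hinv : ∀ v, v * v = 1 → ∀ y : G, v * (v * y * v⁻¹) * v⁻¹ = y := fun v hv y => by
          rw [show v * (v * y * v⁻¹) * v⁻¹ = (v * v) * y * (v * v)⁻¹ by group, hv, one_mul, inv_one, mul_one]
        have h1 := Even2.sum_sub_fixed K (fun y => t * y * t⁻¹) (fun y hy => hK1 t y hy)
          (fun y _ => hinv t h.mul_self_t y) (fun y _ => hfv t hgt y) (fun y _ => hfi y)
        have h2 := Even2.sum_sub_fixed (K.filter fun y => t * y * t⁻¹ = y) (fun y => r * y * r⁻¹)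
          (fun y hy => by
            rw [Finset.mem_filter] at hy ⊢
            refine ⟨hK1 r y hy.1, ?_⟩
            calc t * (r * y * r⁻¹) * t⁻¹ = (t * r) * y * (t * r)⁻¹ := by group
              _ = (r * t) * y * (r * t)⁻¹ := by rw [h.comm.eq]
              _ = r * (t * y * t⁻¹) * r⁻¹ := by group
              _ = _ := by rw [hy.2])
          (fun y _ => hinv r h.mul_self_r y) (fun y _ => hfv r hgr y) (fun y _ => hfi y)
        have h3 := h1.add h2
        rw [sub_add_sub_cancel] at h3
        convert h3 using 2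
        refine Finset.sum_bij (fun y _ => (y : G)) (fun y hy => ?_) (fun a _ b _ e => Subtype.ext e)
          (fun y hy => ?_) (fun y _ => rfl)
        · simp only [hO, hK, Finset.mem_filter, Finset.mem_univ, true_and] at hy ⊢
          exact ⟨⟨hy, mul_inv_eq_iff_eq_mul.2 (h.mem_coreW.1 y.2).1.symm.eq⟩,
            mul_inv_eq_iff_eq_mul.2 (h.mem_coreW.1 y.2).2.1.symm.eq⟩
        · simp only [hK, Finset.mem_filter, Finset.mem_univ, true_and] at hy
          obtain ⟨⟨hy1, hy2⟩, hy3⟩ := hy
          have hord : Odd (orderOf y) := by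
            obtain ⟨c, rfl⟩ := isConj_iff.1 hy1
            rw [Involution.orderOf_conj]
            exact (h.mem_coreW.1 x.2).2.2
          refine ⟨⟨y, h.mem_coreW.2 ⟨(mul_inv_eq_iff_eq_mul.1 hy2).symm, (mul_inv_eq_iff_eq_mul.1 hy3).symm,
            hord⟩⟩, ?_, rfl⟩
          simp only [hO, Finset.mem_filter, Finset.mem_univ, true_and]
          exact hy1
      constructor
      · rw [← ClassCount.sum_class_apply_mul hχ]
        refine hgen (fun y => χ (y * g)) (fun y => hint _) fun v hv y => ?_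
        show χ (v * y * v⁻¹ * g) = χ (y * g)
        rw [show v * y * v⁻¹ * (g : G) = v * y * (v⁻¹ * g) by group, hv.symm.inv_left.eq,
          show v * y * ((g : G) * v⁻¹) = v * (y * g) * v⁻¹ by group]
        exact hc _ v
      · have := hgen (fun _ => 1) (fun _ => isIntegral_one) fun _ _ _ => rfl
        simpa [hK, Nat.card_eq_fintype_card, Fintype.card_subtype] using this
    have hOodd : Odd O.card := by
      have h1 : Even ((Nat.card {y : G // IsConj (x : G) y} : ℤ) - O.card) :=
        Even2.intCast_iff.1 (by push_cast; exact (hsum 1).2)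
      have h2 := h.odd_card_class x.2
      rw [Int.even_sub, Int.even_coe_nat, Int.even_coe_nat] at h1
      rwa [← Nat.not_even_iff_odd, ← h1, Nat.not_even_iff_odd]
    have hω := ClassCount.isIntegral_omega hχ (x : G)
    constructor
    · -- test against `θ`
      have h1 : Even2 (ClassCount.omega χ x * F - (O.card : ℂ) * θ x * F) := by
        have h2 : Even2 (∑ g : coreW t r,
            (ClassCount.omega χ x * χ g - ∑ y ∈ O, χ ((y : G) * g)) * conj (θ g : ℂ)) :=
          Even2.sum _ fun g _ => Even2.mul_right (by rw [hθconj]; exact hθint _) (hsum g).1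
        convert h2 using 1
        simp only [sub_mul, Finset.sum_sub_distrib, Finset.sum_mul, mul_assoc, ← Finset.mul_sum, ← hFdef]
        congr 1
        rw [Finset.sum_comm, Finset.sum_congr rfl (g := fun y => (θ x : ℂ) * F) fun y hy => ?_,
          Finset.sum_const, nsmul_eq_mul]
        rw [hFdef, Finset.mul_sum]
        refine Fintype.sum_equiv (Equiv.mulLeft y) _ _ fun g => ?_
        simp only [Equiv.coe_mulLeft, coe_mul]
        rw [hθconj, hθconj, mul_inv_rev, map_mul, Units.val_mul, ← hOθ y hy]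
        have e : (θ y : ℂ) * (θ y⁻¹ : ℂ) = 1 := by rw [← Units.val_mul, ← map_mul, mul_inv_cancel, map_one, Units.val_one]
        linear_combination (-(χ ((y : G) * g) * (θ g⁻¹ : ℂ))) * e
      obtain ⟨k, hk⟩ := hOodd
      refine Even2.of_odd_mul hn (hω.sub (hθint x)) ?_
      have h3 := (h1.sub (hF.mul_left (hω.sub (hθint x)))).add
        (Even2.two_mul (((Even2.isIntegral_intCast k).mul (hθint x)).mul hFint))
      convert h3 using 1
      rw [hk]
      push_cast
      ring
    · have h1 := (hsum 1).1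
      simp only [coe_one, mul_one] at h1
      rw [Finset.sum_congr rfl (g := fun _ => χ x) fun y hy => ClassCount.class_apply hc (Finset.mem_filter.1 hy).2,
        Finset.sum_const, nsmul_eq_mul] at h1
      obtain ⟨k, hk⟩ := hOodd
      have h2 := h1.add (Even2.two_mul ((Even2.isIntegral_intCast k).mul (hint x)))
      convert h2 using 1
      rw [hk]
      push_cast
      ring
  obtain ⟨N, -, hN, -⟩ := ClassCount.exists_degree_eq ⟨χ, hχ⟩
  have hval : ∀ x : coreW t r, Even2 (χ x - (θ x : ℂ) * N) := fun x => by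
    have := ((key x).1.mul_right (y := (N : ℂ)) (by simpa using Even2.isIntegral_intCast (N : ℤ))).sub (key x).2
    convert this using 1
    rw [show χ 1 = (N : ℂ) from hN]
    ring
  have hNodd : Odd (N : ℤ) := by
    have hw : Odd (Nat.card (coreW t r)) :=
      h.odd_coreU.of_dvd_nat (card_dvd_of_le (Split.coreW_le t r))
    have h1 : Even2 ((((Nat.card (coreW t r) * N : ℕ) : ℤ) - n : ℤ) : ℂ) := by
      have h2 : Even2 (∑ w : coreW t r, (χ w - (θ w : ℂ) * N) * conj (θ w : ℂ)) :=
        Even2.sum _ fun w _ => Even2.mul_right (by rw [hθconj]; exact hθint _) (hval w)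
      convert hF.sub h2 using 1
      simp only [sub_mul, Finset.sum_sub_distrib, ← hFdef]
      rw [Finset.sum_congr rfl (g := fun _ => (N : ℂ)) fun w _ => ?_, Finset.sum_const, nsmul_eq_mul,
        Finset.card_univ, ← Nat.card_eq_fintype_card]
      · push_cast; ring
      · rw [mul_right_comm, show (θ w : ℂ) * conj (θ w : ℂ) = 1 from
          hom_mul_conj ((Units.coeHom ℂ).comp θ) w, one_mul]
    rw [Even2.intCast_iff, Int.even_sub, Int.even_coe_nat, Nat.even_mul] at h1
    rw [Int.odd_coe_nat, ← Nat.not_even_iff_odd]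
    exact fun he => Int.not_even_iff_odd.2 hn (h1.1 (Or.inr he))
  obtain ⟨k, hk⟩ := hNodd
  have := (hval x).add (Even2.two_mul ((Even2.isIntegral_intCast k).mul (hθint x)))
  convert this using 1
  rw [show (N : ℂ) = ((N : ℤ) : ℂ) by simp, hk]
  push_cast
  ring

/-- All coefficients other than the odd one at an invariant `θ` are even. -/
theorem coef_even (h : Hyp t r s) (hS : Split t r A) {χ : G → ℂ} (hχ : IsIrrCharacter G χ)
    (θ : coreW t r →* ℂˣ) {l : coreU t →* ℂ} (hA : ∀ a : coreU t, (a : G) ∈ A → l a = 1)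
    (hW : ∀ (w : coreW t r) (x : coreU t), (x : G) = w → l x = (θ w : ℂ))
    (hθ : ∀ w : coreW t r, θ ⟨s * w * s⁻¹, h.s_conj_mem w.2⟩ = θ w) {m : ℤ} (hm : Odd m)
    (hml : classInner (uFun t χ) l = m) {φ : coreU t → ℂ} (hφ : IsIrrCharacter (coreU t) φ) {b : ℤ}
    (hb : classInner (fun ρ => uFun t χ ρ - l ρ) φ = b) : Even b := by
  classical
  have hc := Char.IsIrrCharacter.isClassFunction hχ
  have hint := Char.IsCharacter.isIntegral (Char.IsIrrCharacter.isCharacter hχ)
  set u := Nat.card (coreU t) with hu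
  have huodd : Odd (u : ℤ) := by rw [Int.odd_coe_nat]; exact h.odd_coreU
  have hFn : Even2 (∑ w : coreW t r, χ w * conj (θ w : ℂ) - ((u * m : ℤ) : ℂ)) := by
    have := (linear_congr h hS (Char.IsIrrCharacter.isCharacter hχ) θ hA hW).neg
    rw [hml, neg_sub] at this
    convert this using 1
    push_cast; rfl
  have hWc := coreW_congr h hχ θ hθ (huodd.mul hm) hFn
  set R : coreU t → ℂ := fun ρ => χ ρ - l ρ with hR
  have hlint : ∀ ρ, IsIntegral ℤ (l ρ) := isIntegral_hom l
  have hRint : ∀ ρ, IsIntegral ℤ (R ρ) := fun ρ => (hint _).sub (hlint ρ)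
  have hlC : ∀ c ∈ centralizer ({t} : Set G), ∀ ρ y : coreU t, (y : G) = c * ρ * c⁻¹ → l y = l ρ :=
    fun c hc ρ y hy => hS.apply_conj h hA hc ρ y hy
  have hRC : ∀ c ∈ centralizer ({t} : Set G), ∀ ρ y : coreU t, (y : G) = c * ρ * c⁻¹ → R y = R ρ := by
    intro c hc' ρ y hy
    simp only [hR, hlC c hc' ρ y hy, hy]
    rw [hc (ρ : G) c]
  -- elements with a large centraliser
  have hbig : ∀ ρ : coreU t,
      4 ∣ Nat.card (centralizer ({t} : Set G) ⊓ centralizer ({(ρ : G)} : Set G) : Subgroup G) → Even2 (R ρ) := by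
    intro ρ h4
    obtain ⟨c, hc', hw⟩ := h.exists_conj_coreW ρ.2 h4
    rw [← hRC c hc' ρ ⟨_, Split.coreW_le t r hw⟩ rfl]
    show Even2 (χ _ - l _)
    rw [hW ⟨_, hw⟩ _ rfl]
    exact hWc ⟨_, hw⟩
  -- classes of elements with a small centraliser
  have hsmall : ∀ x : coreU t,
      ¬ 4 ∣ Nat.card (centralizer ({t} : Set G) ⊓ centralizer ({(x : G)} : Set G) : Subgroup G) →
      ∀ ρ : coreU t, Even2 (∑ y ∈ Finset.univ.filter (fun y : coreU t => IsConj (x : G) y), R (y * ρ)) := by
    intro x h4
    set O := Finset.univ.filter (fun y : coreU t => IsConj (x : G) y) with hO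
    have hOev : Even O.card := by
      have := h.even_card_class x.2 h4
      rwa [Nat.card_eq_fintype_card, Fintype.card_subtype] at this
    have hOl : ∀ y ∈ O, l y = l x := fun y hy => by
      obtain ⟨c, hc', hce⟩ := h.exists_conj_of_not_four x.2 y.2 h4 (Finset.mem_filter.1 hy).2
      exact hlC c hc' x y hce.symm
    have hsum : ∀ ρ : coreU t,
        Even2 (ClassCount.omega χ x * χ ρ - ∑ y ∈ O, χ ((y : G) * ρ)) := by
      intro ρ
      rw [← ClassCount.sum_class_apply_mul hχ]
      set K := (Finset.univ : Finset G).filter fun y => IsConj (x : G) y with hK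
      have hρt := commute_of_mem_coreU ρ.2
      have h1 := Even2.sum_sub_fixed K (fun y => t * y * t⁻¹) (f := fun y => χ (y * ρ)) (fun y hy => ?_)
        (fun y _ => ?_) (fun y _ => ?_) (fun y _ => hint _)
      · convert h1 using 2
        refine Finset.sum_bij (fun y _ => (y : G)) (fun y hy => ?_) (fun a _ b _ e => Subtype.ext e)
          (fun y hy => ?_) (fun y _ => rfl)
        · simp only [hO, hK, Finset.mem_filter, Finset.mem_univ, true_and] at hy ⊢
          exact ⟨hy, mul_inv_eq_iff_eq_mul.2 (commute_of_mem_coreU y.2).symm.eq⟩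
        · simp only [hK, Finset.mem_filter, Finset.mem_univ, true_and] at hy
          obtain ⟨hy1, hy2⟩ := hy
          refine ⟨⟨y, h.mem_coreU.2 ⟨(mul_inv_eq_iff_eq_mul.1 hy2).symm, ?_⟩⟩, ?_, rfl⟩
          · obtain ⟨c, rfl⟩ := isConj_iff.1 hy1
            rw [Involution.orderOf_conj]
            exact h.odd_orderOf x.2
          · simp only [hO, Finset.mem_filter, Finset.mem_univ, true_and]
            exact hy1
      · simp only [hK, Finset.mem_filter, Finset.mem_univ, true_and] at hy ⊢
        exact hy.trans (isConj_iff.2 ⟨t, rfl⟩)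
      · rw [show t * (t * y * t⁻¹) * t⁻¹ = (t * t) * y * (t * t)⁻¹ by group, h.mul_self_t, one_mul, inv_one, mul_one]
      · show χ (t * y * t⁻¹ * ρ) = χ (y * ρ)
        rw [show t * y * t⁻¹ * (ρ : G) = t * y * (t⁻¹ * ρ) by group, hρt.symm.inv_left.eq,
          show t * y * ((ρ : G) * t⁻¹) = t * (y * ρ) * t⁻¹ by group]
        exact hc _ t
    have hω := ClassCount.isIntegral_omega hχ (x : G)
    have hωev : Even2 (ClassCount.omega χ x) := by
      obtain ⟨k, hk⟩ := hOev
      refine Even2.of_odd_mul (huodd.mul hm) hω ?_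
      have h1 : Even2 (∑ ρ : coreU t,
          (ClassCount.omega χ x * χ ρ - ∑ y ∈ O, χ ((y : G) * ρ)) * conj (l ρ)) :=
        Even2.sum _ fun ρ _ => Even2.mul_right (by rw [conj_hom]; exact hlint _) (hsum ρ)
      have hmu : ∑ ρ : coreU t, χ ρ * conj (l ρ) = (u : ℂ) * m := by
        rw [← hml, hu, Char.card_mul_classInner]; rfl
      have h2 : ∀ y ∈ O, ∑ ρ : coreU t, χ ((y : G) * ρ) * conj (l ρ) = l x * ((u : ℂ) * m) := by
        intro y hy
        rw [← hmu, ← hOl y hy, Finset.mul_sum]
        refine Fintype.sum_equiv (Equiv.mulLeft y) _ _ fun ρ => ?_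
        simp only [Equiv.coe_mulLeft, coe_mul]
        rw [map_mul, map_mul]
        linear_combination (-(χ ((y : G) * ρ) * conj (l ρ))) * hom_mul_conj l y
      simp only [sub_mul, Finset.sum_sub_distrib, Finset.sum_mul, mul_assoc, ← Finset.mul_sum, hmu] at h1
      rw [Finset.sum_comm, Finset.sum_congr rfl h2, Finset.sum_const, nsmul_eq_mul, hk] at h1
      have := h1.add (Even2.two_mul ((Even2.isIntegral_intCast k).mul ((hlint x).mul
        ((Even2.isIntegral_intCast u).mul (Even2.isIntegral_intCast m)))))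
      convert this using 1
      push_cast
      ring
    intro ρ
    simp only [hR, coe_mul, Finset.sum_sub_distrib]
    refine Even2.sub ?_ ?_
    · have := (hωev.mul_right (hint (ρ : G))).sub (hsum ρ)
      rwa [sub_sub_cancel] at this
    · rw [Finset.sum_congr rfl (g := fun _ => l x * l ρ) fun y hy => by rw [map_mul, hOl y hy],
        Finset.sum_const, nsmul_eq_mul]
      obtain ⟨k, hk⟩ := hOev
      rw [hk, show ((k + k : ℕ) : ℂ) * (l x * l ρ) = 2 * (((k : ℤ) : ℂ) * (l x * l ρ)) by push_cast; ring]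
      exact Even2.two_mul ((Even2.isIntegral_intCast _).mul ((hlint x).mul (hlint ρ)))
  -- the convolution square is even
  have hconv : ∀ ρ : coreU t, Even2 (∑ x : coreU t, R x * R (x⁻¹ * ρ)) := by
    intro ρ
    rw [← Finset.sum_fiberwise_of_maps_to (g := fun x : coreU t => ConjClasses.mk (x : G))
      (t := Finset.univ.image fun x : coreU t => ConjClasses.mk (x : G))
      (fun x hx => Finset.mem_image_of_mem _ hx)]
    refine Even2.sum _ fun K _ => ?_
    by_cases hq : ∃ x ∈ Finset.univ.filter (fun x : coreU t => ConjClasses.mk (x : G) = K),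
        ¬ 4 ∣ Nat.card (centralizer ({t} : Set G) ⊓ centralizer ({(x : G)} : Set G) : Subgroup G)
    · obtain ⟨x, hx, h4⟩ := hq
      have hxK := (Finset.mem_filter.1 hx).2
      have hset : Finset.univ.filter (fun y : coreU t => ConjClasses.mk (y : G) = K) =
          Finset.univ.filter (fun y : coreU t => IsConj (x : G) y) := by
        ext y
        simp only [← hxK, ConjClasses.mk_eq_mk_iff_isConj, Finset.mem_filter, Finset.mem_univ, true_and]
        exact ⟨IsConj.symm, IsConj.symm⟩
      rw [hset, Finset.sum_congr rfl (g := fun y => R x * R (y⁻¹ * ρ)) fun y hy => ?_, ← Finset.mul_sum]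
      · refine Even2.mul_left (hRint _) ?_
        have hcx : centralizer ({((x⁻¹ : coreU t) : G)} : Set G) = centralizer ({(x : G)} : Set G) := by
          ext g
          simp only [Involution.mem_centralizer_iff_commute, coe_inv, Commute.inv_right_iff]
        have := hsmall x⁻¹ (by rwa [hcx]) ρ
        convert this using 1
        refine Finset.sum_equiv (Equiv.inv _) (fun y => ?_) (fun y _ => rfl)
        simp only [Equiv.inv_apply, Finset.mem_filter, Finset.mem_univ, true_and, coe_inv]
        constructor <;> intro hh <;> obtain ⟨c, hc'⟩ := isConj_iff.1 hh <;> refine isConj_iff.2 ⟨c, ?_⟩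
        · rw [← hc']; group
        · rw [← inv_inj, ← hc']; group
      · obtain ⟨c, hc', hce⟩ := h.exists_conj_of_not_four x.2 y.2 h4 (Finset.mem_filter.1 hy).2
        rw [hRC c hc' x y hce.symm]
    · push Not at hq
      exact Even2.sum _ fun x hx => Even2.mul_right (hRint _) (hbig x (hq x hx))
  -- test on the conjugate of `φ`
  have hRcls : IsClassFunction (coreU t) R :=
    Char.isClassFunction_sub (uFun_isClassFunction hc) (Char.IsIrrCharacter.isClassFunction (Char.isIrrCharacter_of_hom l))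
  have hφc := Char.IsIrrCharacter.conj hφ
  have key := conv_irr hφc hRcls
  have hbsum : ∑ x, R x * conj (φ x) = ((u * b : ℤ) : ℂ) := by
    push_cast
    rw [← hb, hu, Char.card_mul_classInner]
    rfl
  rw [hbsum] at key
  have hev : Even2 (((u * b) ^ 2 : ℤ) : ℂ) := by
    rw [Int.cast_pow, ← key]
    exact Even2.mul_left (Char.IsCharacter.isIntegral (Char.IsIrrCharacter.isCharacter hφc) _)
      (Even2.sum _ fun y _ => Even2.mul_left (Char.IsCharacter.isIntegral (Char.IsIrrCharacter.isCharacter hφc) _) (hconv y))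
  rw [Even2.intCast_iff, Int.even_pow, Int.even_mul] at hev
  exact hev.1.resolve_left (Int.not_even_iff_odd.2 huodd)

end Invariant

end Cfsg.Agent.GWKlein
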