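import Cfsg.Agent.Lib.GWKlein.Main
import Cfsg.Agent.Lib.Constrained.Basic

/-!
# Gorenstein-Walter, Klein case: from the splitting of `U` to `PSL(2,q)`, arbitrary local subgroups

* `Hyp.pGood_of_coreW_eq_bot`: for `W = 1` all local subgroups are constrained
* `psl_of_split`: the back end of the general case
-/

set_option autoImplicit false

namespace Cfsg.Agent.GWKlein

open Subgroup

universe u

variable {G : Type u} [Group G] [Finite G] {t r s : G}

/-- No proper subgroup over `C(t)` moves `t`. -/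
def NoFusedOvergroup (t r : G) : Prop :=
  coreU t ≠ ⊥ → ∀ H : Subgroup G, H ≠ ⊤ → centralizer ({t} : Set G) ≤ H → ∀ m ∈ H, m * t * m⁻¹ = r → False

/-- A proper subgroup over the four-group which is not solvable rotates its involutions. -/
def NonsolvableMoves (t r : G) : Prop :=
  ∀ H : Subgroup G, H ≠ ⊤ → fourV t r ≤ H → ¬ Group.IsSolvable H →
    ∃ m ∈ H, m * t * m⁻¹ = r ∧ m * r * m⁻¹ = t * r

/-- For `W = 1` centralisers of elements of odd order are solvable. -/
theorem Hyp.isSolvable_centralizer_of_odd (h : Hyp t r s) (hW : coreW t r = ⊥) {a : G}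
    (ha : Odd (orderOf a)) (ha1 : a ≠ 1) : Group.IsSolvable (centralizer ({a} : Set G)) := by
  haveI : Fact (Nat.Prime 2) := ⟨Nat.prime_two⟩
  set C := centralizer ({a} : Set G) with hCdef
  obtain ⟨S⟩ : Nonempty (Sylow 2 C) := inferInstance
  obtain ⟨R, hR⟩ := (S.2.map C.subtype).exists_le_sylow
  obtain ⟨P, hP⟩ := h.sylow
  obtain ⟨g, hg⟩ := MulAction.exists_smul_eq G R P
  have hR4 : Nat.card (R : Subgroup G) = 4 := by
    rw [R.card_eq_multiplicity, ← P.card_eq_multiplicity, hP, h.card_fourV]
  have hSR : Nat.card (S : Subgroup C) = Nat.card ((S : Subgroup C).map C.subtype) :=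
    (card_map_of_injective C.subtype_injective).symm
  have hdvd : Nat.card (S : Subgroup C) ∣ 4 := by rw [hSR, ← hR4]; exact card_dvd_of_le hR
  have hne : Nat.card (S : Subgroup C) ≠ 4 := by
    intro e4
    have heq : (S : Subgroup C).map C.subtype = R :=
      Subgroup.eq_of_le_of_card_ge hR (by rw [hR4, ← hSR, e4])
    apply ha1
    have h1 : g * a * g⁻¹ ∈ centralizer (fourV t r : Set G) := by
      rw [← hP, ← hg]
      refine mem_centralizer_iff.2 ?_
      rintro _ ⟨x, hx, rfl⟩
      show g * x * g⁻¹ * (g * a * g⁻¹) = g * a * g⁻¹ * (g * x * g⁻¹)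
      have hxC : x ∈ C := by
        rw [SetLike.mem_coe, ← heq] at hx
        exact map_subtype_le _ hx
      calc g * x * g⁻¹ * (g * a * g⁻¹) = g * (x * a) * g⁻¹ := by group
        _ = g * (a * x) * g⁻¹ := by rw [mem_centralizer_singleton_iff.1 hxC]
        _ = _ := by group
    have h2 := h.mem_coreW_of_odd h1 (by rwa [show orderOf (g * a * g⁻¹) = orderOf a from Involution.orderOf_conj g a])
    rw [hW, mem_bot, conj_eq_one_iff] at h2
    exact h2
  have hle : Nat.card (S : Subgroup C) ≤ 2 := by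
    have := Nat.le_of_dvd (by norm_num) hdvd
    have : Nat.card (S : Subgroup C) ≠ 3 := fun e => by rw [e] at hdvd; norm_num at hdvd
    omega
  by_cases h2 : 2 ∣ Nat.card C
  · have hc : IsCyclic (S : Subgroup C) := by
      have : Nat.card (S : Subgroup C) = 2 := by
        have := S.dvd_card_of_dvd_card h2
        have := Nat.le_of_dvd Nat.card_pos this
        omega
      exact isCyclic_of_prime_card this
    have hcard := KleinOrder.card_pPrimeCore_of_cyclic S hc h2
    set O := Cfsg.pPrimeCore 2 C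
    haveI := Cores.pPrimeCore_normal 2 C
    haveI : Group.IsSolvable O := S0205.result (Nat.not_even_iff_odd.1 fun e =>
      Cores.not_dvd_card_pPrimeCore (p := 2) (G := C) (even_iff_two_dvd.1 e))
    have hidx : Nat.card (C ⧸ O) ≤ 2 := by
      have e1 := O.card_mul_index
      rw [hcard, ← (S : Subgroup C).card_mul_index] at e1
      have e2 : O.index = Nat.card (S : Subgroup C) := by
        have := Nat.pos_of_ne_zero ((S : Subgroup C).index_ne_zero_of_finite)
        nlinarith
      rw [← index_eq_card, e2]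
      exact hle
    haveI : Group.IsSolvable (C ⧸ O) := by
      have hpos : 0 < Nat.card (C ⧸ O) := Nat.card_pos
      rcases (show Nat.card (C ⧸ O) = 1 ∨ Nat.card (C ⧸ O) = 2 by omega) with e | e
      · haveI : Subsingleton (C ⧸ O) := (Nat.card_eq_one_iff_unique.1 e).1
        exact Group.isSolvable_of_comm fun a b => Subsingleton.elim _ _
      · haveI : IsCyclic (C ⧸ O) := isCyclic_of_prime_card e
        exact Group.isSolvable_of_comm fun a b => IsCyclic.commGroup.mul_comm a b
    exact Group.isSolvable_of_ker_le_range O.subtype (QuotientGroup.mk' O) (by rw [QuotientGroup.ker_mk', range_subtype])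
  · exact S0205.result (Nat.not_even_iff_odd.1 fun e => h2 (even_iff_two_dvd.1 e))

/-- For `W = 1` the local subgroups of odd characteristic are constrained. -/
theorem Hyp.pGood_of_coreW_eq_bot (h : Hyp t r s) (hW : coreW t r = ⊥) {p : ℕ} [Fact p.Prime] (hp : p ≠ 2) :
    PGood G p := by
  intro Q hQ hQ1
  obtain ⟨k, hk⟩ := IsPGroup.iff_card.1 hQ
  obtain ⟨⟨a, ha⟩, ha'⟩ := Subgroup.ne_bot_iff_exists_ne_one.1 hQ1
  have hodd : Odd (orderOf a) := Odd.of_dvd_nat (by rw [hk]; exact ((Fact.out : p.Prime).odd_of_ne_two hp).pow)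
    (orderOf_dvd_natCard _ ha)
  haveI := h.isSolvable_centralizer_of_odd hW hodd (fun e => ha' (Subtype.ext e))
  have hle : centralizer (Q : Set G) ≤ centralizer ({a} : Set G) := centralizer_le (Set.singleton_subset_iff.2 ha)
  haveI : Group.IsSolvable (centralizer (Q : Set G)) := Coprime.isSolvable_of_le hle inferInstance
  refine ⟨?_, Constrained.isPConstrained_of_centralizer hQ HallHigman.isPConstrained_of_isSolvable⟩
  set N := normalizer (Q : Set G)
  haveI : (Q.subgroupOf N).Normal := Cores.subgroupOf_normal_of_le_normalizer le_rfl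
  have hQc : Q.subgroupOf N ≤ Cfsg.pCore p N := Cores.le_pCore inferInstance hQ.comap_subtype
  have hO : ((Cfsg.pPrimeCore p N).map N.subtype) ≤ centralizer (Q : Set G) := by
    rintro _ ⟨y, hy, rfl⟩
    refine mem_centralizer_iff.2 fun q hq => ?_
    exact congrArg Subtype.val (Cores.pCore_pPrimeCore_commute
      (hQc (show (⟨q, le_normalizer hq⟩ : N) ∈ Q.subgroupOf N from hq)) hy).eq
  haveI := Coprime.isSolvable_of_le hO inferInstance
  exact Group.isSolvable_of_surjective (f := ((Cfsg.pPrimeCore p N).equivMapOfInjective N.subtype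
    N.subtype_injective).symm.toMonoidHom) (MulEquiv.surjective _)

theorem normalizer_ne_top [IsSimpleGroup G] (hns : ¬ Group.IsSolvable G) {p : ℕ} [Fact p.Prime] {Z : Subgroup G}
    (hZ : IsPGroup p Z) (hZ1 : Z ≠ ⊥) : normalizer (Z : Set G) ≠ ⊤ := fun e => by
  rcases (normalizer_eq_top_iff.1 e).eq_bot_or_eq_top with e1 | e1
  · exact hZ1 e1
  · haveI : Group.IsNilpotent Z := hZ.isNilpotent
    haveI : Group.IsSolvable (⊤ : Subgroup G) := e1 ▸ (inferInstance : Group.IsSolvable Z)
    exact hns (Group.isSolvable_of_surjective (f := (topEquiv : (⊤ : Subgroup G) ≃* G).toMonoidHom)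
      topEquiv.surjective)

/-- No mixed invariant subgroups when `W = 1`, arbitrary local subgroups. -/
theorem Hyp.false_of_mixed_general [IsSimpleGroup G] (h : Hyp t r s) (hns : ¬ Group.IsSolvable G)
    (hfus : NoFusedOvergroup t r) (hmv : NonsolvableMoves t r) (hW : coreW t r = ⊥) {p : ℕ} [Fact p.Prime]
    (hp : p ≠ 2) {Q : Subgroup G} (hQ : IsPGroup p Q) (hQn : fourV t r ≤ normalizer (Q : Set G))
    (ht : Q ⊓ centralizer ({t} : Set G) ≠ ⊥) (hr : Q ⊓ centralizer ({r} : Set G) ≠ ⊥) : False := by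
  have hPG := h.pGood_of_coreW_eq_bot hW hp
  -- a rotation normalising an invariant `p`-subgroup is absurd
  have key : ∀ (m : G) (X : Subgroup G), Hyp t r m → IsPGroup p X → fourV t r ≤ normalizer (X : Set G) → X ≠ ⊥ →
      m ∈ normalizer (X : Set G) → False := by
    intro m X hm hX hXV hX1 hmX
    obtain ⟨A, hAX, hA, hA3, z, hzA, hz1, hzU⟩ := hm.exists_rank_three hW hp hX hXV hX1 hmX
    obtain ⟨M, hMtop, hM⟩ := exists_overgroup_simple inferInstance hns h.abelian_sylow_two hp hPG hX
    obtain ⟨hXM, hCM, -⟩ := hM A hAX hA hA3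
    have hCt : centralizer ({t} : Set G) ≤ M := by
      rw [← h.sup_fourV]
      refine sup_le (fun u hu => ?_) (hXV.trans hXM)
      exact hCM z hzA hz1 (mem_centralizer_singleton_iff.2 ((h.inverts_coreU hW).2 u hu z hzU))
    exact hfus (fun e => hz1 (mem_bot.1 (e ▸ hzU))) M hMtop hCt m (hXM hmX) hm.conj_t
  have hN : ∀ D : Subgroup G, IsPGroup p D → D ≠ ⊥ → fourV t r ≤ normalizer (D : Set G) →
      Group.IsSolvable (normalizer (D : Set G)) := by
    intro D hD hD1 hDV
    by_contra hns'
    obtain ⟨m, hmD, hmt, hmr⟩ := hmv _ (normalizer_ne_top hns hD hD1) hDV hns'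
    exact key m D { h with conj_t := hmt, conj_r := hmr } hD hDV hD1 hmD
  obtain ⟨X, hXp, hXV, hX1, hsX⟩ := h.exists_rotInv hW hp hN hQ hQn ht hr
  exact key s X h hXp hXV hX1 hsX

/-- **The back end of the general Klein case**: a splitting of `U` gives `PSL(2,q)`. -/
theorem psl_of_split [IsSimpleGroup G] (h : Hyp t r s) {A : Subgroup G} (hA : Split t r A)
    (hfus : ∀ t' r' s' : G, Hyp t' r' s' → NoFusedOvergroup t' r')
    (hmv : ∀ t' r' s' : G, Hyp t' r' s' → NonsolvableMoves t' r') :
    ∃ (F : Type) (_ : Field F) (_ : Fintype F), Odd (Fintype.card F) ∧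
      Nonempty (G ≃* Matrix.ProjectiveSpecialLinearGroup (Fin 2) F) := by
  haveI := h.isKleinFour
  have hns : ¬ Group.IsSolvable G :=
    not_isSolvable_of_simple (KleinSimple.not_abelian_of_klein (fourV t r) inferInstance)
  have hfus' := hfus t r s h
  have hW : coreW t r = ⊥ := by
    by_contra hW
    obtain ⟨q, Z, hq, -, hZ, hZ1, hle, hsZ⟩ := h.exists_fused_local (h.splitCentral h.orderFormula) hA hW
    haveI : Fact q.Prime := ⟨hq⟩
    exact hfus' (fun e => hW (le_bot_iff.1 (e ▸ coreW_le_coreU t r))) _ (normalizer_ne_top hns hZ hZ1) hle s hsZ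
      h.conj_t
  refine psl_of_noMixed h hW (fun hne q hq hq2 Z hZ hZ1 hle => ?_) (fun r' hr' q hq hq2 Q hQ hQn ht' hrQ => ?_)
    (fun hne H hH hle m hm hmt => hfus' hne H (fun e => hns (by
      haveI : Group.IsSolvable (⊤ : Subgroup G) := e ▸ hH
      exact Group.isSolvable_of_surjective (f := (topEquiv : (⊤ : Subgroup G) ≃* G).toMonoidHom)
        topEquiv.surjective)) hle m hm hmt)
  · haveI : Fact q.Prime := ⟨hq⟩
    by_contra hns'
    have htop := normalizer_ne_top hns hZ hZ1
    obtain ⟨m, hm, hmt, -⟩ := hmv t r s h _ htop (h.fourV_le_centralizer_t.trans hle) hns'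
    exact hfus' hne _ htop hle m hm hmt
  · haveI : Fact q.Prime := ⟨hq⟩
    rcases hr' with rfl | rfl
    · exact h.false_of_mixed_general hns hfus' (hmv _ _ _ h) hW hq2 hQ hQn ht' hrQ
    · -- the rotated setting `(t * r, r * (t * r))`
      have h2 := h.rot.rot
      have e : r * (t * r) = t := by rw [← mul_assoc, h.comm.symm.eq, mul_assoc, h.mul_self_r, mul_one]
      exact h2.false_of_mixed_general hns (hfus _ _ _ h2) (hmv _ _ _ h2) (by rw [h.rot.coreW_rot, h.coreW_rot, hW])
        hq2 hQ (by rw [h.rot.fourV_rot, h.fourV_rot]; exact hQn) hrQ (by rw [e]; exact ht')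

end Cfsg.Agent.GWKlein
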