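import Cfsg.Agent.Lib.GWKlein.Basic
import Cfsg.Agent.Lib.ZStar.KleinSimple

/-!
# Gorenstein-Walter, Klein case: producing the setting
-/

set_option autoImplicit false

namespace Cfsg.Agent.GWKlein

open Subgroup

variable {G : Type*} [Group G] [Finite G]

theorem not_isSolvable_of_simple [IsSimpleGroup G] (hna : ∃ a b : G, a * b ≠ b * a) :
    ¬ Group.IsSolvable G := fun hs => by
  haveI := hs
  obtain ⟨a, b, hab⟩ := hna
  exact hab (IsSimpleGroup.comm_iff_isSolvable.2 hs a b)

/-- Some element permutes the involutions of a four-group Sylow 2-subgroup cyclically. -/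
theorem exists_hyp [IsSimpleGroup G] (P : Sylow 2 G) [hK : IsKleinFour (P : Subgroup G)] :
    ∃ t r s : G, Hyp t r s ∧ (P : Subgroup G) = fourV t r := by
  haveI : Fact (Nat.Prime 2) := ⟨Nat.prime_two⟩
  have h4 : Nat.card (P : Subgroup G) = 4 := IsKleinFour.card_four
  have hsq : ∀ x ∈ (P : Subgroup G), x * x = 1 := fun x hx => KleinBlock.sq_eq_one P hx
  haveI : Nontrivial (P : Subgroup G) := Finite.one_lt_card_iff_nontrivial.1 (by rw [h4]; norm_num)
  obtain ⟨t', ht'⟩ := exists_ne (1 : (P : Subgroup G))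
  set t : G := (t' : G)
  have ht1 : t ≠ 1 := fun e => ht' (Subtype.ext e)
  obtain ⟨r, hrP, hr⟩ : ∃ r ∈ (P : Subgroup G), r ∉ zpowers t := by
    by_contra! hc
    have := card_le_of_le (show (P : Subgroup G) ≤ zpowers t from hc)
    rw [h4, Nat.card_zpowers, Involution.orderOf_of_sq (hsq t t'.2) ht1] at this
    omega
  have hr1 : r ≠ 1 := fun e => hr (e ▸ one_mem _)
  have htr : t ≠ r := fun e => hr (e ▸ mem_zpowers t)
  have ht2 := Involution.orderOf_of_sq (hsq t t'.2) ht1
  have hr2 := Involution.orderOf_of_sq (hsq r hrP) hr1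
  have hc : Commute t r := congrArg Subtype.val (mul_comm_of_exponent_two
    (IsKleinFour.exponent_two) t' ⟨r, hrP⟩)
  have hV : (P : Subgroup G) = fourV t r := by
    refine (eq_of_le_of_card_ge (fourV_le_iff.2 ⟨t'.2, hrP⟩) ?_).symm
    have h2 : 2 < Nat.card (fourV t r) := by
      have hlt : zpowers t < fourV t r := lt_of_le_of_ne (zpowers_le.2 (left_mem_fourV t r))
        fun e => hr (e ▸ right_mem_fourV t r)
      have := Set.ncard_lt_ncard (SetLike.coe_ssubset_coe.2 hlt) (Set.toFinite _)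
      rw [← Nat.card_coe_set_eq, ← Nat.card_coe_set_eq] at this
      simpa [SetLike.coe_sort_coe, Nat.card_zpowers, ht2] using this
    have hd := card_dvd_of_le (show fourV t r ≤ (P : Subgroup G) from fourV_le_iff.2 ⟨t'.2, hrP⟩)
    rw [h4] at hd ⊢
    have := Nat.le_of_dvd (by norm_num) hd
    interval_cases Nat.card (fourV t r) <;> omega
  -- Burnside: conjugation inside the normaliser
  obtain ⟨g, hg⟩ := isConj_iff.1 (KleinSimple.isConj_involutions P ht2 hr2)
  have hab : ∀ x ∈ (P : Subgroup G), ∀ y ∈ (P : Subgroup G), x * y = y * x := fun x hx y hy =>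
    congrArg Subtype.val (mul_comm_of_exponent_two (IsKleinFour.exponent_two)
      (⟨x, hx⟩ : (P : Subgroup G)) ⟨y, hy⟩)
  haveI : IsMulCommutative (P : Subgroup G) := ⟨⟨fun a b => Subtype.ext (hab a a.2 b b.2)⟩⟩
  have hmemr : (g⁻¹)⁻¹ * t * g⁻¹ ∈ (P : Subgroup G) := by rw [inv_inv, hg]; exact hrP
  obtain ⟨n, hn, hn'⟩ := P.conj_eq_normalizer_conj_of_mem t g⁻¹ t'.2 hmemr
  rw [inv_inv, hg] at hn'
  set m := n⁻¹ with hm
  have hmt : m * t * m⁻¹ = r := by rw [hm, inv_inv]; exact hn'.symm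
  have hmP : m ∈ normalizer (fourV t r : Set G) := by rw [← hV]; exact inv_mem hn
  have hmr : m * r * m⁻¹ ∈ fourV t r := (mem_normalizer_iff.1 hmP r).1 (right_mem_fourV t r)
  have hne1 : m * r * m⁻¹ ≠ 1 := fun e => hr1 (by simpa using e)
  have hner : m * r * m⁻¹ ≠ r := fun e => htr (by
    have e' : m * t * m⁻¹ = m * r * m⁻¹ := hmt.trans e.symm
    simpa using e')
  have key : m * r * m⁻¹ ≠ t := fun e => by
    -- an element swapping `t` and `r` would give a bigger 2-subgroup
    obtain ⟨k, o, ho, hko⟩ := Nat.exists_eq_two_pow_mul_odd (orderOf_pos m).ne'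
    have h2 : ∀ j : ℕ, m ^ (2 * j + 1) * t * (m ^ (2 * j + 1))⁻¹ = r := by
      intro j
      induction j with
      | zero => simpa using hmt
      | succ j ih =>
        rw [show 2 * (j + 1) + 1 = 2 + (2 * j + 1) by ring, pow_add, mul_inv_rev,
          show m ^ 2 * m ^ (2 * j + 1) * t * ((m ^ (2 * j + 1))⁻¹ * (m ^ 2)⁻¹) =
            m ^ 2 * (m ^ (2 * j + 1) * t * (m ^ (2 * j + 1))⁻¹) * (m ^ 2)⁻¹ by group, ih, pow_two,
          show m * m * r * (m * m)⁻¹ = m * (m * r * m⁻¹) * m⁻¹ by group, e, hmt]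
    obtain ⟨j, hj⟩ := ho
    have hy : m ^ o * t * (m ^ o)⁻¹ = r := hj ▸ h2 j
    have hyp : IsPGroup 2 (zpowers (m ^ o)) := IsPGroup.of_card (n := k) (by
      rw [Nat.card_zpowers, orderOf_pow, hko, Nat.gcd_mul_left_left, Nat.mul_div_cancel _ (by rw [hj]; omega)])
    have hle : zpowers (m ^ o) ≤ normalizer ((P : Subgroup G) : Set G) := by
      rw [zpowers_le, hV]; exact pow_mem hmP o
    have hsup := hyp.to_sup_of_normal_right' P.isPGroup' hle
    have heq := P.is_maximal' hsup le_sup_right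
    have hmem : m ^ o ∈ (P : Subgroup G) := heq ▸ mem_sup_left (mem_zpowers _)
    rw [hab _ hmem t t'.2, mul_inv_cancel_right] at hy
    exact htr hy
  refine ⟨t, r, m, ⟨ht2, hr2, htr, hc, ⟨P, hV⟩, hmt, ?_⟩, hV⟩
  have hh : ∀ x ∈ fourV t r, x = 1 ∨ x = t ∨ x = r ∨ x = t * r := by
    intro x hx
    by_contra! hx'
    have h5 : 5 ≤ ({1, t, r, t * r, x} : Set G).ncard := by
      have h1 : t * r ≠ 1 := fun e => htr (by rw [eq_inv_of_mul_eq_one_left e, Involution.inv_eq hr2])
      have h2 : t * r ≠ t := fun e => hr1 (mul_eq_left.1 e)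
      have h3 : t * r ≠ r := fun e => ht1 (mul_eq_right.1 e)
      rw [Set.ncard_insert_of_notMem, Set.ncard_insert_of_notMem, Set.ncard_insert_of_notMem,
        Set.ncard_pair hx'.2.2.2.symm]
      · simp [h3.symm, hx'.2.2.1.symm]
      · simp [htr, h2.symm, hx'.2.1.symm]
      · simp [ht1.symm, hr1.symm, h1.symm, hx'.1.symm]
    have hsub : ({1, t, r, t * r, x} : Set G) ⊆ (fourV t r : Set G) := by
      simp only [Set.insert_subset_iff, Set.singleton_subset_iff, SetLike.mem_coe]
      exact ⟨one_mem _, left_mem_fourV t r, right_mem_fourV t r,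
        mul_mem (left_mem_fourV t r) (right_mem_fourV t r), hx⟩
    have := Set.ncard_le_ncard hsub
    rw [← Nat.card_coe_set_eq (fourV t r : Set G), SetLike.coe_sort_coe, ← hV, h4] at this
    omega
  rcases hh _ hmr with e | e | e | e
  exacts [absurd e hne1, absurd e key, absurd e hner, e]

end Cfsg.Agent.GWKlein
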