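import Cfsg.Agent.Lib.GWKlein.Basic
import Cfsg.Agent.Lib.Solvable.Fitting
import Cfsg.Agent.Lib.Cores.Fitting
import Mathlib.GroupTheory.GroupAction.Basic

/-!
# Gorenstein-Walter, Klein case: splitting the core of an involution centraliser

If `r` centralises or inverts every invariant prime power subgroup of `U`, then `U = A ⋊ W` with `A` abelian and
inverted by `r`: `[u, r]` centralises the Fitting subgroup, so lies in its centre, where it is inverted.
-/

set_option autoImplicit false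

namespace Cfsg.Agent.GWKlein

open Subgroup

variable {G : Type*} [Group G] [Finite G] {t r s : G}

/-- The elements of `C_U(F(U))`-centre inverted by `r`. -/
def invPart (t r : G) (F : Subgroup G) : Subgroup G where
  carrier := {a | a ∈ F ∧ (∀ x ∈ F, Commute a x) ∧ r * a * r⁻¹ = a⁻¹}
  one_mem' := ⟨one_mem _, fun x _ => Commute.one_left x, by group⟩
  mul_mem' := fun {a b} ⟨ha, ha', hai⟩ ⟨hb, hb', hbi⟩ => ⟨mul_mem ha hb,
    fun x hx => (ha' x hx).mul_left (hb' x hx), by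
    rw [← conj_mul, hai, hbi, ← mul_inv_rev, (ha' b hb).eq]⟩
  inv_mem' := fun {a} ⟨ha, ha', hai⟩ => ⟨inv_mem ha, fun x hx => (ha' x hx).inv_left, by
    rw [← conj_inv, hai]⟩

theorem Hyp.exists_split (h : Hyp t r s)
    (hd : ∀ q : ℕ, q.Prime → ∀ Q : Subgroup G, Q ≤ coreU t → IsPGroup q Q →
      fourV t r ≤ normalizer (Q : Set G) → (∀ x ∈ Q, r * x * r⁻¹ = x) ∨ ∀ x ∈ Q, r * x * r⁻¹ = x⁻¹) :
    ∃ A, Split t r A := by
  classical
  set U := coreU t with hU
  haveI : Group.IsSolvable U := h.isSolvable_coreU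
  have hUn : fourV t r ≤ normalizer (U : Set G) := h.fourV_le_normalizer_coreU
  have hrU : ∀ u ∈ U, r * u * r⁻¹ ∈ U := fun u hu =>
    (mem_normalizer_iff.1 (hUn (right_mem_fourV t r)) u).1 hu
  set F := (Cfsg.fittingSubgroup U).map U.subtype with hF
  haveI : (Cfsg.fittingSubgroup U).Characteristic := inferInstance
  have hFn : normalizer (U : Set G) ≤ normalizer (F : Set G) := Cores.normalizer_le_normalizer_map _
  have hFU : F ≤ U := map_subtype_le _
  have hrr : r⁻¹ = r := Involution.inv_eq h.order_r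
  -- the commutator with `r` centralises the Fitting subgroup
  have hz : ∀ u ∈ U, ∀ x ∈ F, Commute (u⁻¹ * (r * u * r⁻¹)) x := by
    intro u hu
    have key : ∀ (q : Nat.Primes) (x : U), x ∈ Cfsg.pCore q U → Commute (u⁻¹ * (r * u * r⁻¹)) (x : G) := by
      intro q x hx
      have hxQ : (x : G) ∈ (Cfsg.pCore q U).map U.subtype := ⟨x, hx, rfl⟩
      have huQ : u * x * u⁻¹ ∈ (Cfsg.pCore q U).map U.subtype :=
        ⟨⟨u, hu⟩ * x * ⟨u, hu⟩⁻¹, (Cores.pCore_normal (q : ℕ) U).conj_mem x hx _, rfl⟩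
      have hrx : r * u * r⁻¹ * x * (r * u * r⁻¹)⁻¹ = u * x * u⁻¹ := by
        rcases hd q q.2 _ (map_subtype_le _) ((Cores.isPGroup_pCore (q : ℕ) U).map _)
          (hUn.trans (Cores.normalizer_le_normalizer_map _)) with hc | hi
        · have e1 := hc _ huQ
          have e2 := hc _ hxQ
          calc r * u * r⁻¹ * x * (r * u * r⁻¹)⁻¹
              = r * u * r⁻¹ * (r * x * r⁻¹) * (r * u * r⁻¹)⁻¹ := by rw [e2]
            _ = r * (u * x * u⁻¹) * r⁻¹ := by group
            _ = u * x * u⁻¹ := e1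
        · have e1 := hi _ huQ
          have e2 := hi _ hxQ
          have e3 : r * u * r⁻¹ * (x : G)⁻¹ * (r * u * r⁻¹)⁻¹ = (u * x * u⁻¹)⁻¹ := by
            calc r * u * r⁻¹ * (x : G)⁻¹ * (r * u * r⁻¹)⁻¹
                = r * u * r⁻¹ * (r * x * r⁻¹) * (r * u * r⁻¹)⁻¹ := by rw [e2]
              _ = r * (u * x * u⁻¹) * r⁻¹ := by group
              _ = (u * x * u⁻¹)⁻¹ := e1
          have := congrArg (·⁻¹) e3
          simpa [mul_assoc] using this
      refine mul_inv_eq_iff_eq_mul.1 ?_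
      calc u⁻¹ * (r * u * r⁻¹) * x * (u⁻¹ * (r * u * r⁻¹))⁻¹
          = u⁻¹ * (r * u * r⁻¹ * x * (r * u * r⁻¹)⁻¹) * u := by group
        _ = x := by rw [hrx]; group
    intro x hx
    have hle : Cfsg.fittingSubgroup U ≤
        (centralizer ({u⁻¹ * (r * u * r⁻¹)} : Set G)).comap U.subtype := by
      rw [Cores.fittingSubgroup_eq_iSup_pCore, iSup_le_iff]
      exact fun q x hx => mem_comap.2 (mem_centralizer_singleton_iff.2 (key q x hx).symm.eq)
    obtain ⟨y, hy, rfl⟩ := hx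
    exact (mem_centralizer_singleton_iff.1 (hle hy) : Commute (U.subtype y) _).symm
  have hzF : ∀ u ∈ U, u⁻¹ * (r * u * r⁻¹) ∈ F := fun u hu =>
    ⟨⟨_, mul_mem (inv_mem hu) (hrU u hu)⟩, Solvable.centralizer_fitting_le U
      (mem_centralizer_iff.2 fun y hy => Subtype.ext (hz u hu y ⟨y, hy, rfl⟩).eq.symm), rfl⟩
  set A := invPart t r F
  have hA : ∀ u ∈ U, u⁻¹ * (r * u * r⁻¹) ∈ A := fun u hu => ⟨hzF u hu, hz u hu, by
    rw [hrr, show r * (u⁻¹ * (r * u * r)) * r = (r * u⁻¹ * r) * u * (r * r) by group, h.mul_self_r,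
      mul_one, mul_inv_rev, inv_inv, mul_inv_rev, mul_inv_rev, hrr]
    group⟩
  have hAU : A ≤ U := fun a ha => hFU ha.1
  have hdisj : A ⊓ coreW t r = ⊥ := by
    rw [eq_bot_iff]
    rintro a ⟨ha, hw⟩
    have e : a⁻¹ = a := ha.2.2.symm.trans (mul_inv_eq_iff_eq_mul.2 (h.mem_coreW.1 hw).2.1.symm.eq)
    exact orderOf_eq_one_iff.1 (Nat.eq_one_of_dvd_coprimes
      (Nat.coprime_two_right.2 (h.odd_orderOf (hAU ha))) dvd_rfl
      (orderOf_dvd_of_pow_eq_one (by rw [pow_two]; nth_rewrite 1 [← e]; exact inv_mul_cancel a)))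
  have hsup : A ⊔ coreW t r = U := by
    refine le_antisymm (sup_le hAU inf_le_left) fun u hu => ?_
    obtain ⟨k, hk⟩ := h.odd_orderOf (mul_mem (inv_mem hu) (hrU u hu))
    set z := u⁻¹ * (r * u * r⁻¹) with hzdef
    have haA : z ^ (k + 1) ∈ A := A.pow_mem (hA u hu) _
    have haz : z ^ (k + 1) * z ^ (k + 1) = z := by
      rw [← pow_add, show k + 1 + (k + 1) = 2 * k + 1 + 1 by ring, pow_succ, ← hk, pow_orderOf_eq_one,
        one_mul]
    have hw : u * z ^ (k + 1) ∈ coreW t r := by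
      refine ⟨mul_mem hu (hAU haA), mem_centralizer_singleton_iff.2 (mul_inv_eq_iff_eq_mul.1 ?_).symm⟩
      calc r * (u * z ^ (k + 1)) * r⁻¹ = (r * u * r⁻¹) * (r * z ^ (k + 1) * r⁻¹) := by group
        _ = (u * z) * (z ^ (k + 1))⁻¹ := by rw [haA.2.2, hzdef, mul_inv_cancel_left]
        _ = u * z ^ (k + 1) := by
          nth_rewrite 1 [← haz]
          group
    rw [show u = u * z ^ (k + 1) * (z ^ (k + 1))⁻¹ by group]
    exact mul_mem (mem_sup_right hw) (mem_sup_left (inv_mem haA))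
  refine ⟨A, hAU, ?_, fun a ha b hb => (ha.2.1 b hb.1).eq, fun a ha => ha.2.2, hsup, hdisj⟩
  -- normality
  have hFn' : ∀ g ∈ normalizer (U : Set G), ∀ x, x ∈ F ↔ g * x * g⁻¹ ∈ F := fun g hg =>
    mem_normalizer_iff.1 (hFn hg)
  rw [← h.sup_fourV]
  have hgen : ∀ g ∈ normalizer (U : Set G),
      (∀ a ∈ A, r * (g * a * g⁻¹) * r⁻¹ = (g * a * g⁻¹)⁻¹) → ∀ a ∈ A, g * a * g⁻¹ ∈ A := by
    intro g hg hinv a ha
    refine ⟨(hFn' g hg a).1 ha.1, fun x hx => ?_, hinv a ha⟩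
    have h1 := (ha.2.1 (g⁻¹ * x * g) ((hFn' g hg _).2 (by simpa [mul_assoc] using hx))).map
      (MulAut.conj g).toMonoidHom
    simpa [mul_assoc] using h1
  refine sup_le (le_normalizer_iff.2 fun u hu => hgen u (le_normalizer hu) fun a ha => ?_)
    (le_normalizer_iff.2 fun v hv => hgen v (hUn hv) fun a ha => ?_)
  · have hc : Commute (u⁻¹ * (r * u * r⁻¹)) a := hz u hu a ha.1
    calc r * (u * a * u⁻¹) * r⁻¹ = (r * u * r⁻¹) * (r * a * r⁻¹) * (r * u * r⁻¹)⁻¹ := by group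
      _ = u * ((u⁻¹ * (r * u * r⁻¹)) * a⁻¹ * (u⁻¹ * (r * u * r⁻¹))⁻¹) * u⁻¹ := by rw [ha.2.2]; group
      _ = (u * a * u⁻¹)⁻¹ := by rw [hc.inv_right.eq]; group
  · have hc : Commute v r := by
      rcases h.mem_iff.1 hv with e | e | e | e <;> subst v
      exacts [Commute.one_left r, h.comm, Commute.refl r, h.comm.mul_left (Commute.refl r)]
    calc r * (v * a * v⁻¹) * r⁻¹ = (r * v) * a * (r * v)⁻¹ := by group
      _ = v * (r * a * r⁻¹) * v⁻¹ := by rw [← hc.eq]; group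
      _ = (v * a * v⁻¹)⁻¹ := by rw [ha.2.2]; group

end Cfsg.Agent.GWKlein
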