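import Cfsg.Agent.Lib.GWKlein.Endgame
import Cfsg.Agent.Lib.GWKlein.Split
import Cfsg.Agent.Lib.GWKlein.Setup
import Cfsg.Agent.Lib.GWKlein.Mixed
import Cfsg.Agent.Lib.Blocks.Defect
import Mathlib.GroupTheory.FiniteAbelian.Duality

/-!
# Gorenstein-Walter, Klein case: putting the pieces together

The inputs are the ratio lemma and the two character bounds.
-/

set_option autoImplicit false

namespace Cfsg.Agent.GWKlein

open Subgroup

variable {G : Type*} [Group G] [Finite G] {t r s : G}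

/-- `W` centralises the inverted part (interface of `SmallChar` and `DegreeBound`). -/
def SplitCentral (t r : G) : Prop :=
  ∀ A : Subgroup G, Split t r A → coreW t r ≠ ⊥ → A ≤ centralizer (coreW t r : Set G)

variable [IsSimpleGroup G]

theorem Hyp.dichotomy (h : Hyp t r s) (hns : ¬ Group.IsSolvable G)
    (hR : RatioLemma t r) (hloc : ∀ p : ℕ, p.Prime → p ≠ 2 → SolvableLocals G p) :
    ∀ q : ℕ, q.Prime → ∀ Q : Subgroup G, Q ≤ coreU t → IsPGroup q Q →
      fourV t r ≤ normalizer (Q : Set G) → (∀ x ∈ Q, r * x * r⁻¹ = x) ∨ ∀ x ∈ Q, r * x * r⁻¹ = x⁻¹ := by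
  intro q hq Q hQU hQ hQn
  by_cases hQ1 : Q = ⊥
  · exact Or.inl fun x hx => by rw [hQ1, mem_bot] at hx; simp [hx]
  haveI : Fact q.Prime := ⟨hq⟩
  obtain ⟨k, hk⟩ := IsPGroup.iff_card.1 hQ
  have hqU : q ∣ Nat.card (coreU t) := by
    rcases Nat.eq_zero_or_pos k with rfl | hk0
    · exact absurd (eq_bot_of_card_eq Q (by rw [hk, pow_zero])) hQ1
    · exact ((dvd_pow_self q hk0.ne').trans (hk ▸ dvd_rfl)).trans (card_dvd_of_le hQU)
  have hq2 : q ≠ 2 := fun e => h.not_two_dvd_coreU (e ▸ hqU)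
  by_cases hd : q ∣ Nat.card (coreW t r)
  · left
    by_contra hc
    push Not at hc
    obtain ⟨x, hx, hne⟩ := hc
    exact h.false_of_bad hns hR hq2 (hloc q hq hq2) hQU hQ hQn ⟨x, hx, hne⟩ hd
  · refine Or.inr (inverts_of_fpf h.order_r (hQn (right_mem_fourV t r)) fun x hx hfx => ?_).1
    by_contra hx1
    obtain ⟨j, hj, hox⟩ : ∃ j, 0 < j ∧ orderOf x = q ^ j := by
      obtain ⟨j, hj⟩ := IsPGroup.iff_orderOf.1 hQ ⟨x, hx⟩
      rw [orderOf_mk] at hj
      refine ⟨j, Nat.pos_of_ne_zero ?_, hj⟩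
      rintro rfl
      exact hx1 (orderOf_eq_one_iff.1 (hj.trans (pow_zero q)))
    refine hd (((dvd_pow_self q hj.ne').trans (dvd_of_eq hox.symm)).trans (orderOf_dvd_natCard _ ?_))
    exact ⟨hQU hx, mem_centralizer_singleton_iff.2 (mul_inv_eq_iff_eq_mul.1 hfx).symm⟩

/-- With `U = A W` and `A` centralised by `W ≠ 1` some normaliser of a `q`-subgroup is a fused overgroup of `C(t)`. -/
theorem Hyp.exists_fused_local (h : Hyp t r s) (hC : SplitCentral t r) {A : Subgroup G} (hA : Split t r A)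
    (hW : coreW t r ≠ ⊥) :
    ∃ (q : ℕ) (Z : Subgroup G), q.Prime ∧ q ≠ 2 ∧ IsPGroup q Z ∧ Z ≠ ⊥ ∧
      centralizer ({t} : Set G) ≤ normalizer (Z : Set G) ∧ s ∈ normalizer (Z : Set G) := by
  have hAW := hC A hA hW
  haveI : Group.IsSolvable (coreW t r) := by
    exact Coprime.isSolvable_of_le (coreW_le_coreU t r) h.isSolvable_coreU
  haveI : Nontrivial (coreW t r) := (nontrivial_iff_ne_bot _).2 hW
  have hF : Cfsg.fittingSubgroup (coreW t r) ≠ ⊥ := fun e => hW (by
    have h1 := Solvable.centralizer_fitting_le (coreW t r)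
    rw [e, coe_bot, le_bot_iff] at h1
    have h2 : (⊤ : Subgroup (coreW t r)) ≤ centralizer ({1} : Set (coreW t r)) := fun x _ =>
      mem_centralizer_singleton_iff.2 (by simp)
    rw [h1, top_le_iff] at h2
    exact absurd h2 bot_ne_top)
  rw [Ne, Cores.fittingSubgroup_eq_iSup_pCore, iSup_eq_bot] at hF
  push Not at hF
  obtain ⟨q, hq⟩ := hF
  haveI : Fact (q : ℕ).Prime := ⟨q.2⟩
  set Z := (Cfsg.pCore (q : ℕ) (coreW t r)).map (coreW t r).subtype
  have hZ1 : Z ≠ ⊥ := fun e => hq ((Subgroup.map_eq_bot_iff_of_injective _ (coreW t r).subtype_injective).1 e)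
  have hZW : Z ≤ coreW t r := map_subtype_le _
  have hq2 : (q : ℕ) ≠ 2 := fun e => by
    obtain ⟨k, hk⟩ := IsPGroup.iff_card.1 ((Cores.isPGroup_pCore (q : ℕ) (coreW t r)).map (coreW t r).subtype)
    rcases Nat.eq_zero_or_pos k with rfl | hk0
    · exact hZ1 (eq_bot_of_card_eq Z (by rw [hk, pow_zero]))
    · exact h.not_two_dvd_coreU (((e ▸ dvd_pow_self (q : ℕ) hk0.ne' : 2 ∣ (q : ℕ) ^ k).trans (dvd_of_eq hk.symm)).trans
        (card_dvd_of_le (hZW.trans (coreW_le_coreU t r))))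
  have hNW : normalizer (coreW t r : Set G) ≤ normalizer (Z : Set G) := Cores.normalizer_le_normalizer_map _
  refine ⟨q, Z, q.2, hq2, (Cores.isPGroup_pCore (q : ℕ) _).map _, hZ1, ?_, hNW h.s_mem_normalizer_coreW⟩
  refine le_trans ?_ hNW
  rw [← h.sup_fourV, ← hA.sup]
  refine sup_le (sup_le (le_normalizer_iff.2 fun a ha w hw => ?_) le_normalizer) ?_
  · rw [← mem_centralizer_iff.1 (hAW ha) w hw, mul_inv_cancel_right]; exact hw
  · refine le_normalizer_iff.2 fun v hv w hw => ?_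
    rw [mem_centralizer_iff.1 (h.coreW_le_centralizer hw) v hv, mul_inv_cancel_right]; exact hw

/-- The core of `C(V)` is trivial. -/
theorem Hyp.coreW_eq_bot (h : Hyp t r s) (hns : ¬ Group.IsSolvable G)
    (hR : RatioLemma t r) (hC : SplitCentral t r)
    (hloc : ∀ p : ℕ, p.Prime → p ≠ 2 → SolvableLocals G p) : coreW t r = ⊥ := by
  by_contra hW
  obtain ⟨A, hA⟩ := h.exists_split (h.dichotomy hns hR hloc)
  obtain ⟨q, Z, hq, hq2, hZ, hZ1, hle, hsZ⟩ := h.exists_fused_local hC hA hW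
  exact hR (fun e => hW (le_bot_iff.1 (e ▸ coreW_le_coreU t r))) (normalizer (Z : Set G))
    (hloc q hq hq2 Z hZ hZ1) hle s hsZ h.conj_t

/-- **Gorenstein-Walter**, Klein four case with solvable odd locals, from its inputs. -/
theorem psl_of_inputs (h : Hyp t r s) (hns : ¬ Group.IsSolvable G)
    (hR : ∀ t' r' s' : G, Hyp t' r' s' → RatioLemma t' r') (hC : SplitCentral t r)
    (hloc : ∀ p : ℕ, p.Prime → p ≠ 2 → SolvableLocals G p) :
    ∃ (F : Type) (_ : Field F) (_ : Fintype F), Odd (Fintype.card F) ∧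
      Nonempty (G ≃* Matrix.ProjectiveSpecialLinearGroup (Fin 2) F) := by
  have hW := h.coreW_eq_bot hns (hR t r s h) hC hloc
  refine psl_of_noMixed h hW (fun _ q hq hq2 Z hZ hZ1 _ => hloc q hq hq2 Z hZ hZ1) (fun r' hr' q hq hq2 Q hQ hQn ht' hrQ => ?_) (hR t r s h)
  haveI : Fact q.Prime := ⟨hq⟩
  rcases hr' with rfl | rfl
  · exact h.false_of_mixed hns (hR _ _ _ h) hW hq2 (hloc q hq hq2) hQ hQn ht' hrQ
  · -- the rotated setting `(t * r, r * (t * r))`
    have h2 := h.rot.rot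
    have e : r * (t * r) = t := by rw [← mul_assoc, h.comm.symm.eq, mul_assoc, h.mul_self_r, mul_one]
    exact h2.false_of_mixed hns (hR _ _ _ h2) (by rw [h.rot.coreW_rot, h.coreW_rot, hW]) hq2 (hloc q hq hq2) hQ
      (by rw [h.rot.fourV_rot, h.fourV_rot]; exact hQn) hrQ (by rw [e]; exact ht')

end Cfsg.Agent.GWKlein
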