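import Cfsg.Agent.EqLemmas
import Cfsg.Prelude.Def_Transfer
import Cfsg.Prelude.Def_Local
import Mathlib.GroupTheory.Sylow
import Mathlib.GroupTheory.Solvable

/-!
# Gorenstein-Walter, Klein four Sylow subgroups: the setting

`V = ⟨t, r⟩` is a Sylow 2-subgroup and `s` permutes its involutions `t ↦ r ↦ t * r`. `U` is the odd core of the
centraliser of `t` and `W = C_U(r)`. See `GW_KLEIN.md`.
-/

set_option autoImplicit false

namespace Cfsg.Agent.GWKlein

open Subgroup

variable {G : Type*} [Group G]

/-- The four-group spanned by two commuting involutions. -/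
def fourV (t r : G) : Subgroup G := closure {t, r}

/-- The odd core of the centraliser of `t`, inside `G`. -/
def coreU (t : G) : Subgroup G :=
  (Cfsg.pPrimeCore 2 (centralizer ({t} : Set G))).map (centralizer ({t} : Set G)).subtype

/-- The part of the odd core of `C(t)` centralising `r`. -/
def coreW (t r : G) : Subgroup G := coreU t ⊓ centralizer ({r} : Set G)

/-- A four-group Sylow 2-subgroup `⟨t, r⟩` with an element `s` permuting its involutions cyclically. -/
structure Hyp (t r s : G) : Prop where
  order_t : orderOf t = 2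
  order_r : orderOf r = 2
  ne : t ≠ r
  comm : Commute t r
  sylow : ∃ P : Sylow 2 G, (P : Subgroup G) = fourV t r
  conj_t : s * t * s⁻¹ = r
  conj_r : s * r * s⁻¹ = t * r

/-- Every normaliser of a non-trivial `p`-subgroup is solvable. -/
def SolvableLocals (G : Type*) [Group G] (p : ℕ) : Prop :=
  ∀ Q : Subgroup G, IsPGroup p Q → Q ≠ ⊥ → Group.IsSolvable (normalizer (Q : Set G))

/-- `U = A ⋊ W` with `A` abelian and inverted by `r`. -/
structure Split (t r : G) (A : Subgroup G) : Prop where
  le : A ≤ coreU t
  normal : centralizer ({t} : Set G) ≤ normalizer (A : Set G)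
  comm : ∀ a ∈ A, ∀ b ∈ A, a * b = b * a
  inverts : ∀ a ∈ A, r * a * r⁻¹ = a⁻¹
  sup : A ⊔ coreW t r = coreU t
  disj : A ⊓ coreW t r = ⊥

end Cfsg.Agent.GWKlein
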