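import Cfsg.Agent.Lib.GWKlein.SmallCharLocal
import Cfsg.Agent.Lib.GWKlein.General.Count
import Cfsg.Agent.Lib.ZStar.KleinOrder
import Cfsg.Agent.Lib.Blocks.Induced
import Cfsg.Agent.Lib.Blocks.Osima

/-!
# Gorenstein-Walter, Klein case: Brauer's order formula (owner: helper38)

* `sign_sum_bound` : four signed degrees of the principal block give `8/15 ≤ 1 + Σ ε / N`
* `Hyp.orderFormula` : `|G| |W|² S₀ = 32 |U|³` with `8/15 ≤ S₀`
-/

set_option autoImplicit false
set_option linter.style.haveILetI false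

namespace Cfsg.Agent.GWKlein

open Cfsg Subgroup

theorem one_div_le_of_le {a b : ℚ} (ha : 0 < a) (h : a ≤ b) : 1 / b ≤ 1 / a :=
  one_div_le_one_div_of_le ha h

/-- The two possible sign patterns. -/
theorem sign_sum_bound {a b c : ℕ} {x y z : ℤ} (hx : x = 1 ∨ x = -1) (hy : y = 1 ∨ y = -1)
    (hz : z = 1 ∨ z = -1) (ha : 0 < a) (hb : 0 < b) (hc : 0 < c)
    (ha4 : (4 : ℤ) ∣ (a : ℤ) - x) (hb4 : (4 : ℤ) ∣ (b : ℤ) - y) (hc4 : (4 : ℤ) ∣ (c : ℤ) - z)
    (h0 : 1 + x * a + y * b + z * c = 0) :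
    (8 : ℚ) / 15 ≤ 1 + (x : ℚ) / a + (y : ℚ) / b + (z : ℚ) / c := by
  have two : ∀ {p q n : ℕ}, 0 < p → 0 < q → 3 ≤ n →
      (8 : ℚ) / 15 ≤ 1 + 1 / (p : ℚ) + 1 / (q : ℚ) - 1 / (n : ℚ) := by
    intro p q n hp hq hn
    have h1 : (0 : ℚ) < 1 / (p : ℚ) := by positivity
    have h2 : (0 : ℚ) < 1 / (q : ℚ) := by positivity
    have h3 : 1 / (n : ℚ) ≤ 1 / 3 := one_div_le_of_le (by norm_num) (by exact_mod_cast hn)
    linarith
  have one : ∀ {p n m : ℕ}, 3 ≤ n → 3 ≤ m → (n = 3 ∨ 7 ≤ n) → (m = 3 ∨ 7 ≤ m) → 1 + p = n + m →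
      (8 : ℚ) / 15 ≤ 1 + 1 / (p : ℚ) - 1 / (n : ℚ) - 1 / (m : ℚ) := by
    intro p n m hn hm hn' hm' he
    have hp0 : (0 : ℚ) ≤ 1 / (p : ℚ) := by positivity
    have hn3 : 1 / (n : ℚ) ≤ 1 / 3 := one_div_le_of_le (by norm_num) (by exact_mod_cast hn)
    have hm3 : 1 / (m : ℚ) ≤ 1 / 3 := one_div_le_of_le (by norm_num) (by exact_mod_cast hm)
    rcases hn' with rfl | hn7 <;> rcases hm' with rfl | hm7
    · obtain rfl : p = 5 := by omega
      norm_num
    · obtain rfl : p = m + 2 := by omega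
      have hm0 : (0 : ℚ) < m := by exact_mod_cast (show 0 < m by omega)
      have hm7' : (7 : ℚ) ≤ m := by exact_mod_cast hm7
      have e : 1 / ((m + 2 : ℕ) : ℚ) - 1 / (m : ℚ) = -(2 / ((m : ℚ) * ((m : ℚ) + 2))) := by
        push_cast; field_simp; ring
      have : 2 / ((m : ℚ) * ((m : ℚ) + 2)) ≤ 2 / 63 :=
        div_le_div_of_nonneg_left (by norm_num) (by norm_num) (by nlinarith)
      push_cast at e ⊢
      linarith
    · obtain rfl : p = n + 2 := by omega
      have hn0 : (0 : ℚ) < n := by exact_mod_cast (show 0 < n by omega)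
      have hn7' : (7 : ℚ) ≤ n := by exact_mod_cast hn7
      have e : 1 / ((n + 2 : ℕ) : ℚ) - 1 / (n : ℚ) = -(2 / ((n : ℚ) * ((n : ℚ) + 2))) := by
        push_cast; field_simp; ring
      have : 2 / ((n : ℚ) * ((n : ℚ) + 2)) ≤ 2 / 63 :=
        div_le_div_of_nonneg_left (by norm_num) (by norm_num) (by nlinarith)
      push_cast at e ⊢
      linarith
    · have h1 : 1 / (n : ℚ) ≤ 1 / 7 := one_div_le_of_le (by norm_num) (by exact_mod_cast hn7)
      have h2 : 1 / (m : ℚ) ≤ 1 / 7 := one_div_le_of_le (by norm_num) (by exact_mod_cast hm7)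
      linarith
  rcases hx with rfl | rfl <;> rcases hy with rfl | rfl <;> rcases hz with rfl | rfl
  · omega
  · have := two (p := a) (q := b) (n := c) ha hb (by omega)
    push_cast; linear_combination this
  · have := two (p := a) (q := c) (n := b) ha hc (by omega)
    push_cast; linear_combination this
  · have := one (p := a) (n := b) (m := c) (by omega) (by omega) (by omega) (by omega) (by omega)
    push_cast; linear_combination this
  · have := two (p := b) (q := c) (n := a) hb hc (by omega)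
    push_cast; linear_combination this
  · have := one (p := b) (n := a) (m := c) (by omega) (by omega) (by omega) (by omega) (by omega)
    push_cast; linear_combination this
  · have := one (p := c) (n := a) (m := b) (by omega) (by omega) (by omega) (by omega) (by omega)
    push_cast; linear_combination this
  · omega

universe u

variable {G : Type u} [Group G] [Finite G] {t r s : G}

theorem Hyp.card_centralizer_fourV (h : Hyp t r s) :
    Nat.card (centralizer (fourV t r : Set G)) = Nat.card (coreW t r) * 4 := by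
  have hV : fourV t r ≤ centralizer (fourV t r : Set G) := by
    refine fun x hx => mem_centralizer_fourV.2 ?_
    rcases h.mem_iff.1 hx with rfl | rfl | rfl | rfl
    exacts [⟨Commute.one_left _, Commute.one_left _⟩, ⟨Commute.refl _, h.comm⟩, ⟨h.comm.symm, Commute.refl _⟩,
      ⟨(Commute.refl t).mul_left h.comm.symm, h.comm.mul_left (Commute.refl r)⟩]
  rw [← h.card_fourV, ← Nat.card_prod]
  refine (Nat.card_congr (Equiv.ofBijective
    (fun p : coreW t r × fourV t r => (⟨(p.1 : G) * p.2, mul_mem (h.coreW_le_centralizer p.1.2) (hV p.2.2)⟩ :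
      centralizer (fourV t r : Set G))) ⟨?_, ?_⟩)).symm
  · rintro ⟨w, v⟩ ⟨w', v'⟩ e
    have e' : (w : G) * v = (w' : G) * v' := congrArg Subtype.val e
    have hu : (w' : G)⁻¹ * w = (v' : G) * (v : G)⁻¹ := by
      rw [inv_mul_eq_iff_eq_mul, ← mul_assoc, ← e', mul_inv_cancel_right]
    have hmem : (w' : G)⁻¹ * w ∈ fourV t r := by rw [hu]; exact mul_mem v'.2 (inv_mem v.2)
    have h1 : (w' : G)⁻¹ * w = 1 := h.coreU_disjoint
      (coreW_le_coreU t r (mul_mem (inv_mem w'.2) w.2)) (by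
        rcases h.mem_iff.1 hmem with k | k | k | k <;>
          simp [k, h.mul_self_t, h.mul_self_r, Involution.mul_self h.order_mul])
    have hw : (w : G) = w' := (inv_mul_eq_one.1 h1).symm
    rw [hw] at e'
    exact Prod.ext (Subtype.ext hw) (Subtype.ext (mul_left_cancel e'))
  · rintro ⟨g, hg⟩
    obtain ⟨u, hu, v, hv, rfl⟩ := h.exists_mul_fourV
      (mem_centralizer_singleton_iff.2 (mem_centralizer_fourV.1 hg).1.eq)
    have huC : u ∈ centralizer (fourV t r : Set G) := by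
      simpa using mul_mem hg (inv_mem (hV hv))
    exact ⟨(⟨u, h.mem_coreW_of_odd huC (h.odd_orderOf hu)⟩, ⟨v, hv⟩), rfl⟩

theorem Hyp.orderFormula (h : Hyp t r s) : OrderFormula t r := by
  classical
  obtain ⟨P, hP⟩ := h.sylow
  haveI : IsKleinFour (P : Subgroup G) := by rw [hP]; exact h.isKleinFour
  have hone : ∀ a b : G, orderOf a = 2 → orderOf b = 2 → IsConj a b := fun a b ha hb =>
    (h.isConj_t ha).symm.trans (h.isConj_t hb)
  obtain ⟨M, hM⟩ := Blocks.exists_isPModular (p := 2) Nat.prime_two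
  obtain ⟨sg, B, hB, hB4, hunit, hval, hmod, -⟩ := KleinBlock.signs P hM hone
  set one : IrrCharacter G := ⟨fun _ => 1, Char.isIrrCharacter_one⟩
  have honeB : one ∈ B := (hB one).2 (Blocks.mem_blockOf_self hM one)
  obtain ⟨χ₁, χ₂, χ₃, h12, h13, h23, he⟩ := Finset.card_eq_three.1
    (show (B.erase one).card = 3 by rw [Finset.card_erase_of_mem honeB, hB4])
  have hmemB : ∀ χ, χ ∈ B ↔ χ = one ∨ χ = χ₁ ∨ χ = χ₂ ∨ χ = χ₃ := fun χ => by
    have hh : χ ∈ B.erase one ↔ χ = χ₁ ∨ χ = χ₂ ∨ χ = χ₃ := by rw [he]; simp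
    rw [Finset.mem_erase] at hh
    by_cases hχ : χ = one
    · simp [hχ, honeB]
    · simp only [ne_eq, hχ, not_false_eq_true, true_and] at hh
      simp [hχ, hh]
  have hne : ∀ χ : IrrCharacter G, χ ∈ B.erase one → (χ : G → ℂ) ≠ fun _ => 1 := fun χ hχ e =>
    (Finset.mem_erase.1 hχ).1 (Subtype.ext e)
  have hin : ∀ χ, χ = χ₁ ∨ χ = χ₂ ∨ χ = χ₃ → χ ∈ B := fun χ hχ => (hmemB χ).2 (Or.inr hχ)
  obtain ⟨h1, h2, h4a, h4b, h4c⟩ := KleinOrder.order_formula P (x := t) h.order_t (hP ▸ left_mem_fourV t r) hone hM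
    (χ₁ := χ₁) (χ₂ := χ₂) (χ₃ := χ₃) (ε₁ := sg χ₁) (ε₂ := sg χ₂) (ε₃ := sg χ₃)
    (Set.ext fun χ => by
      rw [← hB χ, hmemB χ, Set.mem_ofPred_eq]
      exact or_congr_left (Subtype.ext_iff (a1 := χ) (a2 := one)))
    ⟨hne χ₁ (by simp [he]), hne χ₂ (by simp [he]), hne χ₃ (by simp [he]), h12, h13, h23⟩
    ⟨hval χ₁ (hin _ (by simp)) t h.order_t, hval χ₂ (hin _ (by simp)) t h.order_t,
      hval χ₃ (hin _ (by simp)) t h.order_t⟩
  refine ⟨_, sign_sum_bound (hunit χ₁ (hin _ (by simp))) (hunit χ₂ (hin _ (by simp))) (hunit χ₃ (hin _ (by simp)))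
    (ClassCount.charDegree_pos χ₁) (ClassCount.charDegree_pos χ₂) (ClassCount.charDegree_pos χ₃) h4a h4b h4c h2, ?_⟩
  rw [hP] at h1
  have hle : centralizer (fourV t r : Set G) ≤ centralizer ({t} : Set G) := fun g hg =>
    mem_centralizer_singleton_iff.2 (mem_centralizer_fourV.1 hg).1.eq
  have hrel : (centralizer (fourV t r : Set G)).relIndex (centralizer ({t} : Set G)) * Nat.card (coreW t r) =
      Nat.card (coreU t) := by
    have e := relIndex_mul_relIndex ⊥ _ _ bot_le hle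
    rw [relIndex_bot_left, relIndex_bot_left, h.card_centralizer_fourV, h.card_centralizer] at e
    apply Nat.eq_of_mul_eq_mul_left (show 0 < 4 by norm_num)
    rw [← e]; ring
  have hG : Nat.card G = 4 * Nat.card (coreU t) * (centralizer ({t} : Set G)).index := by
    rw [← h.card_centralizer, card_mul_index]
  have hrel' : ((centralizer (fourV t r : Set G)).relIndex (centralizer ({t} : Set G)) : ℚ) *
      Nat.card (coreW t r) = Nat.card (coreU t) := by exact_mod_cast hrel
  rw [hG]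
  push_cast
  rw [← hrel']
  linear_combination (-(4 : ℚ) * ((centralizer (fourV t r : Set G)).relIndex (centralizer ({t} : Set G)) : ℚ) *
    (Nat.card (coreW t r) : ℚ) ^ 3) * h1

end Cfsg.Agent.GWKlein
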