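import Cfsg.Agent.Lib.GWKlein.Mixed
import Cfsg.Agent.Lib.GWKlein.Setup
import Cfsg.Agent.Lib.GWKlein.General.Count
import Cfsg.Agent.Lib.DegThreeP.Four

/-!
# Gorenstein-Walter, Klein case: the ratio lemma

* `Hyp.wielandt`: `|K| |C_K(V)|² = |C_K(t)| |C_K(r)| |C_K(tr)|` for invariant `K` of odd order
* `Hyp.ratioLemma`: no solvable overgroup of `C(t)` moves `t`, given the order formula
-/

set_option autoImplicit false

namespace Cfsg.Agent.GWKlein

open Subgroup
open scoped Pointwise

universe u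

variable {G : Type u} [Group G] [Finite G] {t r s : G}

/-- The formula of Brauer and Wielandt inside `G`. -/
theorem Hyp.wielandt (h : Hyp t r s) {K : Subgroup G} (hK : Odd (Nat.card K))
    (hn : fourV t r ≤ normalizer (K : Set G)) :
    Nat.card K * Nat.card (K ⊓ centralizer ({t} : Set G) ⊓ centralizer ({r} : Set G) : Subgroup G) ^ 2 =
      Nat.card (K ⊓ centralizer ({t} : Set G) : Subgroup G) *
        Nat.card (K ⊓ centralizer ({r} : Set G) : Subgroup G) *
          Nat.card (K ⊓ centralizer ({t * r} : Set G) : Subgroup G) := by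
  set t' : normalizer (K : Set G) := ⟨t, hn (left_mem_fourV t r)⟩
  set r' : normalizer (K : Set G) := ⟨r, hn (right_mem_fourV t r)⟩
  set α : MulAut K := K.normalizerMonoidHom t'
  set β : MulAut K := K.normalizerMonoidHom r'
  have hfix : ∀ (v : normalizer (K : Set G)) (x : K), K.normalizerMonoidHom v x = x ↔
      (x : G) ∈ centralizer ({(v : G)} : Set G) := by
    intro v x
    rw [mem_centralizer_singleton_iff]
    constructor
    · intro e
      exact (mul_inv_eq_iff_eq_mul.1 (congrArg Subtype.val e : (v : G) * x * (v : G)⁻¹ = x)).symm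
    · intro e
      exact Subtype.ext (mul_inv_eq_iff_eq_mul.2 e.symm)
  have hmap : ∀ (v : normalizer (K : Set G)), Nat.card (DegThreeP.fixAut (K.normalizerMonoidHom v)) =
      Nat.card (K ⊓ centralizer ({(v : G)} : Set G) : Subgroup G) := fun v => by
    rw [← card_map_of_injective (K := DegThreeP.fixAut (K.normalizerMonoidHom v)) K.subtype_injective]
    refine congrArg (fun S : Subgroup G => Nat.card S) ?_
    ext x
    constructor
    · rintro ⟨y, hy, rfl⟩
      exact ⟨y.2, (hfix v y).1 hy⟩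
    · rintro ⟨hx, hc⟩
      exact ⟨⟨x, hx⟩, (hfix v ⟨x, hx⟩).2 hc, rfl⟩
  have hboth : Nat.card (DegThreeP.fixAut α ⊓ DegThreeP.fixAut β : Subgroup K) =
      Nat.card (K ⊓ centralizer ({t} : Set G) ⊓ centralizer ({r} : Set G) : Subgroup G) := by
    rw [← card_map_of_injective (K := DegThreeP.fixAut α ⊓ DegThreeP.fixAut β) K.subtype_injective]
    refine congrArg (fun S : Subgroup G => Nat.card S) ?_
    ext x
    constructor
    · rintro ⟨y, hy, rfl⟩
      exact ⟨⟨y.2, (hfix t' y).1 hy.1⟩, (hfix r' y).1 hy.2⟩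
    · rintro ⟨⟨hx, hc⟩, hd⟩
      exact ⟨⟨x, hx⟩, ⟨(hfix t' ⟨x, hx⟩).2 hc, (hfix r' ⟨x, hx⟩).2 hd⟩, rfl⟩
  have ht2 : t' * t' = 1 := Subtype.ext h.mul_self_t
  have hr2 : r' * r' = 1 := Subtype.ext h.mul_self_r
  have hc : Commute t' r' := Subtype.ext h.comm.eq
  have hw := DegThreeP.wielandt_four hK α β (by rw [← map_mul, ht2, map_one]) (by rw [← map_mul, hr2, map_one])
    (hc.map _)
  rw [hboth, ← map_mul, hmap, hmap, hmap] at hw
  exact hw

/-- An element of an odd subgroup normalised by the four-group which normalises it centralises it. -/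
theorem Hyp.mem_centralizer_fourV_of_odd (h : Hyp t r s) {K : Subgroup G} (hK : Odd (Nat.card K))
    (hn : fourV t r ≤ normalizer (K : Set G)) {x : G} (hx : x ∈ K)
    (hxn : x ∈ normalizer (fourV t r : Set G)) : x ∈ centralizer (fourV t r : Set G) := by
  refine mem_centralizer_iff.2 fun v hv => ?_
  have h1 : x * v * x⁻¹ * v⁻¹ ∈ fourV t r :=
    mul_mem ((mem_normalizer_iff.1 hxn v).1 hv) (inv_mem hv)
  have h2 : x * v * x⁻¹ * v⁻¹ ∈ K := by
    rw [show x * v * x⁻¹ * v⁻¹ = x * (v * x⁻¹ * v⁻¹) by group]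
    exact mul_mem hx ((mem_normalizer_iff.1 (hn hv) _).1 (inv_mem hx))
  exact (mul_inv_eq_iff_eq_mul.1 (mul_inv_eq_one.1 (Coprime.eq_one_of_mem_of_mem
    (h.coprime_of_odd hK) h1 h2))).symm

/-- **The ratio lemma**: no solvable subgroup over `C(t)` moves `t`, given the order formula. -/
theorem Hyp.ratioLemma [IsSimpleGroup G] (h : Hyp t r s) (hF : OrderFormula t r) : RatioLemma t r := by
  intro hne H hs hC m hmH hmt
  obtain ⟨S₀, h8, hS⟩ := hF
  haveI := h.isKleinFour
  have hVH : fourV t r ≤ H := h.fourV_le_centralizer_t.trans hC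
  have hUH : coreU t ≤ H := (coreU_le_centralizer t).trans hC
  set O := oddPart H with hO
  have hOn : fourV t r ≤ normalizer (O : Set G) := hVH.trans (le_normalizer_oddPart H)
  have hUO : coreU t ≤ O := h.odd_le_oddPart hs hVH hUH h.odd_coreU h.fourV_le_normalizer_coreU
  have hWO : coreW t r ≤ O := (coreW_le_coreU t r).trans hUO
  obtain ⟨o, ho, n, hnH, hn, hmn⟩ := h.exists_eq_mul hs hVH hmH
  have hnt : n * t * n⁻¹ ≠ t := by
    intro e
    have e1 : o * t * o⁻¹ = r := by
      rw [← hmt, hmn, show o * n * t * (o * n)⁻¹ = o * (n * t * n⁻¹) * o⁻¹ by group, e]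
    have e2 : r * t⁻¹ ∈ O := by
      rw [← e1, show o * t * o⁻¹ * t⁻¹ = o * (t * o⁻¹ * t⁻¹) by group]
      exact mul_mem ho ((mem_normalizer_iff.1 (hOn (left_mem_fourV t r)) _).1 (inv_mem ho))
    have e3 := Coprime.eq_one_of_mem_of_mem (h.coprime_of_odd (odd_card_oddPart H))
      (mul_mem (right_mem_fourV t r) (inv_mem (left_mem_fourV t r))) e2
    exact h.ne (mul_inv_eq_one.1 e3).symm
  -- rotation inside `N = H ∩ N(V)`
  set N := H ⊓ normalizer (fourV t r : Set G) with hN
  obtain ⟨k, hk, hkt⟩ := h.exists_moving (H := N) ⟨hnH, hn⟩ hn hnt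
  have hkV : ∀ x ∈ fourV t r, k * x * k⁻¹ ∈ fourV t r := fun x hx => (mem_normalizer_iff.1 hk.2 x).1 hx
  have hkr : k * r * k⁻¹ = t * r := by
    rcases h.mem_iff.1 (hkV r (right_mem_fourV t r)) with e | e | e | e
    · exact absurd e (by simpa using h.ne_one_r)
    · exfalso
      -- the swap is impossible
      have h1 : s⁻¹ * k * t * (s⁻¹ * k)⁻¹ = t := by
        rw [show s⁻¹ * k * t * (s⁻¹ * k)⁻¹ = s⁻¹ * (k * t * k⁻¹) * s by group, hkt, ← h.conj_t]
        group
      have h2 : s⁻¹ * k * r * (s⁻¹ * k)⁻¹ = t * r := by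
        rw [show s⁻¹ * k * r * (s⁻¹ * k)⁻¹ = s⁻¹ * (k * r * k⁻¹) * s by group, e]
        calc s⁻¹ * t * s = s⁻¹ * (s * (t * r) * s⁻¹) * s := by rw [h.conj_mul]
          _ = t * r := by group
      have h3 := h.commute_r_of_normalizer (mem_centralizer_singleton_iff.2 (mul_inv_eq_iff_eq_mul.1 h1))
        (mul_mem (inv_mem h.conj_s_mem_fourV) hk.2)
      rw [h3] at h2
      exact h.ne_one_t (mul_eq_right.1 h2.symm)
    · exact absurd ((MulAut.conj k).injective (by simpa using e.trans hkt.symm)) h.ne.symm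
    · exact e
  have hkO : O.map (MulAut.conj k).toMonoidHom = O := by
    rw [← PLocal.mem_normalizer_iff_map_eq]
    exact le_normalizer_oddPart H hk.1
  have hshift : ∀ v w : G, k * v * k⁻¹ = w →
      Nat.card (O ⊓ centralizer ({w} : Set G) : Subgroup G) = Nat.card (O ⊓ centralizer ({v} : Set G) : Subgroup G) := by
    intro v w e
    rw [← card_map_of_injective (K := O ⊓ centralizer ({v} : Set G)) (f := (MulAut.conj k).toMonoidHom)
      (MulAut.conj k).injective]
    refine congrArg (fun S : Subgroup G => Nat.card S) ?_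
    ext x
    constructor
    · rintro ⟨hx, hc⟩
      have hx' : k⁻¹ * x * k ∈ O := by
        rw [← hkO] at hx
        obtain ⟨y, hy, rfl⟩ := hx
        simpa [MulAut.conj_apply, mul_assoc] using hy
      refine ⟨k⁻¹ * x * k, ⟨hx', mem_centralizer_singleton_iff.2 ?_⟩, by simp [MulAut.conj_apply, mul_assoc]⟩
      have hc' := mem_centralizer_singleton_iff.1 hc
      rw [← e] at hc'
      calc k⁻¹ * x * k * v = k⁻¹ * (x * (k * v * k⁻¹)) * k := by group
        _ = k⁻¹ * (k * v * k⁻¹ * x) * k := by rw [hc']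
        _ = v * (k⁻¹ * x * k) := by group
    · rintro ⟨y, ⟨hy, hc⟩, rfl⟩
      refine ⟨hkO ▸ ⟨y, hy, rfl⟩, mem_centralizer_singleton_iff.2 ?_⟩
      have hc' := mem_centralizer_singleton_iff.1 hc
      rw [← e]
      show k * y * k⁻¹ * (k * v * k⁻¹) = k * v * k⁻¹ * (k * y * k⁻¹)
      calc k * y * k⁻¹ * (k * v * k⁻¹) = k * (y * v) * k⁻¹ := by group
        _ = k * (v * y) * k⁻¹ := by rw [hc']
        _ = _ := by group
  have hOt : O ⊓ centralizer ({t} : Set G) = coreU t := le_antisymm (fun x hx => h.mem_coreU.2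
    ⟨mem_centralizer_singleton_iff.1 hx.2, (odd_card_oddPart H).of_dvd_nat (orderOf_dvd_natCard _ hx.1)⟩)
    (le_inf hUO (coreU_le_centralizer t))
  have hOtr : O ⊓ centralizer ({t} : Set G) ⊓ centralizer ({r} : Set G) = coreW t r := by rw [hOt]; rfl
  have hw := h.wielandt (odd_card_oddPart H) hOn
  rw [← hO, hOtr, hshift r (t * r) hkr, hshift t r hkt, hOt] at hw
  -- lower bound for `|H|`
  have hsub : ((O : Set G) * (N : Set G)) ⊆ (H : Set G) := by
    rintro _ ⟨a, ha, b, hb, rfl⟩
    exact mul_mem (oddPart_le H ha) hb.1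
  have hON : O ⊓ N ≤ coreW t r := fun x hx => h.mem_coreW_of_odd
    (h.mem_centralizer_fourV_of_odd (odd_card_oddPart H) hOn hx.1 hx.2.2)
    ((odd_card_oddPart H).of_dvd_nat (orderOf_dvd_natCard _ hx.1))
  have hWn : fourV t r ≤ normalizer (coreW t r : Set G) := by
    intro v hv
    refine Coprime.mem_normalizer_of_forall fun x hx => ?_
    rw [mem_centralizer_iff.1 (h.coreW_le_centralizer hx) v hv, mul_inv_cancel_right]
    exact hx
  have h4w : 4 * Nat.card (coreW t r) ≤ Nat.card (N ⊓ centralizer ({t} : Set G) : Subgroup G) := by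
    have hle : coreW t r ⊔ fourV t r ≤ N ⊓ centralizer ({t} : Set G) := by
      refine sup_le (le_inf (le_inf ((coreW_le_coreU t r).trans hUH) fun x hx => ?_)
        ((coreW_le_coreU t r).trans (coreU_le_centralizer t))) (le_inf (le_inf hVH le_normalizer) h.fourV_le_centralizer_t)
      exact Coprime.mem_normalizer_of_forall fun v hv => by
        rw [← mem_centralizer_iff.1 (h.coreW_le_centralizer hx) v hv, mul_inv_cancel_right]
        exact hv
    refine le_trans (le_of_eq ?_) (card_le_of_le hle)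
    rw [Coprime.card_sup_of_coprime hWn (Nat.Coprime.symm (h.coprime_of_odd
      (h.odd_coreU.of_dvd_nat (card_dvd_of_le (coreW_le_coreU t r))))), h.card_fourV, mul_comm]
  have h3 : 3 ≤ Nat.card (conjSet N t) := by
    have hkk : k * k * t * (k * k)⁻¹ = t * r := by
      rw [show k * k * t * (k * k)⁻¹ = k * (k * t * k⁻¹) * k⁻¹ by group, hkt, hkr]
    have hsub3 : ({t, r, t * r} : Set G) ⊆ conjSet N t := by
      rintro x (rfl | rfl | rfl)
      · exact self_mem_conjSet N _
      · exact ⟨k, hk, hkt⟩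
      · exact ⟨k * k, mul_mem hk hk, hkk⟩
    have hc3 : ({t, r, t * r} : Set G).ncard = 3 := by
      rw [Set.ncard_insert_of_notMem, Set.ncard_pair]
      · intro e; exact h.ne_one_t (mul_eq_right.1 e.symm)
      · simp only [Set.mem_insert_iff, Set.mem_singleton_iff, not_or]
        exact ⟨h.ne, fun e => h.ne_one_r (mul_eq_left.1 e.symm)⟩
    rw [Nat.card_coe_set_eq, ← hc3]
    exact Set.ncard_le_ncard hsub3 (Set.toFinite _)
  have hNcard : 12 * Nat.card (coreW t r) ≤ Nat.card N := by
    rw [← card_conjSet_mul N t]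
    calc 12 * Nat.card (coreW t r) = 3 * (4 * Nat.card (coreW t r)) := by ring
      _ ≤ _ := Nat.mul_le_mul h3 h4w
  have hH12 : 12 * Nat.card O ≤ Nat.card H := by
    have h1 := Coprime.card_mul_inf O N
    have h2 : Nat.card ((O : Set G) * (N : Set G) : Set G) ≤ Nat.card H :=
      Nat.card_mono (Set.toFinite _) hsub
    have h5 : Nat.card (O ⊓ N : Subgroup G) ≤ Nat.card (coreW t r) := card_le_of_le hON
    have hpos : 0 < Nat.card (coreW t r) := Nat.card_pos
    have h6 : Nat.card O * (12 * Nat.card (coreW t r)) ≤ Nat.card H * Nat.card (coreW t r) := by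
      calc Nat.card O * (12 * Nat.card (coreW t r)) ≤ Nat.card O * Nat.card N := Nat.mul_le_mul_left _ hNcard
        _ = _ := h1.symm
        _ ≤ _ := Nat.mul_le_mul h2 h5
    rw [← mul_assoc, mul_comm (Nat.card O) 12] at h6
    exact Nat.le_of_mul_le_mul_right h6 hpos
  -- upper bound for `|G|`
  have hG60 : Nat.card G ≤ 60 * Nat.card O := by
    have hw' : (Nat.card O : ℚ) * (Nat.card (coreW t r) : ℚ) ^ 2 = (Nat.card (coreU t) : ℚ) ^ 3 := by
      rw [pow_succ _ 2, pow_two (Nat.card (coreU t) : ℚ)]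
      exact_mod_cast hw
    rw [← hw'] at hS
    have hwpos : (0 : ℚ) < (Nat.card (coreW t r) : ℚ) ^ 2 := by
      have : (0 : ℚ) < (Nat.card (coreW t r) : ℚ) := by exact_mod_cast Nat.card_pos
      positivity
    have h1 : (Nat.card G : ℚ) * S₀ = 32 * (Nat.card O : ℚ) := by
      refine mul_right_cancel₀ hwpos.ne' ?_
      linear_combination hS
    have hGpos : (0 : ℚ) ≤ (Nat.card G : ℚ) := Nat.cast_nonneg _
    have h2 : (Nat.card G : ℚ) * (8 / 15) ≤ 32 * (Nat.card O : ℚ) := h1 ▸ mul_le_mul_of_nonneg_left h8 hGpos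
    have h3 : (Nat.card G : ℚ) ≤ (60 * Nat.card O : ℕ) := by push_cast; linarith
    exact_mod_cast h3
  have hO3 : 3 ≤ Nat.card O := by
    have h1 : Nat.card (coreU t) ≠ 1 := fun e => hne (eq_bot_of_card_eq _ e)
    obtain ⟨j, hj⟩ := h.odd_coreU
    have := card_le_of_le hUO
    omega
  have hidx : H.index ≤ 5 := by
    have h1 := H.card_mul_index
    by_contra hc
    push Not at hc
    have : Nat.card H * 6 ≤ Nat.card G := h1 ▸ Nat.mul_le_mul_left _ hc
    omega
  -- the action on the cosets is faithful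
  have hns : ¬ Group.IsSolvable G :=
    not_isSolvable_of_simple (KleinSimple.not_abelian_of_klein (fourV t r) inferInstance)
  have hHtop : H ≠ ⊤ := fun e => hns (by
    haveI : Group.IsSolvable (⊤ : Subgroup G) := e ▸ hs
    exact Group.isSolvable_of_surjective (f := (topEquiv : (⊤ : Subgroup G) ≃* G).toMonoidHom) topEquiv.surjective)
  have hker : (MulAction.toPermHom G (G ⧸ H)).ker = ⊥ := by
    rw [← normalCore_eq_ker]
    refine ((inferInstance : H.normalCore.Normal).eq_bot_or_eq_top).resolve_right fun e => hHtop ?_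
    exact eq_top_iff.2 (e ▸ H.normalCore_le)
  have hle := Nat.card_le_card_of_injective _ ((MonoidHom.ker_eq_bot_iff _).1 hker)
  rw [Nat.card_perm] at hle
  change Nat.card G ≤ H.index.factorial at hle
  rw [← H.card_mul_index] at hle
  have h36 : 36 ≤ Nat.card H := by omega
  have h0 : 0 < H.index := Nat.pos_of_ne_zero index_ne_zero_of_finite
  interval_cases hidx' : H.index <;> simp [Nat.factorial] at hle ⊢ <;> omega

end Cfsg.Agent.GWKlein
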