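import Cfsg.Agent.Lib.GWKlein.SmallCharCount

/-!
# Gorenstein-Walter, Klein case: a character of small degree (owner: helper38)

GW_KLEIN.md, section 3: a non-trivial linear character of `W` gives an irreducible character `χ` of `G`
with `χ t = ±1` and degree at most 15, at most 7 if the linear character is invariant under `s`.

* `exists_small_char_of_formula`
-/

set_option autoImplicit false
set_option linter.style.haveILetI false

open scoped ComplexConjugate

namespace Cfsg.Agent.GWKlein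

open Cfsg Subgroup

section Arith

theorem small_arith_invariant (a N : Fin 4 → ℚ) (ha : ∀ i, a i = 1 ∨ a i = -1) (hN : ∀ i, 0 < N i)
    (h0 : ∑ i, a i * N i = 0) (hS : (8 : ℚ) / 15 ≤ ∑ i, a i / N i) : ∃ i, N i ≤ 7.5 := by
  by_contra hall
  push Not at hall
  have h1 : ∀ i, a i / N i ≤ (a i + 1) / 15 := fun i => by
    have hi := hall i
    rw [div_le_div_iff₀ (hN i) (by norm_num)]
    rcases ha i with e | e <;> rw [e] <;> norm_num <;> norm_num at hi <;> linarith
  have hneg : ∃ j, a j = -1 := by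
    by_contra hc
    push Not at hc
    have : 0 < ∑ i, a i * N i := Finset.sum_pos (fun i _ => by
      rw [(ha i).resolve_right (hc i), one_mul]; exact hN i) ⟨0, Finset.mem_univ _⟩
    linarith
  obtain ⟨j, hj⟩ := hneg
  have h2 : ∀ i, (a i + 1) / 15 ≤ (2 : ℚ) / 15 := fun i => by
    rcases ha i with e | e <;> rw [e] <;> norm_num
  have h3 : ∑ i, (a i + 1) / 15 ≤ ∑ i ∈ (Finset.univ.erase j), (2 : ℚ) / 15 := by
    rw [← Finset.sum_erase (a := j) (s := Finset.univ) (by rw [hj]; norm_num)]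
    exact Finset.sum_le_sum fun i _ => h2 i
  have h4 : ∑ i ∈ (Finset.univ.erase j), (2 : ℚ) / 15 = 6 / 15 := by
    rw [Finset.sum_const, Finset.card_erase_of_mem (Finset.mem_univ j)]
    norm_num
  have := Finset.sum_le_sum (s := Finset.univ) fun i _ => h1 i
  linarith

/-- Three pairwise orthogonal sign vectors and a positive vector orthogonal to them. -/
theorem small_arith_three (a b c N : Fin 4 → ℚ) (ha : ∀ i, a i = 1 ∨ a i = -1)
    (hb : ∀ i, b i = 1 ∨ b i = -1) (hc : ∀ i, c i = 1 ∨ c i = -1) (hN : ∀ i, 0 < N i)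
    (hab : ∑ i, a i * b i = 0) (hac : ∑ i, a i * c i = 0) (hbc : ∑ i, b i * c i = 0)
    (haN : ∑ i, a i * N i = 0) (hbN : ∑ i, b i * N i = 0) (hcN : ∑ i, c i * N i = 0)
    (hS : (8 : ℚ) / 15 ≤ ∑ i, a i * (a i + b i + c i) ^ 2 / N i) :
    ∃ i, a i + b i + c i = -1 ∧ N i ≤ 15 := by
  set f : Fin 4 → ℚ := fun i => a i * b i * c i with hf
  have sq : ∀ (x : Fin 4 → ℚ), (∀ i, x i = 1 ∨ x i = -1) → ∀ i, x i * x i = 1 := fun x hx i => by
    rcases hx i with e | e <;> rw [e] <;> norm_num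
  have hfv : ∀ i, f i = 1 ∨ f i = -1 := fun i => by
    rcases ha i with ea | ea <;> rcases hb i with eb | eb <;> rcases hc i with ec | ec <;>
      simp only [hf, ea, eb, ec] <;> norm_num
  have hone : ∀ (x : Fin 4 → ℚ), (∀ i, x i = 1 ∨ x i = -1) → ∑ i, x i * x i = 4 := fun x hx => by
    simp [sq x hx]
  have hfa : ∑ i, f i * a i = 0 := by
    rw [← hbc]; exact Finset.sum_congr rfl fun i _ => by linear_combination (b i * c i) * sq a ha i
  have hfb : ∑ i, f i * b i = 0 := by
    rw [← hac]; exact Finset.sum_congr rfl fun i _ => by linear_combination (a i * c i) * sq b hb i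
  have hfc : ∑ i, f i * c i = 0 := by
    rw [← hab]; exact Finset.sum_congr rfl fun i _ => by linear_combination (a i * b i) * sq c hc i
  have hsymm : ∀ x y : Fin 4 → ℚ, ∑ i, x i * y i = ∑ i, y i * x i := fun x y =>
    Finset.sum_congr rfl fun i _ => mul_comm _ _
  let H : Matrix (Fin 4) (Fin 4) ℚ := Matrix.of ![a, b, c, f]
  have h1 : H * ((1 / 4 : ℚ) • H.transpose) = 1 := by
    ext k l
    rw [Matrix.mul_smul, Matrix.smul_apply, Matrix.mul_apply]
    fin_cases k <;> fin_cases l <;> simp only [H, Matrix.transpose_apply, Matrix.of_apply] <;>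
      simp [hone a ha, hone b hb, hone c hc, hone f hfv, hab, hac, hbc, hfa, hfb, hfc, hsymm a f, hsymm b f,
        hsymm c f, hsymm b a, hsymm c a, hsymm c b]
  have h2 := mul_eq_one_comm.1 h1
  have hcol : ∀ i j, a i * a j + b i * b j + c i * c j + f i * f j = if i = j then (4 : ℚ) else 0 := by
    intro i j
    have := congrFun (congrFun h2 i) j
    rw [Matrix.smul_mul, Matrix.smul_apply, Matrix.mul_apply, Fin.sum_univ_four, Matrix.one_apply] at this
    simp [H] at this
    split_ifs at this ⊢ <;> linarith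
  set g := ∑ j, f j * N j with hg
  have hNi : ∀ i, 4 * N i = f i * g := fun i => by
    have : ∑ j, (a i * (a j * N j) + b i * (b j * N j) + c i * (c j * N j) + f i * (f j * N j)) = 4 * N i := by
      rw [Finset.sum_congr rfl (g := fun j => (if i = j then (4 : ℚ) else 0) * N j) fun j _ => by
        rw [← hcol i j]; ring]
      simp
    simp only [Finset.sum_add_distrib, ← Finset.mul_sum, haN, hbN, hcN, ← hg] at this
    linarith
  have hfeq : ∀ i, f i = f 0 ∧ N i = N 0 := fun i => by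
    have e1 := hNi i
    have e2 := hNi 0
    have p1 := hN i
    have p2 := hN 0
    rcases hfv i with ei | ei <;> rcases hfv 0 with e0 | e0 <;> rw [ei] at e1 ⊢ <;> rw [e0] at e2 ⊢ <;>
      refine ⟨?_, ?_⟩ <;> linarith
  have hsuma : ∑ i, a i = 0 := by
    have e : ∑ i, a i * N i = (∑ i, a i) * N 0 := by
      rw [Finset.sum_mul]; exact Finset.sum_congr rfl fun i _ => by rw [(hfeq i).2]
    rw [haN] at e
    exact (mul_eq_zero.1 e.symm).resolve_right (hN 0).ne'
  have hsumb : ∑ i, b i = 0 := by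
    have e : ∑ i, b i * N i = (∑ i, b i) * N 0 := by
      rw [Finset.sum_mul]; exact Finset.sum_congr rfl fun i _ => by rw [(hfeq i).2]
    rw [hbN] at e
    exact (mul_eq_zero.1 e.symm).resolve_right (hN 0).ne'
  have hsumc : ∑ i, c i = 0 := by
    have e : ∑ i, c i * N i = (∑ i, c i) * N 0 := by
      rw [Finset.sum_mul]; exact Finset.sum_congr rfl fun i _ => by rw [(hfeq i).2]
    rw [hcN] at e
    exact (mul_eq_zero.1 e.symm).resolve_right (hN 0).ne'
  have hsum : ∑ i, a i * (a i + b i + c i) ^ 2 / N i = 8 * f 0 / N 0 := by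
    have e : ∀ i, a i * (a i + b i + c i) ^ 2 / N i = (3 * a i + 2 * b i + 2 * c i + 2 * f 0) / N 0 := fun i => by
      rw [(hfeq i).2, ← (hfeq i).1, hf]
      congr 1
      linear_combination (a i + 2 * b i + 2 * c i) * sq a ha i + a i * sq b hb i + a i * sq c hc i
    simp only [e, ← Finset.sum_div, Finset.sum_add_distrib, ← Finset.mul_sum, hsuma, hsumb, hsumc]
    simp
    ring
  rw [hsum] at hS
  rcases hfv 0 with e0 | e0 <;> rw [e0] at hS
  swap
  · exfalso
    have : (8 : ℚ) * -1 / N 0 < 0 := div_neg_of_neg_of_pos (by norm_num) (hN 0)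
    linarith
  have hle : N 0 ≤ 15 := by
    rw [div_le_div_iff₀ (by norm_num) (hN 0)] at hS
    linarith
  have hneg : ∃ i, a i = -1 := by
    by_contra hn
    push Not at hn
    have : (0 : ℚ) < ∑ i, a i := Finset.sum_pos (fun i _ => by
      rw [(ha i).resolve_right (hn i)]; norm_num) ⟨0, Finset.mem_univ _⟩
    linarith
  obtain ⟨i, hi⟩ := hneg
  refine ⟨i, ?_, (hfeq i).2 ▸ hle⟩
  have hfi : a i * b i * c i = 1 := (hfeq i).1.trans e0
  rw [hi] at hfi ⊢
  rcases hb i with eb | eb <;> rcases hc i with ec | ec <;> rw [eb, ec] at hfi ⊢ <;>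
    first | (norm_num; done) | (norm_num at hfi)

end Arith

variable {G : Type*} [Group G] [Finite G] {t r s : G} {A : Subgroup G}

theorem hom_isClassFunction {H : Type*} [Group H] [Finite H] (l : H →* ℂ) : IsClassFunction H l :=
  Char.IsCharacter.isClassFunction (Char.isCharacter_of_hom l)

/-- The cube of `s` fixes every linear character of `W`. -/
theorem apply_s_cube (h : Hyp t r s) (θ : coreW t r →* ℂˣ) (v v' : coreW t r)
    (hv : (v' : G) = s * (s * (s * v * s⁻¹) * s⁻¹) * s⁻¹) : θ v' = θ v := by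
  have ht : Commute (s * s * s) t := by
    refine mul_inv_eq_iff_eq_mul.1 ?_
    calc s * s * s * t * (s * s * s)⁻¹ = s * (s * (s * t * s⁻¹) * s⁻¹) * s⁻¹ := by group
      _ = _ := by rw [h.conj_t, h.conj_r, h.conj_mul]
  have hr : Commute (s * s * s) r := by
    refine mul_inv_eq_iff_eq_mul.1 ?_
    calc s * s * s * r * (s * s * s)⁻¹ = s * (s * (s * r * s⁻¹) * s⁻¹) * s⁻¹ := by group
      _ = _ := by rw [h.conj_r, h.conj_mul, h.conj_t]
  obtain ⟨u, hu, w, hw, e⟩ := h.exists_mul_fourV (mem_centralizer_singleton_iff.2 ht.eq)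
  have hwr : Commute w r := by
    rcases h.mem_iff.1 hw with rfl | rfl | rfl | rfl
    exacts [Commute.one_left _, h.comm, Commute.refl _, h.comm.mul_left (Commute.refl _)]
  have hur : Commute u r := by
    have e' : u = s * s * s * w⁻¹ := by rw [e, mul_inv_cancel_right]
    rw [e']
    exact hr.mul_left hwr.inv_left
  have huW : u ∈ coreW t r := ⟨hu, mem_centralizer_singleton_iff.2 hur.eq⟩
  have hwv : w * v * w⁻¹ = v := by
    rw [mem_centralizer_iff.1 (h.coreW_le_centralizer v.2) w hw, mul_inv_cancel_right]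
  have : v' = ⟨u, huW⟩ * v * (⟨u, huW⟩)⁻¹ := Subtype.ext (by
    rw [hv, show s * (s * (s * (v : G) * s⁻¹) * s⁻¹) * s⁻¹ = (s * s * s) * v * (s * s * s)⁻¹ by group, e,
      show u * w * (v : G) * (u * w)⁻¹ = u * (w * v * w⁻¹) * u⁻¹ by group, hwv, coe_mul, coe_mul, coe_inv])
  rw [this, map_mul, map_mul, mul_right_comm, ← map_mul, mul_inv_cancel, map_one, one_mul]

variable [Fintype G] [Fintype (coreU t)] [Fintype (IrrCharacter G)]

/-- The coefficient function of the extension of a non-trivial linear character. -/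
theorem exists_coefFun (h : Hyp t r s) (hS : Split t r A) (deg : IrrCharacter G → ℕ)
    (hdeg : ∀ χ : IrrCharacter G, 0 < deg χ ∧ (χ : G → ℂ) 1 = deg χ) {l : coreU t →* ℂ}
    (hA : ∀ a : coreU t, (a : G) ∈ A → l a = 1) (hl : l ≠ 1) :
    ∃ a : IrrCharacter G → ℤ, (∀ χ : IrrCharacter G, classInner (tFun t (χ : G → ℂ)) l = a χ) ∧
      (∀ χ, a χ = 0 ∨ a χ = 1 ∨ a χ = -1) ∧ ∑ χ, a χ ^ 2 = 4 ∧ ∑ χ, (a χ : ℚ) * deg χ = 0 ∧
      ∀ χ : IrrCharacter G, a χ ≠ 0 → (χ : G → ℂ) ≠ 1 := by
  classical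
  have hex : ∀ χ : IrrCharacter G, ∃ a : ℤ, classInner (tFun t (χ : G → ℂ)) l = a := fun χ => by
    obtain ⟨a, -, ha, -⟩ := exists_coef h.mul_self_t (Char.IsIrrCharacter.isCharacter χ.2)
      (Char.isCharacter_of_hom l)
    exact ⟨a, ha⟩
  choose a ha using hex
  have hl' := fun c hc ρ y hy => hS.apply_conj h hA (c := c) hc ρ y hy
  have h4 : ∑ χ, a χ ^ 2 = 4 := by
    have := orth_coef h l l hl'
    rw [Char.classInner_irr_self (Char.isIrrCharacter_of_hom l), mul_one] at this
    simp only [ha, map_intCast] at this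
    simp only [pow_two]
    exact_mod_cast this
  have h0 : ∑ χ, a χ * deg χ = 0 := by
    have := sum_degree_coef h (l : coreU t → ℂ)
    simp only [ha, fun χ => (hdeg χ).2] at this
    exact_mod_cast this
  refine ⟨a, ha, fun χ => ?_, h4, by exact_mod_cast h0, fun χ hne e => hne ?_⟩
  · have hle : a χ ^ 2 ≤ 4 := by
      rw [← h4]; exact Finset.single_le_sum (fun i _ => sq_nonneg (a i)) (Finset.mem_univ χ)
    by_contra hc
    push Not at hc
    have h22 : a χ ^ 2 = 4 := by
      have : a χ ≤ 2 := by nlinarith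
      have : -2 ≤ a χ := by nlinarith
      have : a χ = 2 ∨ a χ = -2 := by omega
      rcases this with e | e <;> rw [e] <;> norm_num
    have hrest : ∀ i ∈ Finset.univ.erase χ, a i = 0 := by
      rw [← Finset.add_sum_erase _ _ (Finset.mem_univ χ), h22, add_eq_left,
        Finset.sum_eq_zero_iff_of_nonneg fun i _ => sq_nonneg _] at h4
      exact fun i hi => pow_eq_zero_iff two_ne_zero |>.1 (h4 i hi)
    rw [← Finset.add_sum_erase _ _ (Finset.mem_univ χ),
      Finset.sum_eq_zero (s := Finset.univ.erase χ) fun i hi => by rw [hrest i hi, zero_mul], add_zero,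
      mul_eq_zero] at h0
    rcases h0 with e | e
    · exact hc.1 e
    · exact (hdeg χ).1.ne' (by exact_mod_cast e)
  · have := ha χ
    rw [e, coef_trivial hl] at this
    exact_mod_cast this.symm

variable [Fintype (coreW t r)]

/-- Coefficients at `θ` and at its conjugate by `s` are congruent. -/
theorem coef_congr (h : Hyp t r s) (hS : Split t r A) [Fintype A] {χ : G → ℂ} (hχ : IsIrrCharacter G χ)
    (θ θ' : coreW t r →* ℂˣ) (hθ : ∀ v v' : coreW t r, (v' : G) = s * v * s⁻¹ → θ' v = θ v')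
    {l l' : coreU t →* ℂ} (hA : ∀ a : coreU t, (a : G) ∈ A → l a = 1)
    (hW : ∀ (w : coreW t r) (x : coreU t), (x : G) = w → l x = (θ w : ℂ))
    (hA' : ∀ a : coreU t, (a : G) ∈ A → l' a = 1)
    (hW' : ∀ (w : coreW t r) (x : coreU t), (x : G) = w → l' x = (θ' w : ℂ)) {a a' : ℤ}
    (ha : classInner (tFun t χ) l = a) (ha' : classInner (tFun t χ) l' = a') : Even (a - a') := by
  classical
  have hc := Char.IsIrrCharacter.isCharacter hχ
  obtain ⟨a1, m, e1, e2, e3⟩ := exists_coef h.mul_self_t hc (Char.isCharacter_of_hom l)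
  obtain ⟨a1', m', e1', e2', e3'⟩ := exists_coef h.mul_self_t hc (Char.isCharacter_of_hom l')
  rw [ha] at e1
  rw [ha'] at e1'
  obtain rfl : a = a1 := by exact_mod_cast e1
  obtain rfl : a' = a1' := by exact_mod_cast e1'
  have hsum : ∑ w : coreW t r, χ w * conj (θ w : ℂ) = ∑ w : coreW t r, χ w * conj (θ' w : ℂ) := by
    let c : coreW t r → coreW t r := fun w => ⟨s * w * s⁻¹, h.s_conj_mem w.2⟩
    have hcb : Function.Bijective c := Finite.injective_iff_bijective.1 fun x y e =>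
      Subtype.ext (mul_left_cancel (mul_right_cancel (congrArg Subtype.val e)))
    rw [← hcb.sum_comp]
    refine Finset.sum_congr rfl fun w _ => ?_
    rw [hθ w (c w) rfl, Char.IsCharacter.isClassFunction hc (w : G) s |>.symm]
  have hd : Even2 ((((Nat.card (coreU t) : ℤ) * (m - m') : ℤ)) : ℂ) := by
    have := (linear_congr h hS hc θ hA hW).sub (linear_congr h hS hc θ' hA' hW')
    rw [e2, e2', hsum, sub_sub_sub_cancel_right] at this
    push_cast
    rwa [mul_sub]
  rw [Even2.intCast_iff, Int.even_mul, Int.even_coe_nat] at hd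
  have hmm := hd.resolve_left (Nat.not_even_iff_odd.2 h.odd_coreU)
  have := (e3.sub e3').add hmm
  rwa [show a - m - (a' - m') + (m - m') = a - a' by ring] at this

/-- At an invariant linear character with non-zero coefficient, `χ t` is the coefficient. -/
theorem apply_t_of_invariant (h : Hyp t r s) (hS : Split t r A) [Fintype A] (χ : IrrCharacter G)
    (θ : coreW t r →* ℂˣ) (hθ : ∀ v v' : coreW t r, (v' : G) = s * v * s⁻¹ → θ v' = θ v)
    {l : coreU t →* ℂ} (hA : ∀ a : coreU t, (a : G) ∈ A → l a = 1)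
    (hW : ∀ (w : coreW t r) (x : coreU t), (x : G) = w → l x = (θ w : ℂ)) {a : ℤ}
    (ha : classInner (tFun t (χ : G → ℂ)) l = a) (ha1 : a = 1 ∨ a = -1) : (χ : G → ℂ) t = a := by
  classical
  haveI := Fintype.ofFinite (IrrCharacter (coreU t))
  have hc := Char.IsIrrCharacter.isCharacter χ.2
  have hl := Char.isIrrCharacter_of_hom l
  set R : coreU t → ℂ := tFun t (χ : G → ℂ) - (a : ℂ) • (l : coreU t → ℂ) with hR
  have hRc : IsClassFunction (coreU t) R :=
    Char.isClassFunction_sub (tFun_isClassFunction (Char.IsIrrCharacter.isClassFunction χ.2))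
      (Char.isClassFunction_smul (hom_isClassFunction l) _)
  obtain ⟨n, hn, hn3⟩ := norm_tFun h χ
  have haa : (a : ℂ) * a = 1 := by rcases ha1 with rfl | rfl <;> norm_num
  have hRR : classInner R R = ((n - 1 : ℤ) : ℂ) := by
    rw [hR, Char.classInner_sub_left, Char.classInner_sub_right, Char.classInner_sub_right,
      Char.classInner_smul_left, Char.classInner_smul_left, Char.classInner_smul_right,
      Char.classInner_smul_right, ← Char.classInner_conj_symm (tFun t (χ : G → ℂ)) (l : coreU t → ℂ),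
      ha, hn, Char.classInner_irr_self hl]
    simp only [map_intCast]
    push_cast
    linear_combination -haa
  have hodd : Odd a := by rcases ha1 with rfl | rfl <;> decide
  obtain ⟨a1, ml, e1, e2, e3⟩ := exists_coef h.mul_self_t hc (Char.isCharacter_of_hom l)
  rw [ha] at e1
  obtain rfl : a = a1 := by exact_mod_cast e1
  have hml : Odd ml := by
    rw [Int.even_sub] at e3
    exact Int.not_even_iff_odd.1 fun e => (Int.not_even_iff_odd.2 hodd) (e3.2 e)
  have hb : ∀ φ : IrrCharacter (coreU t), ∃ b : ℤ, classInner R (φ : coreU t → ℂ) = b ∧ Even b := by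
    intro φ
    obtain ⟨af, mf, f1, f2, f3⟩ := exists_coef h.mul_self_t hc (Char.IsIrrCharacter.isCharacter φ.2)
    set d : ℤ := if (l : coreU t → ℂ) = φ then 1 else 0 with hd
    have hld : classInner (l : coreU t → ℂ) (φ : coreU t → ℂ) = (d : ℂ) := by
      rw [Char.classInner_irr hl φ.2, hd]; split_ifs <;> simp
    refine ⟨af - a * d, ?_, ?_⟩
    · rw [hR, Char.classInner_sub_left, Char.classInner_smul_left, f1, hld]; push_cast; rfl
    have hev : Even (mf - d) := coef_even h hS χ.2 θ hA hW (fun w => hθ w _ rfl) hml e2 φ.2 (by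
      rw [show (fun ρ => uFun t (χ : G → ℂ) ρ - l ρ) = uFun t (χ : G → ℂ) - (l : coreU t → ℂ) from rfl,
        Char.classInner_sub_left, f2, hld]
      push_cast; rfl)
    have h3 : Even ((1 - a) * d) := by
      refine Even.mul_right ?_ d
      rcases ha1 with rfl | rfl <;> decide
    have := (f3.add hev).add h3
    rwa [show af - mf + (mf - d) + (1 - a) * d = af - a * d by ring] at this
  choose b hbv hbe using hb
  have hsum : ∑ φ, b φ ^ 2 = n - 1 := by
    have := (Char.classInner_eq_sum hRc R).symm.trans hRR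
    simp only [hbv, map_intCast] at this
    simp only [pow_two]
    exact_mod_cast this
  have hz : ∀ φ, b φ = 0 := fun φ => by
    by_contra hne
    obtain ⟨k, hk⟩ := hbe φ
    have : b φ ^ 2 ≤ n - 1 := hsum ▸ Finset.single_le_sum (fun i _ => sq_nonneg (b i)) (Finset.mem_univ φ)
    have : k ≠ 0 := fun e => hne (by rw [hk, e]; rfl)
    have : 1 ≤ k ^ 2 := by have := sq_pos_iff.2 ‹k ≠ 0›; omega
    rw [hk] at *
    nlinarith
  have hR0 := congrFun (Char.eq_zero_of_forall_classInner_irr hRc fun φ => by rw [hbv, hz]; simp) 1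
  simp only [hR, Pi.sub_apply, Pi.smul_apply, tFun, coe_one, mul_one, map_one, smul_eq_mul, Pi.zero_apply] at hR0
  exact sub_eq_zero.1 hR0

omit [Fintype (coreW t r)] in
/-- Bessel with three linear characters. -/
theorem apply_t_of_three (h : Hyp t r s) (χ : IrrCharacter G) {l₁ l₂ l₃ : coreU t →* ℂ}
    (h12 : (l₁ : coreU t → ℂ) ≠ l₂) (h13 : (l₁ : coreU t → ℂ) ≠ l₃) (h23 : (l₂ : coreU t → ℂ) ≠ l₃)
    {a b c : ℤ} (ha : classInner (tFun t (χ : G → ℂ)) l₁ = a)
    (hb : classInner (tFun t (χ : G → ℂ)) l₂ = b) (hc : classInner (tFun t (χ : G → ℂ)) l₃ = c)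
    (h3 : a ^ 2 + b ^ 2 + c ^ 2 = 3) : (χ : G → ℂ) t = a + b + c := by
  classical
  obtain ⟨n, hn, hn3⟩ := norm_tFun h χ
  have i1 := Char.isIrrCharacter_of_hom l₁
  have i2 := Char.isIrrCharacter_of_hom l₂
  have i3 := Char.isIrrCharacter_of_hom l₃
  set T := tFun t (χ : G → ℂ) with hT
  have ha' : classInner (l₁ : coreU t → ℂ) T = a := by rw [← Char.classInner_conj_symm, ha, map_intCast]
  have hb' : classInner (l₂ : coreU t → ℂ) T = b := by rw [← Char.classInner_conj_symm, hb, map_intCast]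
  have hc' : classInner (l₃ : coreU t → ℂ) T = c := by rw [← Char.classInner_conj_symm, hc, map_intCast]
  set D : coreU t → ℂ := T - ((a : ℂ) • (l₁ : coreU t → ℂ) + (b : ℂ) • (l₂ : coreU t → ℂ) +
    (c : ℂ) • (l₃ : coreU t → ℂ)) with hD
  have hDD : classInner D D = ((n - (a ^ 2 + b ^ 2 + c ^ 2) : ℤ) : ℂ) := by
    simp only [hD, Char.classInner_sub_left, Char.classInner_sub_right, Char.classInner_add_left,
      Char.classInner_add_right, Char.classInner_smul_left, Char.classInner_smul_right, hn, ha, hb, hc,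
      ha', hb', hc', Char.classInner_irr_self i1, Char.classInner_irr_self i2, Char.classInner_irr_self i3,
      Char.classInner_irr_of_ne i1 i2 h12, Char.classInner_irr_of_ne i2 i1 h12.symm,
      Char.classInner_irr_of_ne i1 i3 h13, Char.classInner_irr_of_ne i3 i1 h13.symm,
      Char.classInner_irr_of_ne i2 i3 h23, Char.classInner_irr_of_ne i3 i2 h23.symm, map_intCast]
    push_cast
    ring
  have hn' : n - (a ^ 2 + b ^ 2 + c ^ 2) = 0 := by
    have := Char.classInner_self_re_nonneg D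
    rw [hDD, Complex.intCast_re] at this
    have : 0 ≤ n - (a ^ 2 + b ^ 2 + c ^ 2) := by exact_mod_cast this
    omega
  rw [hn', Int.cast_zero, Char.classInner_self_eq_zero] at hDD
  have := congrFun hDD 1
  simp only [hD, Pi.sub_apply, Pi.add_apply, Pi.smul_apply, hT, tFun, coe_one, mul_one, map_one, smul_eq_mul,
    Pi.zero_apply] at this
  exact sub_eq_zero.1 this

omit [Fintype (coreU t)] [Fintype (coreW t r)] [Fintype G] [Fintype (IrrCharacter G)] in
/-- GW_KLEIN.md, section 3. -/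
theorem exists_small_char_of_formula (h : Hyp t r s) (hS : Split t r A) {S₀ : ℚ} (h8 : 8 / 15 ≤ S₀)
    (hF : (Nat.card G : ℚ) * (Nat.card (coreW t r) : ℚ) ^ 2 * S₀ = 32 * (Nat.card (coreU t) : ℚ) ^ 3)
    (θ : coreW t r →* ℂˣ) (hθ : θ ≠ 1) :
    ∃ χ : G → ℂ, IsIrrCharacter G χ ∧ χ ≠ 1 ∧ (χ t = 1 ∨ χ t = -1) ∧ ∃ N : ℕ, χ 1 = N ∧ N ≤ 15 ∧
      ((∀ v v' : coreW t r, (v' : G) = s * v * s⁻¹ → θ v' = θ v) → N ≤ 7) := by
  classical
  haveI := Fintype.ofFinite G
  haveI := Fintype.ofFinite (IrrCharacter G)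
  haveI := Fintype.ofFinite (coreU t)
  haveI := Fintype.ofFinite (coreW t r)
  haveI := Fintype.ofFinite A
  choose deg hpos hdeg _hcd using fun χ : IrrCharacter G => ClassCount.exists_degree_eq χ
  obtain ⟨l, hA, hW⟩ := hS.exists_extension θ
  have hl1 : ∀ (θ₁ : coreW t r →* ℂˣ) (l₁ : coreU t →* ℂ),
      (∀ (w : coreW t r) (x : coreU t), (x : G) = w → l₁ x = (θ₁ w : ℂ)) → θ₁ ≠ 1 → l₁ ≠ 1 := by
    intro θ₁ l₁ hw₁ hne e
    refine hne (MonoidHom.ext fun w => Units.ext ?_)
    rw [← hw₁ w ⟨w, Split.coreW_le t r w.2⟩ rfl, e]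
    rfl
  obtain ⟨a, ha, ha1, ha4, haN, hane⟩ := exists_coefFun h hS deg (fun χ => ⟨hpos χ, hdeg χ⟩) hA (hl1 θ l hW hθ)
  -- the four characters in the support
  set supp := Finset.univ.filter fun χ => a χ ≠ 0 with hsupp
  have hsupp_card : Nat.card supp = 4 := by
    have : ∑ χ, a χ ^ 2 = ∑ χ, if a χ ≠ 0 then (1 : ℤ) else 0 :=
      Finset.sum_congr rfl fun χ _ => by rcases ha1 χ with e | e | e <;> simp [e]
    rw [ha4, Finset.sum_boole, ← hsupp] at this
    rw [Nat.card_eq_finsetCard]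
    exact_mod_cast this.symm
  set e : Fin 4 ≃ supp := (finCongr hsupp_card).symm.trans (Finite.equivFin supp).symm with he
  have hsum : ∀ g : IrrCharacter G → ℚ, (∀ χ, a χ = 0 → g χ = 0) → ∑ χ, g χ = ∑ i, g (e i) := by
    intro g hg
    rw [Equiv.sum_comp e (fun χ : supp => g χ), Finset.sum_coe_sort supp g]
    exact (Finset.sum_subset (Finset.subset_univ _) fun χ _ hχ => hg χ (by simpa [hsupp] using hχ)).symm
  have hes : ∀ i, a (e i) = 1 ∨ a (e i) = -1 := fun i =>
    (ha1 _).resolve_left (Finset.mem_filter.1 (e i).2).2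
  have hSsum : ∀ v : IrrCharacter G → ℤ, (∀ χ : IrrCharacter G, a χ ≠ 0 → (χ : G → ℂ) t = v χ) →
      S₀ = ∑ i, (a (e i) : ℚ) * (v (e i) : ℚ) ^ 2 / (deg (e i) : ℚ) := by
    intro v hv
    rw [← hsum (fun χ => (a χ : ℚ) * (v χ : ℚ) ^ 2 / (deg χ : ℚ)) fun χ hχ => by simp [hχ]]
    have hw0 : (Nat.card (coreW t r) : ℚ) ≠ 0 := Nat.cast_ne_zero.2 Nat.card_pos.ne'
    have hG0 : (Nat.card G : ℚ) ≠ 0 := Nat.cast_ne_zero.2 Nat.card_pos.ne'
    have hwc := weighted_count h hS hA
    have hterm : ∀ χ : IrrCharacter G, conj (classInner (tFun t (χ : G → ℂ)) l) * (χ : G → ℂ) t ^ 2 / (χ : G → ℂ) 1 =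
        (((a χ : ℚ) * (v χ : ℚ) ^ 2 / (deg χ : ℚ) : ℚ) : ℂ) := by
      intro χ
      rw [ha, map_intCast, hdeg]
      push_cast
      by_cases hχ : a χ = 0
      · simp [hχ]
      · rw [hv χ hχ]
    simp only [hterm, ← Rat.cast_sum] at hwc
    have hwc' : (Nat.card G : ℚ) * ∑ χ, (a χ : ℚ) * (v χ : ℚ) ^ 2 / (deg χ : ℚ) =
        32 * (Nat.card (coreU t) : ℚ) * (Nat.card A : ℚ) ^ 2 := by
      exact_mod_cast hwc
    rw [hS.card_coreU] at hF hwc'
    push_cast at hF hwc'
    refine mul_left_cancel₀ (mul_ne_zero hG0 (pow_ne_zero 2 hw0)) ?_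
    linear_combination hF - (Nat.card (coreW t r) : ℚ) ^ 2 * hwc'
  have hN : ∀ i, (0 : ℚ) < deg (e i) := fun i => Nat.cast_pos.2 (hpos _)
  have haN' : ∑ i, (a (e i) : ℚ) * deg (e i) = 0 := by
    rw [← hsum (fun χ => (a χ : ℚ) * deg χ) fun χ hχ => by simp [hχ]]
    exact haN
  by_cases hinv : ∀ v v' : coreW t r, (v' : G) = s * v * s⁻¹ → θ v' = θ v
  · have hv : ∀ χ : IrrCharacter G, a χ ≠ 0 → (χ : G → ℂ) t = a χ := fun χ hχ =>
      apply_t_of_invariant h hS χ θ hinv hA hW (ha χ) ((ha1 χ).resolve_left hχ)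
    have hS0 := hSsum a hv
    obtain ⟨i, hi⟩ := small_arith_invariant (fun i => (a (e i) : ℚ)) (fun i => (deg (e i) : ℚ))
      (fun i => by rcases hes i with e' | e' <;> simp [e']) hN haN'
      (le_of_le_of_eq h8 (hS0.trans (Finset.sum_congr rfl fun i _ => by
        rcases hes i with e' | e' <;> simp [e'])))
    have h7 : deg (e i) ≤ 7 := by
      by_contra hc
      have : (8 : ℚ) ≤ deg (e i) := by exact_mod_cast Nat.lt_of_not_le hc
      norm_num at hi
      linarith
    exact ⟨_, (e i).1.2, hane _ (Finset.mem_filter.1 (e i).2).2, by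
      rw [hv _ (Finset.mem_filter.1 (e i).2).2]; rcases hes i with e' | e' <;> simp [e'],
      deg (e i), hdeg _, by omega, fun _ => h7⟩
  · let cs : coreW t r →* coreW t r :=
      { toFun := fun w => ⟨s * w * s⁻¹, h.s_conj_mem w.2⟩
        map_one' := Subtype.ext (by simp)
        map_mul' := fun x y => Subtype.ext (by simp only [coe_mul]; group) }
    have hcs : ∀ v v' : coreW t r, (v' : G) = s * v * s⁻¹ → v' = cs v := fun v v' e => Subtype.ext e
    have hcsurj : Function.Surjective cs := Finite.surjective_of_injective fun x y e =>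
      Subtype.ext (mul_left_cancel (mul_right_cancel (congrArg Subtype.val e)))
    set θ₂ := θ.comp cs with hθ₂
    set θ₃ := θ₂.comp cs with hθ₃
    have hne12 : θ₂ ≠ θ := fun e => hinv fun v v' hv => by
      rw [hcs v v' hv]; exact DFunLike.congr_fun e v
    have hne23 : θ₃ ≠ θ₂ := fun e => hne12 (MonoidHom.ext fun w => by
      obtain ⟨x, rfl⟩ := hcsurj w
      exact DFunLike.congr_fun e x)
    have hne13 : θ₃ ≠ θ := fun e => hne12 (MonoidHom.ext fun w => by
      have h1 := DFunLike.congr_fun e (cs w)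
      simp only [hθ₃, hθ₂, MonoidHom.comp_apply] at h1
      exact h1.symm.trans (apply_s_cube h θ w (cs (cs (cs w))) rfl))
    have hne2 : θ₂ ≠ 1 := fun e => hθ (MonoidHom.ext fun w => by
      obtain ⟨x, rfl⟩ := hcsurj w
      exact DFunLike.congr_fun e x)
    have hne3 : θ₃ ≠ 1 := fun e => hne2 (MonoidHom.ext fun w => by
      obtain ⟨x, rfl⟩ := hcsurj w
      exact DFunLike.congr_fun e x)
    obtain ⟨l₂, hA₂, hW₂⟩ := hS.exists_extension θ₂
    obtain ⟨l₃, hA₃, hW₃⟩ := hS.exists_extension θ₃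
    obtain ⟨b, hb, hb1, hb4, hbN, -⟩ := exists_coefFun h hS deg (fun χ => ⟨hpos χ, hdeg χ⟩) hA₂ (hl1 θ₂ l₂ hW₂ hne2)
    obtain ⟨c, hc, hc1, hc4, hcN, -⟩ := exists_coefFun h hS deg (fun χ => ⟨hpos χ, hdeg χ⟩) hA₃ (hl1 θ₃ l₃ hW₃ hne3)
    have hzero : ∀ χ, (a χ = 0 → b χ = 0 ∧ c χ = 0) ∧ (a χ ≠ 0 → (b χ = 1 ∨ b χ = -1) ∧ (c χ = 1 ∨ c χ = -1)) := by
      intro χ
      have e1 : Even (a χ - b χ) := coef_congr h hS χ.2 θ θ₂
        (fun v v' hv => by rw [hcs v v' hv]; rfl) hA hW hA₂ hW₂ (ha χ) (hb χ)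
      have e2 : Even (b χ - c χ) := coef_congr h hS χ.2 θ₂ θ₃
        (fun v v' hv => by rw [hcs v v' hv]; rfl) hA₂ hW₂ hA₃ hW₃ (hb χ) (hc χ)
      rw [Int.even_iff] at e1 e2
      have p := ha1 χ
      have q := hb1 χ
      have z := hc1 χ
      constructor <;> intro h0 <;> constructor <;> omega
    have hlne : ∀ (θ₁ θ' : coreW t r →* ℂˣ) (l₁ l' : coreU t →* ℂ),
        (∀ (w : coreW t r) (x : coreU t), (x : G) = w → l₁ x = (θ₁ w : ℂ)) →
        (∀ (w : coreW t r) (x : coreU t), (x : G) = w → l' x = (θ' w : ℂ)) → θ' ≠ θ₁ →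
        (l₁ : coreU t → ℂ) ≠ l' := fun θ₁ θ' l₁ l' p q hne e => hne (MonoidHom.ext fun w => Units.ext (by
      rw [← p w ⟨w, Split.coreW_le t r w.2⟩ rfl, ← q w ⟨w, Split.coreW_le t r w.2⟩ rfl, e]))
    have h12 := hlne θ θ₂ l l₂ hW hW₂ hne12
    have h13 := hlne θ θ₃ l l₃ hW hW₃ hne13
    have h23 := hlne θ₂ θ₃ l₂ l₃ hW₂ hW₃ hne23
    have hv : ∀ χ : IrrCharacter G, a χ ≠ 0 → (χ : G → ℂ) t = ((a χ + b χ + c χ : ℤ) : ℂ) := fun χ hχ => by
      push_cast
      refine apply_t_of_three h χ h12 h13 h23 (ha χ) (hb χ) (hc χ) ?_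
      rcases (ha1 χ).resolve_left hχ with p | p <;> rcases ((hzero χ).2 hχ).1 with q | q <;>
        rcases ((hzero χ).2 hχ).2 with z | z <;> simp [p, q, z]
    have horth : ∀ (f g : IrrCharacter G → ℤ) (l₁ l' : coreU t →* ℂ) (θ' : coreW t r →* ℂˣ),
        (∀ χ : IrrCharacter G, classInner (tFun t (χ : G → ℂ)) l₁ = f χ) →
        (∀ χ : IrrCharacter G, classInner (tFun t (χ : G → ℂ)) l' = g χ) →
        (∀ x : coreU t, (x : G) ∈ A → l' x = 1) → (l₁ : coreU t → ℂ) ≠ l' →
        (∀ χ, a χ = 0 → f χ = 0) → ∑ i, (f (e i) : ℚ) * g (e i) = 0 := by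
      intro f g l₁ l' _ hf hg hA' hne hf0
      have := orth_coef h l₁ l' fun c hc ρ y hy => hS.apply_conj h hA' hc ρ y hy
      rw [Char.classInner_irr_of_ne (Char.isIrrCharacter_of_hom l') (Char.isIrrCharacter_of_hom l₁) hne.symm,
        mul_zero] at this
      simp only [hf, hg, map_intCast] at this
      rw [← hsum (fun χ => (f χ : ℚ) * g χ) fun χ hχ => by simp [hf0 χ hχ]]
      exact_mod_cast this
    have hSS := hSsum (fun χ => a χ + b χ + c χ) hv
    push_cast at hSS
    have hne : ∀ i, a (e i) ≠ 0 := fun i => (Finset.mem_filter.1 (e i).2).2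
    obtain ⟨i, hi1, hi2⟩ := small_arith_three (fun i => (a (e i) : ℚ)) (fun i => (b (e i) : ℚ))
      (fun i => (c (e i) : ℚ)) (fun i => (deg (e i) : ℚ))
      (fun i => by rcases hes i with q | q <;> simp [q])
      (fun i => by rcases ((hzero _).2 (hne i)).1 with q | q <;> simp [q])
      (fun i => by rcases ((hzero _).2 (hne i)).2 with q | q <;> simp [q]) hN
      (horth a b l l₂ θ ha hb hA₂ h12 fun χ hχ => hχ)
      (horth a c l l₃ θ ha hc hA₃ h13 fun χ hχ => hχ)
      (horth b c l₂ l₃ θ hb hc hA₃ h23 fun χ hχ => ((hzero χ).1 hχ).1)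
      haN'
      (by rw [← hsum (fun χ => (b χ : ℚ) * deg χ) fun χ hχ => by simp [((hzero χ).1 hχ).1]]; exact hbN)
      (by rw [← hsum (fun χ => (c χ : ℚ) * deg χ) fun χ hχ => by simp [((hzero χ).1 hχ).2]]; exact hcN)
      (le_of_le_of_eq h8 hSS)
    refine ⟨_, (e i).1.2, hane _ (hne i), Or.inr ?_, deg (e i), hdeg _, by exact_mod_cast hi2, fun hh => absurd hh hinv⟩
    rw [hv _ (hne i)]
    have : a (e i) + b (e i) + c (e i) = -1 := by exact_mod_cast hi1
    rw [this]
    norm_num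

end Cfsg.Agent.GWKlein
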