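import Cfsg.Agent.Lib.GWKlein.Deduce
import Cfsg.Agent.Lib.GWKlein.SmallChar
import Cfsg.Agent.Lib.GWKlein.DegreeBound
import Cfsg.Agent.Lib.GWKlein.General.Count
import Cfsg.Agent.Lib.GWKlein.OrderFormula
import Cfsg.Agent.Lib.GWKlein.Ratio

/-!
# Gorenstein-Walter, Klein case: the character bounds combined

`Hyp.splitCentral`: `W` centralises the inverted part of `U`, from the order formula.
`psl_of_solvable_locals`: theorem A.
-/

set_option autoImplicit false

namespace Cfsg.Agent.GWKlein

open Subgroup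

universe u

variable {G : Type u} [Group G] [Finite G] {t r s : G}

/-- A non-trivial solvable finite group has a non-trivial linear character. -/
theorem exists_linear_ne_one {W : Type*} [Group W] [Finite W] [Nontrivial W] [Group.IsSolvable W] :
    ∃ θ : W →* ℂˣ, θ ≠ 1 := by
  classical
  haveI : NeZero (Monoid.exponent (Abelianization W)) := ⟨Monoid.exponent_ne_zero_of_finite⟩
  haveI : NeZero ((Monoid.exponent (Abelianization W) : ℕ) : ℂ) := ⟨Nat.cast_ne_zero.2 (NeZero.ne _)⟩
  obtain ⟨x, hx⟩ := SetLike.exists_not_mem_of_ne_top (commutator W)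
    (Group.IsSolvable.commutator_lt_top_of_nontrivial W).ne rfl
  have hx1 : (Abelianization.of x : Abelianization W) ≠ 1 := fun e => hx ((QuotientGroup.eq_one_iff x).1 e)
  obtain ⟨φ, hφ⟩ := CommGroup.exists_apply_ne_one_of_hasEnoughRootsOfUnity (Abelianization W) ℂ hx1
  exact ⟨φ.comp Abelianization.of, fun e => hφ (DFunLike.congr_fun e x)⟩

/-- The inverted part of `U` is centralised by `W`. -/
theorem Hyp.splitCentral [IsSimpleGroup G] (h : Hyp t r s) (hF : OrderFormula t r) : SplitCentral t r := by
  intro A hA hW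
  by_contra hnc
  obtain ⟨S₀, h8, hS⟩ := hF
  haveI : Group.IsSolvable (coreW t r) := Coprime.isSolvable_of_le (coreW_le_coreU t r) h.isSolvable_coreU
  haveI : Nontrivial (coreW t r) := (nontrivial_iff_ne_bot _).2 hW
  by_cases h3 : 3 ∣ (commutator (coreW t r)).index
  · obtain ⟨θ, hθ, hθs⟩ := exists_invariant_linear h h3
    obtain ⟨χ, hχ, hχ1, hχt, N, hN, -, hN7⟩ := exists_small_char_of_formula h hA h8 hS θ hθ
    have := (degree_bound h hA hnc hχ hχ1 hχt hN).1
    have := hN7 hθs
    omega
  · obtain ⟨θ, hθ⟩ := exists_linear_ne_one (W := coreW t r)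
    obtain ⟨χ, hχ, hχ1, hχt, N, hN, hN15, -⟩ := exists_small_char_of_formula h hA h8 hS θ hθ
    have := (degree_bound h hA hnc hχ hχ1 hχt hN).2 h3
    omega

/-- **Gorenstein-Walter**, Klein case with solvable odd locals, from the order formula and the ratio lemma. -/
theorem psl_of_orderFormula [IsSimpleGroup G] (h : Hyp t r s) (hns : ¬ Group.IsSolvable G)
    (hR : ∀ t' r' s' : G, Hyp t' r' s' → RatioLemma t' r') (hF : OrderFormula t r)
    (hloc : ∀ p : ℕ, p.Prime → p ≠ 2 → SolvableLocals G p) :
    ∃ (F : Type) (_ : Field F) (_ : Fintype F), Odd (Fintype.card F) ∧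
      Nonempty (G ≃* Matrix.ProjectiveSpecialLinearGroup (Fin 2) F) :=
  psl_of_inputs h hns hR (h.splitCentral hF) hloc

/-- **Gorenstein-Walter, theorem A**: a simple group with a Klein four Sylow 2-subgroup all whose local subgroups
of odd characteristic are solvable is a `PSL(2,q)`, `q` odd. -/
theorem psl_of_solvable_locals [IsSimpleGroup G] (P : Sylow 2 G) [hP : IsKleinFour (P : Subgroup G)]
    (hloc : ∀ p : ℕ, p.Prime → p ≠ 2 → SolvableLocals G p) :
    ∃ (F : Type) (_ : Field F) (_ : Fintype F), Odd (Fintype.card F) ∧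
      Nonempty (G ≃* Matrix.ProjectiveSpecialLinearGroup (Fin 2) F) := by
  obtain ⟨t, r, s, h, -⟩ := exists_hyp P
  exact psl_of_orderFormula h (not_isSolvable_of_simple (KleinSimple.not_abelian_of_klein _ hP))
    (fun t' r' s' h' => h'.ratioLemma h'.orderFormula) h.orderFormula hloc

end Cfsg.Agent.GWKlein
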