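import Cfsg.Agent.Lib.GWKlein.SmallCharCoef
import Cfsg.Agent.Lib.ClassCount.CharSum

/-!
# Gorenstein-Walter, Klein case: the columns on `tU` (owner: helper38)

* `orth_coef`, `sum_degree_coef`, `coef_trivial` : orthogonality of the coefficient vectors
* `norm_tFun` : a character has norm at most three on `tU`
* `weighted_count` : pairs of involutions with product in `tU`, weighted by a linear character
-/

set_option autoImplicit false
set_option linter.style.haveILetI false

open scoped ComplexConjugate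

namespace Cfsg.Agent.GWKlein

open Cfsg Subgroup

variable {G : Type*} [Group G] [Finite G] {t r s : G} {A : Subgroup G}

theorem pow_eq_t (h : Hyp t r s) (ρ : coreU t) : (t * (ρ : G)) ^ Nat.card (coreU t) = t := by
  obtain ⟨k, hk⟩ := h.odd_coreU
  rw [(commute_of_mem_coreU ρ.2).symm.mul_pow, show (ρ : G) ^ Nat.card (coreU t) = 1 from
    congrArg Subtype.val (pow_card_eq_one' (x := ρ)), mul_one, hk, pow_succ, pow_mul, pow_two,
    h.mul_self_t, one_pow, one_mul]

theorem tU_ne_one (h : Hyp t r s) (ρ : coreU t) : t * (ρ : G) ≠ 1 := fun e => by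
  have := pow_eq_t h ρ
  rw [e, one_pow] at this
  exact h.ne_one_t this.symm

theorem mem_centralizer_of_conj (h : Hyp t r s) {ρ ρ' : coreU t} {g : G}
    (e : g * (t * ρ) * g⁻¹ = t * ρ') :
    g ∈ centralizer ({t} : Set G) ∧ g * ρ * g⁻¹ = ρ' := by
  have hg : g * t * g⁻¹ = t := by
    have := congrArg (· ^ Nat.card (coreU t)) e
    simpa only [conj_pow, pow_eq_t h] using this
  refine ⟨mem_centralizer_singleton_iff.2 (mul_inv_eq_iff_eq_mul.1 hg), ?_⟩
  rw [← conj_mul, hg] at e
  exact mul_left_cancel e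

open Classical in
theorem column_tU [Fintype (IrrCharacter G)] [Fintype G] (ρ ρ' : coreU t) :
    ∑ χ : IrrCharacter G, (χ : G → ℂ) (t * ρ) * conj ((χ : G → ℂ) (t * ρ')) =
      ((Finset.univ.filter fun g : G => g * (t * ρ) * g⁻¹ = t * ρ').card : ℂ) := by
  rw [Char.column_orth]
  split_ifs with hc
  · obtain ⟨g₀, hg₀⟩ := isConj_iff.1 hc
    congr 1
    rw [← Fintype.card_subtype, ← Nat.card_eq_fintype_card]
    refine Nat.card_congr ⟨fun c => ⟨g₀ * c, ?_⟩, fun d => ⟨g₀⁻¹ * d, ?_⟩, fun c => ?_, fun d => ?_⟩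
    · have := mem_centralizer_singleton_iff.1 c.2
      rw [← hg₀, show g₀ * (c : G) * (t * ρ) * (g₀ * (c : G))⁻¹ =
        g₀ * ((c : G) * (t * ρ)) * (c : G)⁻¹ * g₀⁻¹ by group, this]
      group
    · rw [mem_centralizer_singleton_iff]
      calc g₀⁻¹ * (d : G) * (t * ρ) = g₀⁻¹ * ((d : G) * (t * ρ) * (d : G)⁻¹) * d := by group
        _ = g₀⁻¹ * (g₀ * (t * ρ) * g₀⁻¹) * d := by rw [d.2, hg₀]
        _ = t * ρ * (g₀⁻¹ * d) := by group
    · exact Subtype.ext (inv_mul_cancel_left g₀ (c : G))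
    · exact Subtype.ext (mul_inv_cancel_left g₀ (d : G))
  · rw [Finset.filter_false_of_mem fun g _ e => hc (isConj_iff.2 ⟨g, e⟩)]
    simp

variable [Fintype (coreU t)]

theorem sum_conj_linear [Fintype G] (h : Hyp t r s) (l : coreU t →* ℂ)
    (hl : ∀ c ∈ centralizer ({t} : Set G), ∀ ρ y : coreU t, (y : G) = c * ρ * c⁻¹ → l y = l ρ)
    (ρ : coreU t) [∀ ρ' : coreU t, DecidablePred fun g : G => g * (t * ρ) * g⁻¹ = t * ρ'] :
    ∑ ρ' : coreU t, l ρ' * ((Finset.univ.filter fun g : G => g * (t * ρ) * g⁻¹ = t * ρ').card : ℂ) =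
      4 * (Nat.card (coreU t) : ℂ) * l ρ := by
  classical
  have e : ∀ ρ' : coreU t, l ρ' * ((Finset.univ.filter fun g : G => g * (t * ρ) * g⁻¹ = t * ρ').card : ℂ) =
      ∑ g : G, if g * (t * ρ) * g⁻¹ = t * ρ' then l ρ' else 0 := fun ρ' => by
    rw [← Finset.sum_filter, Finset.sum_const, nsmul_eq_mul, mul_comm]
  simp only [e]
  rw [Finset.sum_comm, Finset.sum_congr rfl (g := fun g => if g ∈ centralizer ({t} : Set G) then l ρ else 0)
    fun g _ => ?_]
  · rw [← Finset.sum_filter, Finset.sum_const, nsmul_eq_mul, ← Fintype.card_subtype,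
      ← Nat.card_eq_fintype_card, h.card_centralizer]
    push_cast; ring
  by_cases hg : g ∈ centralizer ({t} : Set G)
  · have hmem : g * ρ * g⁻¹ ∈ coreU t :=
      (mem_normalizer_iff.1 (centralizer_le_normalizer_coreU t hg) _).1 ρ.2
    have hgt : g * (t * ρ) * g⁻¹ = t * (g * ρ * g⁻¹) := by
      rw [← conj_mul, show g * t * g⁻¹ = t from mul_inv_eq_iff_eq_mul.2 (mem_centralizer_singleton_iff.1 hg)]
    rw [if_pos hg, Finset.sum_eq_single ⟨_, hmem⟩]
    · rw [if_pos hgt]; exact hl g hg ρ _ rfl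
    · intro ρ' _ hne
      exact if_neg fun e => hne (Subtype.ext (mul_left_cancel (hgt.symm.trans e)).symm)
    · exact fun hh => absurd (Finset.mem_univ _) hh
  · rw [if_neg hg]
    exact Finset.sum_eq_zero fun ρ' _ => if_neg fun e => hg (mem_centralizer_of_conj h e).1

variable [Fintype (IrrCharacter G)] [Fintype G]

theorem orth_coef (h : Hyp t r s) (l l' : coreU t →* ℂ)
    (hl' : ∀ c ∈ centralizer ({t} : Set G), ∀ ρ y : coreU t, (y : G) = c * ρ * c⁻¹ → l' y = l' ρ) :
    ∑ χ : IrrCharacter G, classInner (tFun t (χ : G → ℂ)) l * conj (classInner (tFun t (χ : G → ℂ)) l') =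
      4 * classInner (l' : coreU t → ℂ) l := by
  classical
  have hu : (Nat.card (coreU t) : ℂ) ≠ 0 := Nat.cast_ne_zero.2 Nat.card_pos.ne'
  refine mul_left_cancel₀ (mul_ne_zero hu hu) ?_
  rw [Finset.mul_sum]
  have e : ∀ χ : IrrCharacter G, (Nat.card (coreU t) : ℂ) * Nat.card (coreU t) *
      (classInner (tFun t (χ : G → ℂ)) l * conj (classInner (tFun t (χ : G → ℂ)) l')) =
      ∑ ρ : coreU t, ∑ ρ' : coreU t, conj (l ρ) * l' ρ' * ((χ : G → ℂ) (t * ρ) * conj ((χ : G → ℂ) (t * ρ'))) := by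
    intro χ
    calc _ = ((Nat.card (coreU t) : ℂ) * classInner (tFun t (χ : G → ℂ)) l) *
          conj ((Nat.card (coreU t) : ℂ) * classInner (tFun t (χ : G → ℂ)) l') := by
            rw [map_mul, Complex.conj_natCast]; ring
      _ = _ := by
        rw [Char.card_mul_classInner, Char.card_mul_classInner, map_sum, Finset.sum_mul_sum]
        refine Finset.sum_congr rfl fun ρ _ => Finset.sum_congr rfl fun ρ' _ => ?_
        simp only [tFun, map_mul, Complex.conj_conj]
        ring
  simp only [e]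
  rw [Finset.sum_comm]
  have e2 : ∀ ρ : coreU t, ∑ χ : IrrCharacter G, ∑ ρ' : coreU t,
      conj (l ρ) * l' ρ' * ((χ : G → ℂ) (t * ρ) * conj ((χ : G → ℂ) (t * ρ'))) =
      4 * (Nat.card (coreU t) : ℂ) * (l' ρ * conj (l ρ)) := by
    intro ρ
    rw [Finset.sum_comm]
    simp only [← Finset.mul_sum, column_tU]
    have := sum_conj_linear h l' hl' ρ
    simp only [mul_assoc, ← Finset.mul_sum] at this ⊢
    rw [this]
    ring
  simp only [e2, ← Finset.mul_sum]
  rw [← Char.card_mul_classInner]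
  ring

theorem sum_degree_coef (h : Hyp t r s) (φ : coreU t → ℂ) :
    ∑ χ : IrrCharacter G, classInner (tFun t (χ : G → ℂ)) φ * (χ : G → ℂ) 1 = 0 := by
  classical
  have e : ∀ χ : IrrCharacter G, classInner (tFun t (χ : G → ℂ)) φ * (χ : G → ℂ) 1 =
      ∑ ρ : coreU t, (Nat.card (coreU t) : ℂ)⁻¹ * conj (φ ρ) * ((χ : G → ℂ) (t * ρ) * conj ((χ : G → ℂ) 1)) := by
    intro χ
    rw [classInner, Finset.mul_sum, Finset.sum_mul,
      Char.IsCharacter.conj_apply_one (Char.IsIrrCharacter.isCharacter χ.2)]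
    exact Finset.sum_congr rfl fun ρ _ => by simp only [tFun]; ring
  simp only [e]
  rw [Finset.sum_comm]
  refine Finset.sum_eq_zero fun ρ _ => ?_
  rw [← Finset.mul_sum, Char.column_orth, if_neg, mul_zero]
  intro hc
  exact tU_ne_one h ρ (isConj_one_left.1 hc)

omit [Fintype (IrrCharacter G)] [Fintype G] in
theorem coef_trivial {l : coreU t →* ℂ} (hl : l ≠ 1) : classInner (tFun t (1 : G → ℂ)) l = 0 := by
  have : ∑ g : coreU t, conj (l g) = 0 := by rw [← map_sum, sum_hom_units_eq_zero l hl, map_zero]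
  simp [classInner, tFun, this]

omit [Fintype (IrrCharacter G)] in
/-- A character has norm at most three on `tU`. -/
theorem norm_tFun (h : Hyp t r s) (χ : IrrCharacter G) :
    ∃ n : ℤ, classInner (tFun t (χ : G → ℂ)) (tFun t (χ : G → ℂ)) = n ∧ n ≤ 3 := by
  classical
  have hχ := Char.IsIrrCharacter.isCharacter χ.2
  obtain ⟨a, m, ha, -, -⟩ := exists_coef h.mul_self_t
    (Char.IsCharacter.mul hχ (Char.IsCharacter.conj hχ)) (φ := 1) Char.isCharacter_one
  have ha' : classInner (tFun t (χ : G → ℂ)) (tFun t (χ : G → ℂ)) = a := by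
    rw [← ha]; simp [classInner, tFun]
  refine ⟨a, ha', ?_⟩
  set f : G → ℝ := fun g => ‖(χ : G → ℂ) g‖ ^ 2 with hf
  set u := Nat.card (coreU t) with hu
  have h1 : ((Nat.card G : ℝ)⁻¹ * ∑ g, f g) = 1 := by
    have := Char.classInner_irr_self χ.2
    rw [Char.classInner_self_eq] at this
    exact_mod_cast this
  have h2 : ((u : ℝ)⁻¹ * ∑ ρ : coreU t, f (t * ρ)) = a := by
    rw [Char.classInner_self_eq] at ha'
    simp only [tFun] at ha'
    exact_mod_cast ha'
  have hG : (0 : ℝ) < Nat.card G := Nat.cast_pos.2 Nat.card_pos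
  have hu0 : (0 : ℝ) < u := Nat.cast_pos.2 Nat.card_pos
  rw [inv_mul_eq_iff_eq_mul₀ hG.ne', mul_one] at h1
  rw [inv_mul_eq_iff_eq_mul₀ hu0.ne'] at h2
  have h3 : ∑ p : G × coreU t, f (t * p.2) = Nat.card G * (u * a) := by
    rw [Fintype.sum_prod_type]
    simp only [h2, Finset.sum_const, Finset.card_univ, ← Nat.card_eq_fintype_card, nsmul_eq_mul]
  set F : G × coreU t → G := fun p => p.1 * (t * p.2) * p.1⁻¹ with hF
  have h4 : ∑ p : G × coreU t, f (t * p.2) = ∑ p : G × coreU t, f (F p) :=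
    Finset.sum_congr rfl fun p _ => by
      simp only [hf, hF]
      rw [Char.IsIrrCharacter.isClassFunction χ.2]
  have h5 : ∑ p : G × coreU t, f (F p) ≤ 4 * u * ∑ z ∈ Finset.univ.erase (1 : G), f z := by
    rw [← Finset.sum_fiberwise_of_maps_to (g := F) (t := Finset.univ.erase (1 : G)) (fun p _ => ?_), Finset.mul_sum]
    · refine Finset.sum_le_sum fun z _ => ?_
      rw [Finset.sum_congr rfl (g := fun _ => f z) fun p hp => by rw [(Finset.mem_filter.1 hp).2],
        Finset.sum_const, nsmul_eq_mul]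
      refine mul_le_mul_of_nonneg_right ?_ (sq_nonneg _)
      rw [show (4 : ℝ) * u = ((4 * u : ℕ) : ℝ) by push_cast; ring]
      refine Nat.cast_le.2 ?_
      rw [hu, ← h.card_centralizer, Nat.card_eq_fintype_card, Fintype.card_subtype]
      rcases (Finset.univ.filter fun p => F p = z).eq_empty_or_nonempty with he | ⟨p₀, hp₀⟩
      · rw [he, Finset.card_empty]; exact Nat.zero_le _
      have hkey : ∀ p ∈ Finset.univ.filter (fun p => F p = z),
          p₀.1⁻¹ * p.1 ∈ centralizer ({t} : Set G) ∧ (p₀.1⁻¹ * p.1) * p.2 * (p₀.1⁻¹ * p.1)⁻¹ = p₀.2 := by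
        intro p hp
        refine mem_centralizer_of_conj h ?_
        have e : p.1 * (t * p.2) * p.1⁻¹ = p₀.1 * (t * p₀.2) * p₀.1⁻¹ :=
          (Finset.mem_filter.1 hp).2.trans (Finset.mem_filter.1 hp₀).2.symm
        rw [show p₀.1⁻¹ * p.1 * (t * p.2) * (p₀.1⁻¹ * p.1)⁻¹ = p₀.1⁻¹ * (p.1 * (t * p.2) * p.1⁻¹) * p₀.1 by group, e]
        group
      refine Finset.card_le_card_of_injOn (fun p => p₀.1⁻¹ * p.1)
        (fun p hp => Finset.mem_filter.2 ⟨Finset.mem_univ _, (hkey p hp).1⟩) fun p hp q hq e => ?_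
      have e1 : p.1 = q.1 := mul_left_cancel e
      have e2 := (hkey p hp).2.trans (hkey q hq).2.symm
      rw [e1] at e2
      exact Prod.ext e1 (Subtype.ext (mul_left_cancel (mul_right_cancel e2)))
    · refine Finset.mem_erase.2 ⟨fun e => tU_ne_one h p.2 ?_, Finset.mem_univ _⟩
      exact conj_eq_one_iff.1 e
  have h6 : ∑ z ∈ Finset.univ.erase (1 : G), f z < Nat.card G := by
    rw [Finset.sum_erase_eq_sub (Finset.mem_univ 1), h1]
    have : 0 < f 1 := by
      simp only [hf]
      have := Char.IsIrrCharacter.apply_one_ne_zero χ.2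
      positivity
    linarith
  rw [← h4, h3] at h5
  have : (a : ℝ) < 4 := by
    by_contra hge
    push Not at hge
    have h7 : (Nat.card G : ℝ) * (u * a) < 4 * u * Nat.card G :=
      h5.trans_lt (mul_lt_mul_of_pos_left h6 (by positivity))
    nlinarith [mul_le_mul_of_nonneg_left hge (mul_nonneg hG.le hu0.le)]
  have : a < 4 := by exact_mod_cast this
  omega

omit [Fintype (coreU t)] [Fintype (IrrCharacter G)] [Fintype G] in
theorem fibreCount_eq (h : Hyp t r s) (hS : Split t r A) (ρ : coreU t) :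
    ((ρ : G) ∈ A → ClassCount.fibreCount t t (t * ρ) = 2 * Nat.card A) ∧
      ((ρ : G) ∉ A → ClassCount.fibreCount t t (t * ρ) = 0) := by
  classical
  have hconj : ∀ x : G, IsConj t x ↔ orderOf x = 2 := fun x => ⟨fun e => by
    obtain ⟨c, rfl⟩ := isConj_iff.1 e
    rw [Involution.orderOf_conj, h.order_t], h.isConj_t⟩
  have hρt := commute_of_mem_coreU ρ.2
  have hnr : ∀ x ∈ coreU t, x ≠ r ∧ x ≠ t * r ∧ x ≠ t := fun x hx => by
    refine ⟨?_, ?_, ?_⟩ <;> intro e <;> have := h.odd_orderOf hx <;> rw [e] at this <;>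
      simp only [h.order_t, h.order_r, h.order_mul] at this <;> exact absurd this (by decide)
  have hord : ∀ a ∈ A, orderOf (a * r) = 2 ∧ orderOf (a * (t * r)) = 2 := by
    intro a ha
    have hat := commute_of_mem_coreU (hS.le ha)
    have e1 : a * r * (a * r) = 1 := by
      rw [show a * r * (a * r) = a * (r * a * r⁻¹) * (r * r) by group, hS.inverts a ha, mul_inv_cancel,
        h.mul_self_r, one_mul]
    refine ⟨Involution.orderOf_of_sq e1 fun e => (hnr a⁻¹ (inv_mem (hS.le ha))).1 (inv_eq_of_mul_eq_one_right e),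
      Involution.orderOf_of_sq ?_ fun e => (hnr a⁻¹ (inv_mem (hS.le ha))).2.1 (inv_eq_of_mul_eq_one_right e)⟩
    rw [show a * (t * r) * (a * (t * r)) = (a * t) * (r * (a * t)) * r by group,
      show r * (a * t) = r * a * t by group, hat.eq]
    rw [show t * a * (r * a * t) * r = t * (a * (r * a)) * (t * r) by group, h.comm.eq,
      show t * (a * (r * a)) * (r * t) = t * (a * r * (a * r)) * t by group, e1, mul_one, h.mul_self_t]
  -- the candidates and their partners
  have key : ∀ g : G, (IsConj t g ∧ IsConj t (g⁻¹ * (t * ρ))) →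
      (ρ : G) ∈ A ∧ ∃ a ∈ A, g = a * r ∨ g = a * (t * r) := by
    rintro g ⟨hg, hg'⟩
    rw [hconj] at hg hg'
    have hgg := Involution.mul_self hg
    have hkk := Involution.mul_self hg'
    rw [Involution.inv_eq hg] at hkk hg'
    have hgC : g ∈ centralizer ({t} : Set G) := by
      have e : g * (t * ρ) * g⁻¹ = (t * (ρ : G))⁻¹ := by
        rw [Involution.inv_eq hg]
        exact eq_inv_of_mul_eq_one_left (by rw [← hkk]; group)
      have := congrArg (· ^ Nat.card (coreU t)) e
      simp only [conj_pow, inv_pow, pow_eq_t h, Involution.inv_eq h.order_t] at this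
      exact mem_centralizer_singleton_iff.2 (mul_inv_eq_iff_eq_mul.1 this)
    rcases h.involution_cases hS hgC hg with rfl | ⟨a, ha, hga⟩
    · exfalso
      rw [← mul_assoc, h.mul_self_t, one_mul] at hg'
      have := h.odd_orderOf ρ.2
      rw [hg'] at this
      exact absurd this (by decide)
    refine ⟨?_, a, ha, hga⟩
    have hk := h.involution_cases hS (g := g * (t * ρ)) (mul_mem hgC (mul_mem
      (mem_centralizer_singleton_iff.2 rfl) (coreU_le_centralizer t ρ.2))) hg'
    have hrt := h.comm.symm.eq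
    have hnorm : ∀ x ∈ coreU t, r * x * r⁻¹ ∈ coreU t := fun x hx =>
      (mem_normalizer_iff.1 (h.fourV_le_normalizer_coreU (right_mem_fourV t r)) x).1 hx
    -- multiply out: `g (t ρ) = a x r` or `a x t r` with `x = r ρ r⁻¹`
    have hx : (r * (ρ : G) * r⁻¹) ∈ A → (ρ : G) ∈ A := fun hh => by
      have e := hS.inverts _ hh
      rw [Involution.inv_eq h.order_r] at e hh
      rw [show (r * (r * (ρ : G) * r) * r) = (r * r) * ρ * (r * r) by group, h.mul_self_r, one_mul, mul_one] at e
      rw [e]; exact inv_mem hh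
    set x := r * (ρ : G) * r⁻¹ with hxdef
    have hxU : x ∈ coreU t := hnorm _ ρ.2
    refine hx ?_
    have hxt : Commute x t := commute_of_mem_coreU hxU
    have hat := commute_of_mem_coreU (hS.le ha)
    have main : g * (t * ρ) = a * x * (t * r) ∨ g * (t * ρ) = a * x * r := by
      rcases hga with e | e
      · left; rw [e]
        calc a * r * (t * ρ) = a * (r * t) * ρ := by group
          _ = a * (t * r) * ρ := by rw [hrt]
          _ = a * (t * x) * r := by rw [hxdef]; group
          _ = a * (x * t) * r := by rw [hxt.eq]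
          _ = _ := by group
      · right; rw [e]
        calc a * (t * r) * (t * ρ) = a * (t * (r * t)) * ρ := by group
          _ = a * (t * (t * r)) * ρ := by rw [hrt]
          _ = a * (t * t) * r * ρ := by group
          _ = _ := by rw [h.mul_self_t, mul_one, hxdef]; group
    have hax : a * x ∈ coreU t := mul_mem (hS.le ha) hxU
    have hfin : a * x ∈ A → x ∈ A := fun hh => by
      have := A.mul_mem (A.inv_mem ha) hh
      rwa [inv_mul_cancel_left] at this
    refine hfin ?_
    rcases main with e | e <;> rcases hk with hk | ⟨b, hb, hk | hk⟩ <;> rw [e] at hk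
    · exact absurd (show a * x = r by
        rw [← eq_mul_inv_iff_mul_eq] at hk
        rw [hk, mul_inv_rev, Involution.inv_eq h.order_r, Involution.inv_eq h.order_t, ← mul_assoc, h.comm.eq, mul_assoc, h.mul_self_t, mul_one]) (hnr _ hax).1
    · exfalso
      refine (hnr _ (mul_mem (inv_mem (hS.le hb)) hax)).2.2 ?_
      have e2 : b⁻¹ * (a * x) * t * r = r := by
        rw [show b⁻¹ * (a * x) * t * r = b⁻¹ * (a * x * (t * r)) by group, hk, inv_mul_cancel_left]
      have e3 := mul_eq_right.1 e2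
      rw [← mul_eq_one_iff_eq_inv.1 e3 |>.trans (Involution.inv_eq h.order_t)]
    · exact (mul_right_cancel hk) ▸ hb
    · exact absurd (show a * x = t * r by
        rw [← eq_mul_inv_iff_mul_eq] at hk
        rw [hk, Involution.inv_eq h.order_r]) (hnr _ hax).2.1
    · exact (mul_right_cancel hk) ▸ hb
    · exfalso
      refine (hnr _ (mul_mem (inv_mem (hS.le hb)) hax)).2.2 ?_
      have e2 : b⁻¹ * (a * x) * r = t * r := by
        rw [show b⁻¹ * (a * x) * r = b⁻¹ * (a * x * r) by group, hk, inv_mul_cancel_left]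
      exact mul_right_cancel e2
  constructor
  · intro hρ
    rw [ClassCount.fibreCount, ← Nat.card_congr (Equiv.ofBijective
      (fun p : A × Bool => (⟨(p.1 : G) * (if p.2 then r else t * r), ?_, ?_⟩ :
        {g : G // IsConj t g ∧ IsConj t (g⁻¹ * (t * ρ))})) ⟨?_, ?_⟩), Nat.card_prod,
      Nat.card_eq_fintype_card (α := Bool), Fintype.card_bool, mul_comm]
    rotate_left 2
    · rw [hconj]; rcases p.2 <;> simp [hord p.1 p.1.2]
    · rw [hconj]
      have hinv : ((p.1 : G) * (if p.2 then r else t * r))⁻¹ = (p.1 : G) * (if p.2 then r else t * r) :=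
        Involution.inv_eq (by rcases p.2 <;> simp [hord p.1 p.1.2])
      rw [hinv]
      have e : ∀ a ∈ A, a * r * (t * ρ) = (a * (ρ : G)⁻¹) * (t * r) ∧
          a * (t * r) * (t * ρ) = (a * (ρ : G)⁻¹) * r := by
        intro a ha
        have hi : r * (ρ : G) = (ρ : G)⁻¹ * r := by rw [← hS.inverts _ hρ]; group
        have ht := hρt.inv_left.eq
        constructor
        · calc a * r * (t * ρ) = a * (r * t) * ρ := by group
            _ = a * (t * r) * ρ := by rw [h.comm.eq]
            _ = a * t * (r * ρ) := by group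
            _ = a * t * ((ρ : G)⁻¹ * r) := by rw [hi]
            _ = a * (t * (ρ : G)⁻¹) * r := by group
            _ = a * ((ρ : G)⁻¹ * t) * r := by rw [ht]
            _ = _ := by group
        · calc a * (t * r) * (t * ρ) = a * (t * (r * t)) * ρ := by group
            _ = a * (t * (t * r)) * ρ := by rw [h.comm.eq]
            _ = a * (t * t) * (r * ρ) := by group
            _ = _ := by rw [h.mul_self_t, hi, mul_one]; group
      rcases p.2
      · simp only [Bool.false_eq_true, if_false, (e p.1 p.1.2).2]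
        exact (hord _ (A.mul_mem p.1.2 (A.inv_mem hρ))).1
      · simp only [if_true, (e p.1 p.1.2).1]
        exact (hord _ (A.mul_mem p.1.2 (A.inv_mem hρ))).2
    · rintro ⟨a, b⟩ ⟨a', b'⟩ e
      have e' := congrArg Subtype.val e
      rcases b <;> rcases b' <;> simp only [Bool.false_eq_true, if_false, if_true] at e'
      · exact Prod.ext (Subtype.ext (mul_right_cancel e')) rfl
      · exfalso
        refine (hnr ((a : G)⁻¹ * a') (mul_mem (inv_mem (hS.le a.2)) (hS.le a'.2))).2.2 ?_
        refine mul_right_cancel (b := r) ?_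
        rw [mul_assoc, ← e', inv_mul_cancel_left]
      · exfalso
        refine (hnr ((a' : G)⁻¹ * a) (mul_mem (inv_mem (hS.le a'.2)) (hS.le a.2))).2.2 ?_
        refine mul_right_cancel (b := r) ?_
        rw [mul_assoc, e', inv_mul_cancel_left]
      · exact Prod.ext (Subtype.ext (mul_right_cancel e')) rfl
    · rintro ⟨g, hg⟩
      obtain ⟨-, a, ha, e | e⟩ := key g hg
      · exact ⟨(⟨a, ha⟩, true), Subtype.ext (by simp [e])⟩
      · exact ⟨(⟨a, ha⟩, false), Subtype.ext (by simp [e])⟩
  · intro hρ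
    haveI : IsEmpty {g : G // IsConj t g ∧ IsConj t (g⁻¹ * (t * ρ))} := ⟨fun g => hρ (key g.1 g.2).1⟩
    rw [ClassCount.fibreCount]
    exact Nat.card_of_isEmpty

/-- Pairs of involutions with product in `tU`, weighted. -/
theorem weighted_count (h : Hyp t r s) (hS : Split t r A) {l : coreU t →* ℂ}
    (hA : ∀ a : coreU t, (a : G) ∈ A → l a = 1) :
    (Nat.card G : ℂ) * ∑ χ : IrrCharacter G, conj (classInner (tFun t (χ : G → ℂ)) l) *
        (χ : G → ℂ) t ^ 2 / (χ : G → ℂ) 1 =
      32 * (Nat.card (coreU t) : ℂ) * (Nat.card A : ℂ) ^ 2 := by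
  classical
  set u := Nat.card (coreU t) with hu
  set m := Nat.card {g : G // IsConj t g} with hm
  have hm4 : (m : ℂ) * (4 * u) = Nat.card G := by
    rw [← ClassCount.card_class_mul_card_centralizer t, h.card_centralizer, hu, hm]; push_cast; ring
  have hfc : ∑ ρ : coreU t, l ρ * (ClassCount.fibreCount t t (t * ρ) : ℂ) = 2 * (Nat.card A : ℂ) ^ 2 := by
    trans ∑ ρ : coreU t, if (ρ : G) ∈ A then ((2 * Nat.card A : ℕ) : ℂ) else 0
    swap
    · rw [← Finset.sum_filter, Finset.sum_const, nsmul_eq_mul, ← Fintype.card_subtype,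
        ← Nat.card_eq_fintype_card]
      have e : Nat.card {ρ : coreU t // (ρ : G) ∈ A} = Nat.card A :=
        Nat.card_congr
          { toFun := fun ρ => ⟨ρ.1, ρ.2⟩
            invFun := fun a => ⟨⟨a, hS.le a.2⟩, a.2⟩
            left_inv := fun ρ => rfl
            right_inv := fun a => rfl }
      rw [e]; push_cast; ring
    · refine Finset.sum_congr rfl fun ρ _ => ?_
      by_cases hρ : (ρ : G) ∈ A
      · rw [if_pos hρ, (fibreCount_eq h hS ρ).1 hρ, hA ρ hρ, one_mul]
      · rw [if_neg hρ, (fibreCount_eq h hS ρ).2 hρ, Nat.cast_zero, mul_zero]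
  have key : (Nat.card G : ℂ) * (2 * (Nat.card A : ℂ) ^ 2) = (m : ℂ) ^ 2 * u *
      ∑ χ : IrrCharacter G, conj (classInner (tFun t (χ : G → ℂ)) l) * (χ : G → ℂ) t ^ 2 / (χ : G → ℂ) 1 := by
    rw [← hfc, Finset.mul_sum, Finset.mul_sum]
    have e : ∀ ρ : coreU t, (Nat.card G : ℂ) * (l ρ * (ClassCount.fibreCount t t (t * ρ) : ℂ)) =
        l ρ * ∑ χ : IrrCharacter G, (χ : G → ℂ) 1 * ClassCount.omega (χ : G → ℂ) t *
          ClassCount.omega (χ : G → ℂ) t * conj ((χ : G → ℂ) (t * ρ)) := fun ρ => by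
      rw [mul_left_comm, ClassCount.card_mul_fibreCount]
      simp only [Char.IsCharacter.apply_inv (Char.IsIrrCharacter.isCharacter (Subtype.prop _))]
    simp only [e, Finset.mul_sum]
    rw [Finset.sum_comm]
    refine Finset.sum_congr rfl fun χ _ => ?_
    have h0 : (χ : G → ℂ) 1 ≠ 0 := Char.IsIrrCharacter.apply_one_ne_zero χ.2
    have hc : conj ((u : ℂ) * classInner (tFun t (χ : G → ℂ)) l) = ∑ ρ : coreU t, l ρ * conj ((χ : G → ℂ) (t * ρ)) := by
      rw [hu, Char.card_mul_classInner, map_sum]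
      exact Finset.sum_congr rfl fun ρ _ => by rw [map_mul, Complex.conj_conj, tFun, mul_comm]
    rw [map_mul, Complex.conj_natCast] at hc
    rw [Finset.sum_congr rfl (g := fun ρ => ((χ : G → ℂ) 1 * ClassCount.omega (χ : G → ℂ) t *
      ClassCount.omega (χ : G → ℂ) t) * (l ρ * conj ((χ : G → ℂ) (t * ρ)))) fun ρ _ => by ring,
      ← Finset.mul_sum, ← hc, ClassCount.omega, ← hm]
    field_simp
  have hm0 : (m : ℂ) ≠ 0 := by
    rw [hm, ClassCount.card_class_eq_index]; exact Nat.cast_ne_zero.2 index_ne_zero_of_finite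
  generalize ∑ χ : IrrCharacter G, conj (classInner (tFun t (χ : G → ℂ)) l) * (χ : G → ℂ) t ^ 2 / (χ : G → ℂ) 1
    = S at key ⊢
  refine mul_left_cancel₀ hm0 ?_
  linear_combination (-4 : ℂ) * key - ((m : ℂ) * S + 8 * (Nat.card A : ℂ) ^ 2) * hm4

end Cfsg.Agent.GWKlein
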