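import Cfsg.Agent.Lib.GWKlein.SmallChar
import Cfsg.Agent.Lib.GWKlein.OrderFormula

/-!
# Gorenstein-Walter, Klein case: `exists_small_char` (owner: helper38)
-/

set_option autoImplicit false

namespace Cfsg.Agent.GWKlein

open Cfsg Subgroup

universe u

/-- A non-trivial linear character of `W` gives a character of small degree with value `±1` at `t`. -/
theorem exists_small_char {G : Type u} [Group G] [Finite G] {t r s : G} {A : Subgroup G}
    (h : Hyp t r s) (hS : Split t r A) (θ : coreW t r →* ℂˣ) (hθ : θ ≠ 1) :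
    ∃ χ : G → ℂ, IsIrrCharacter G χ ∧ χ ≠ 1 ∧ (χ t = 1 ∨ χ t = -1) ∧ ∃ N : ℕ, χ 1 = N ∧ N ≤ 15 ∧
      ((∀ v v' : coreW t r, (v' : G) = s * v * s⁻¹ → θ v' = θ v) → N ≤ 7) := by
  obtain ⟨S₀, h8, hF⟩ := h.orderFormula
  exact exists_small_char_of_formula h hS h8 hF θ hθ

end Cfsg.Agent.GWKlein
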